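import Groth.Agent.AlgSt.K738.Agree
import Groth.Prelude.Def_AlgSt3

/-!
# The diagonal of a 1-morphism representable by algebraic spaces
-/

set_option autoImplicit false
set_option backward.isDefEq.respectTransparency false
set_option backward.isDefEq.respectTransparency.types false

universe w₁ v₁ w' v' w v u

open CategoryTheory CategoryTheory.Limits AlgebraicGeometry Opposite AlgSp

namespace K738

variable {S : Scheme.{u}} {𝒳 : BasedCategory.{v, w} (Over S)} {𝒴 : BasedCategory.{v', w'} (Over S)}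

/-- Let the base change of `f` along the composite `(Sch/U) ⟶ 𝒳 ×_𝒴 𝒳 ⟶ 𝒴` be represented by the algebraic space `F`
with its map `π` to `h_U`.  Then the base change of the diagonal of `f` is represented by a scheme `V`, the base
change of the diagonal of `π` along two sections of `π`. -/
theorem exists_diag (f : 𝒳 ⥤ᵇ 𝒴) {U : Over S} (y : FibCat.overCat U ⥤ᵇ FibCat.fp f f)
    {F : Sp S} (hF : Representable (Limits.diag F)) {π : F ⟶ (yon S).obj U}
    (R : SecRep (FibCat.fpFst (BasedFunctor.comp (cmp₁ f y) f) f) F π) :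
    ∃ (V : Over S) (i : V ⟶ U) (fst : (yon S).obj V ⟶ F) (s₁ s₂ : (yon S).obj U ⟶ F)
      (h : s₁ ≫ π = s₂ ≫ π), s₁ ≫ π = 𝟙 _ ∧
      IsPullback fst ((yon S).map i) (pullback.diagonal π) (pullback.lift s₁ s₂ h) ∧ Mono i ∧
      Nonempty (SecRep (FibCat.fpFst y (FibCat.diag f)) ((yon S).obj V) ((yon S).map i)) := by
  obtain ⟨V, i, fst, sq, hm, hi, hi'⟩ := exists_agree hF (sg₁ R) (sg₂ R)
  have h1 : (J S).uliftYonedaEquiv.symm (sg₁ R) ≫ π = 𝟙 _ := by
    rw [(J S).uliftYonedaEquiv_symm_naturality_right]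
    apply (J S).uliftYonedaEquiv.injective
    rw [Equiv.apply_symm_apply]
    refine (R.proj ((sc₁ f y).obj (Over.mk (𝟙 U)))).trans ?_
    apply ULift.ext
    change 𝟙 U ≫ 𝟙 U = 𝟙 U
    simp
  have h2 : (J S).uliftYonedaEquiv.symm (sg₂ R) ≫ π = 𝟙 _ := by
    rw [(J S).uliftYonedaEquiv_symm_naturality_right]
    apply (J S).uliftYonedaEquiv.injective
    rw [Equiv.apply_symm_apply]
    refine (R.proj ((sc₂ f y).obj (Over.mk (𝟙 U)))).trans ?_
    apply ULift.ext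
    change 𝟙 U ≫ 𝟙 U = 𝟙 U
    simp
  exact ⟨V, i, fst, _, _, h1.trans h2.symm, h1, isPullback_relative π _ _ _ _ _ sq, hm,
    nonempty_secRep_diag R i hi' hi hm⟩

/-- The same, for a 1-morphism representable by algebraic spaces. -/
theorem exists_diag' {f : 𝒳 ⥤ᵇ 𝒴} {P : MorphismProperty (Sp S)} (hf : AlgSt.RepByAlgSpWith P f)
    {U : Over S} (y : FibCat.overCat U ⥤ᵇ FibCat.fp f f) :
    ∃ (F : Space S) (π : F.obj ⟶ (yon S).obj U) (V : Over S) (i : V ⟶ U)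
      (fst : (yon S).obj V ⟶ F.obj) (s₁ s₂ : (yon S).obj U ⟶ F.obj)
      (h : s₁ ≫ π = s₂ ≫ π), P π ∧ s₁ ≫ π = 𝟙 _ ∧
      IsPullback fst ((yon S).map i) (pullback.diagonal π) (pullback.lift s₁ s₂ h) ∧ Mono i ∧
      Nonempty (SecRep (FibCat.fpFst y (FibCat.diag f)) ((yon S).obj V) ((yon S).map i)) := by
  obtain ⟨F, e, he, hP⟩ := hf U (BasedFunctor.comp (cmp₁ f y) f)
  obtain ⟨R⟩ := SecRep.nonempty_of_equiv
    (FibCat.fpFst (BasedFunctor.comp (cmp₁ f y) f) f) e he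
  obtain ⟨V, i, fst, s₁, s₂, h, h1, h2, h3, h4⟩ := exists_diag f y F.property.diag R
  exact ⟨F, _, V, i, fst, s₁, s₂, h, hP, h1, h2, h3, h4⟩

theorem repByAlgSpWith_top_iff {f : 𝒳 ⥤ᵇ 𝒴} : AlgSt.RepByAlgSpWith ⊤ f ↔ AlgSt.RepByAlgSp1 f := by
  constructor
  · intro h U y
    obtain ⟨F, e, he, _⟩ := h U y
    exact ⟨F, e, he⟩
  · intro h U y
    obtain ⟨F, e, he⟩ := h U y
    exact ⟨F, e, he, trivial⟩

/-- From an elementwise representation, for each test, to `RepByAlgSpWith`. -/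
theorem repByAlgSpWith_of_secRep {P : MorphismProperty (Sp S)} {f : 𝒳 ⥤ᵇ 𝒴}
    (h : ∀ (U : Over S) (y : FibCat.overCat U ⥤ᵇ 𝒴), ∃ (F : Space S) (π : F.obj ⟶ (yon S).obj U),
      P π ∧ Nonempty (SecRep (FibCat.fpFst y f) F.obj π)) : AlgSt.RepByAlgSpWith P f := by
  intro U y
  obtain ⟨F, π, hP, ⟨R⟩⟩ := h U y
  obtain ⟨e, he, h1⟩ := R.exists_equiv
  exact ⟨F, e, he, by rw [h1]; exact hP⟩

theorem repByAlgSpWith_iff_secRep {P : MorphismProperty (Sp S)} {f : 𝒳 ⥤ᵇ 𝒴} :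
    AlgSt.RepByAlgSpWith P f ↔
    ∀ (U : Over S) (y : FibCat.overCat U ⥤ᵇ 𝒴), ∃ (F : Space S) (π : F.obj ⟶ (yon S).obj U),
      P π ∧ Nonempty (SecRep (FibCat.fpFst y f) F.obj π) := by
  refine ⟨fun h U y => ?_, repByAlgSpWith_of_secRep⟩
  obtain ⟨F, e, he, hP⟩ := h U y
  exact ⟨F, _, hP, SecRep.nonempty_of_equiv _ e he⟩

/-- Criterion for a property of the diagonal of a functor representable by algebraic spaces. -/
theorem repByAlgSpWith_diag {f : 𝒳 ⥤ᵇ 𝒴} {P Q : MorphismProperty (Sp S)}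
    (hf : AlgSt.RepByAlgSpWith P f)
    (h : ∀ {F : Space S} {U V : Over S} (π : F.obj ⟶ (yon S).obj U) (i : V ⟶ U)
      (fst : (yon S).obj V ⟶ F.obj) (g : (yon S).obj U ⟶ pullback π π), P π →
      IsPullback fst ((yon S).map i) (pullback.diagonal π) g → Mono i → Q ((yon S).map i)) :
    AlgSt.RepByAlgSpWith Q (FibCat.diag f) := by
  apply repByAlgSpWith_of_secRep
  intro U y
  obtain ⟨F, π, V, i, fst, s₁, s₂, hs, hP, h1, h2, h3, h4⟩ := exists_diag' hf y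
  exact ⟨(ofScheme S).obj V, (yon S).map i, h π i fst _ hP h2 h3, h4⟩

/-- `ofSch V` is equivalent to the slice. -/
theorem isEquivOver_toOverCat (V : Over S) : FibCat.IsEquivOver (AlgSt.toOverCat V) :=
  ⟨AlgSt.ofOverCat V, ⟨Iso.refl _⟩, ⟨Iso.refl _⟩⟩

theorem isRepresentable1_diag {f : 𝒳 ⥤ᵇ 𝒴} (hf : AlgSt.RepByAlgSp1 f) :
    FibCat.IsRepresentable1 (FibCat.diag f) := by
  intro U y
  obtain ⟨F, π, V, i, fst, s₁, s₂, hs, hP, h1, h2, h3, ⟨R⟩⟩ :=
    exists_diag' (repByAlgSpWith_top_iff.2 hf) y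
  exact ⟨V, BasedFunctor.comp R.toOfSp (AlgSt.toOverCat V),
    Equiv.isEquivOver_comp R.isEquivOver_toOfSp (isEquivOver_toOverCat V)⟩

theorem isMono_diag {f : 𝒳 ⥤ᵇ 𝒴} (hf : AlgSt.RepByAlgSp1 f) :
    AlgSt.IsMono (FibCat.diag f) := by
  refine repByAlgSpWith_diag (repByAlgSpWith_top_iff.2 hf) ?_
  intro F U V π i fst g _ sq hi
  exact (inferInstance : Mono ((yon S).map i))

end K738
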