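import Groth.Prelude.Def_AlgSp4

/-!
# Properties of morphisms of sheaves respect isomorphisms
-/

set_option autoImplicit false
set_option backward.isDefEq.respectTransparency false
set_option backward.isDefEq.respectTransparency.types false

universe u

open CategoryTheory CategoryTheory.Limits AlgebraicGeometry Opposite AlgSp

namespace K738.RespIso

section

variable {C : Type*} [Category C] {Z Z' F F' G G' : C}

theorem isPullback_pre {fst : Z' ⟶ F'} {snd : Z' ⟶ Z} {e : F' ⟶ F} {f : F ⟶ G} {g : Z ⟶ G}
    [IsIso e] (h : IsPullback fst snd (e ≫ f) g) : IsPullback (fst ≫ e) snd f g :=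
  IsPullback.of_iso h (Iso.refl _) (asIso e) (Iso.refl _) (Iso.refl _) (by simp) (by simp)
    (by simp) (by simp)

theorem isPullback_post {fst : Z' ⟶ F} {snd : Z' ⟶ Z} {e : G ⟶ G'} {f : F ⟶ G} {g : Z ⟶ G'}
    [IsIso e] (h : IsPullback fst snd (f ≫ e) g) : IsPullback fst snd f (g ≫ inv e) :=
  IsPullback.of_iso h (Iso.refl _) (Iso.refl _) (Iso.refl _) (asIso e).symm (by simp) (by simp)
    (by simp) (by simp)

end

variable {S : Scheme.{u}}

theorem univSp (Q : MorphismProperty (Sp S)) : (UnivSp Q).RespectsIso :=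
  MorphismProperty.RespectsIso.mk _
    (fun e _ hf _ _ hZ g _ _ sq => hf hZ g _ _ (isPullback_pre (e := e.hom) sq))
    (fun e _ hf _ _ hZ g _ _ sq => hf hZ _ _ _ (isPullback_post (e := e.hom) sq))

instance isUnivClosedMor : (IsUnivClosedMor (S := S)).RespectsIso := univSp _

instance isUnivOpenMor : (IsUnivOpenMor (S := S)).RespectsIso := univSp _

instance isUnivInjectiveMor : (IsUnivInjectiveMor (S := S)).RespectsIso := univSp _

instance isUnivSubmersiveMor : (IsUnivSubmersiveMor (S := S)).RespectsIso := univSp _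

instance isUnivHomeoMor : (IsUnivHomeoMor (S := S)).RespectsIso := univSp _

instance isQuasiCompactMor : (IsQuasiCompactMor (S := S)).RespectsIso :=
  MorphismProperty.RespectsIso.mk _
    (fun e _ hf _ _ hZ hc g _ _ sq => hf hZ hc g _ _ (isPullback_pre (e := e.hom) sq))
    (fun e _ hf _ _ hZ hc g _ _ sq => hf hZ hc _ _ _ (isPullback_post (e := e.hom) sq))

instance locP (P : MorphismProperty Scheme.{u}) : (LocP (S := S) P).RespectsIso :=
  MorphismProperty.RespectsIso.mk _
    (fun e _ hf _ _ a b h ha hb w => hf (a ≫ e.hom) b h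
      ((RepWith @Etale).cancel_right_of_respectsIso a e.hom |>.2 ha) hb
      (by rw [Category.assoc]; exact w))
    (fun e _ hf _ _ a b h ha hb w => hf a (b ≫ e.inv) h ha
      ((RepWith @Etale).cancel_right_of_respectsIso b e.inv |>.2 hb)
      (by rw [← Category.assoc, ← w]; simp))

instance inf (P Q : MorphismProperty (Sp S)) [P.RespectsIso] [Q.RespectsIso] :
    (P ⊓ Q).RespectsIso :=
  MorphismProperty.RespectsIso.mk _
    (fun e f hf => ⟨(P.cancel_left_of_respectsIso e.hom f).2 hf.1,
      (Q.cancel_left_of_respectsIso e.hom f).2 hf.2⟩)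
    (fun e f hf => ⟨(P.cancel_right_of_respectsIso f e.hom).2 hf.1,
      (Q.cancel_right_of_respectsIso f e.hom).2 hf.2⟩)

/-- Properties of the diagonal. -/
theorem diagonal (P : MorphismProperty (Sp S)) [P.RespectsIso] :
    MorphismProperty.RespectsIso (fun {_ _} (f : _ ⟶ _) => P (pullback.diagonal f) :
      MorphismProperty (Sp S)) := by
  refine MorphismProperty.RespectsIso.mk _ ?_ ?_
  · intro X Y Z e f hf
    have h : pullback.diagonal (e.hom ≫ f) ≫ pullback.map (e.hom ≫ f) (e.hom ≫ f) f f e.hom e.hom
        (𝟙 _) (by simp) (by simp) = e.hom ≫ pullback.diagonal f := by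
      apply pullback.hom_ext <;> simp
    have h2 := (P.cancel_left_of_respectsIso e.hom (pullback.diagonal f)).2 hf
    rw [← h] at h2
    exact (P.cancel_right_of_respectsIso _ _).1 h2
  · intro X Y Z e f hf
    have h : pullback.diagonal f ≫ pullback.map f f (f ≫ e.hom) (f ≫ e.hom) (𝟙 _) (𝟙 _) e.hom
        (by simp) (by simp) = pullback.diagonal (f ≫ e.hom) := by
      apply pullback.hom_ext <;> simp
    have h2 : P (pullback.diagonal (f ≫ e.hom)) := by
      rw [← h]
      exact (P.cancel_right_of_respectsIso _ _).2 hf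
    exact h2

instance isSeparatedMor : (IsSeparatedMor (S := S)).RespectsIso := diagonal _

instance isQuasiSeparatedMor : (IsQuasiSeparatedMor (S := S)).RespectsIso := diagonal _

instance isFiniteTypeMor : (IsFiniteTypeMor (S := S)).RespectsIso :=
  inf (LocP @LocallyOfFiniteType) IsQuasiCompactMor

instance isProperMor : (IsProperMor (S := S)).RespectsIso := by
  have := inf (IsFiniteTypeMor (S := S)) IsUnivClosedMor
  exact inf (IsSeparatedMor (S := S)) (IsFiniteTypeMor ⊓ IsUnivClosedMor)

end K738.RespIso
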