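import Groth.Agent.S9912
import Groth.Agent.S9922
import Groth.Agent.AlgSp.K597.LocP
import Groth.Agent.AlgSp.K597.EtLoc
import Groth.Prelude.Def_AlgSp4
import Mathlib.AlgebraicGeometry.ZariskisMainTheorem

/-!
# Properties of morphisms of algebraic spaces on maps of schemes
-/

set_option autoImplicit false

universe u

open CategoryTheory CategoryTheory.Limits AlgebraicGeometry Opposite AlgSp

namespace K738

variable {S : Scheme.{u}}

theorem locP_yon_iff {P : MorphismProperty Scheme.{u}} (hP : K597.IsListed P) {U V : Over S}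
    (g : U ⟶ V) : LocP P ((yon S).map g) ↔ P g.left := by
  have := K597.stableBC_of_listed hP
  rw [K597.locP_iff_repWith (K597.etLoc_of_listed hP) (IsAlgSpace.yon_obj V).hasAtlas
    (representable_yon_map g), repWith_yon_map_iff]

theorem locP_lft_yon_iff {U V : Over S} (g : U ⟶ V) :
    LocP @LocallyOfFiniteType ((yon S).map g) ↔ LocallyOfFiniteType g.left :=
  locP_yon_iff (Or.inl rfl) g

theorem isQuasiCompactMor_yon_iff {U V : Over S} (g : U ⟶ V) :
    IsQuasiCompactMor ((yon S).map g) ↔ QuasiCompact g.left :=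
  (Groth.Agent.S9912.result ((ofScheme S).map g) (representable_yon_map g)).symm.trans
    (repWith_yon_map_iff _ g)

theorem isUnivClosedMor_yon_iff {U V : Over S} (g : U ⟶ V) :
    IsUnivClosedMor ((yon S).map g) ↔ UniversallyClosed g.left :=
  (Groth.Agent.S9922.result ((ofScheme S).map g) (representable_yon_map g)).symm.trans
    (repWith_yon_map_iff _ g)

theorem isFiniteTypeMor_yon_iff {U V : Over S} (g : U ⟶ V) :
    IsFiniteTypeMor ((yon S).map g) ↔ LocallyOfFiniteType g.left ∧ QuasiCompact g.left :=
  and_congr (locP_lft_yon_iff g) (isQuasiCompactMor_yon_iff g)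

theorem isProperMor_yon_iff {U V : Over S} (g : U ⟶ V) :
    IsProperMor ((yon S).map g) ↔ IsProper g.left := by
  refine (and_congr (isSeparatedMor_yon_map_iff g) (and_congr (isFiniteTypeMor_yon_iff g)
    (isUnivClosedMor_yon_iff g))).trans ?_
  constructor
  · rintro ⟨h1, ⟨h2, h3⟩, h4⟩
    exact {}
  · intro h
    exact ⟨inferInstance, ⟨inferInstance, inferInstance⟩, inferInstance⟩

theorem isClosedImmersion_of_univClosed {X Y : Scheme.{u}} (f : X ⟶ Y) [Mono f]
    [LocallyOfFiniteType f] [UniversallyClosed f] : IsClosedImmersion f :=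
  (IsClosedImmersion.iff_isProper_and_mono f).2 ⟨{}, inferInstance⟩

end K738
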