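import Groth.Agent.AlgSt.K738.LftCore
import Groth.Agent.AlgSt.K738.YonProps
import Groth.Agent.AlgSt.K738.RepDiag
import Groth.Agent.AlgSt.K738.RespIso
import Groth.Agent.AlgSp.K630.Kit
import Mathlib.AlgebraicGeometry.Morphisms.LocalFlatDescent

/-!
# The diagonal of an algebraic stack is locally of finite type
-/

set_option autoImplicit false
set_option backward.isDefEq.respectTransparency false
set_option backward.isDefEq.respectTransparency.types false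

universe w₁ v₁ w' v' w v u

open CategoryTheory CategoryTheory.Limits AlgebraicGeometry Opposite AlgSp

namespace K738

namespace Lft

open K739.Isom K739.Diag K739.Rep

variable {S : Scheme.{u}}

theorem lft_gr {T V : Over S} (b : T ⟶ V) : LocallyOfFiniteType (gr b).left := by
  have h : LocallyOfFiniteType ((gr b).left ≫ (pullback.fst (toFinal T) (toFinal V)).left) := by
    rw [← Over.comp_left, gr_fst]
    change LocallyOfFiniteType (𝟙 T.left)
    infer_instance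
  exact locallyOfFiniteType_of_comp _ (pullback.fst (toFinal T) (toFinal V)).left

theorem locP_lft_of_repWith {F G : Sp S} {f : F ⟶ G} (hf : RepWith @LocallyOfFiniteType f) :
    LocP @LocallyOfFiniteType f :=
  K597.locP_of_repWith (fun _ _ _ e f he hf => by
    have : LocallyOfFiniteType e := inferInstance
    have : LocallyOfFiniteType f := hf
    exact (inferInstance : LocallyOfFiniteType (e ≫ f))) hf

theorem locP_lft_comp {F G H : Sp S} {f : F ⟶ G} {g : G ⟶ H} (hF : IsAlgSpace F) (hG : IsAlgSpace G)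
    (hH : IsAlgSpace H) (hf : LocP @LocallyOfFiniteType f) (hg : LocP @LocallyOfFiniteType g) :
    LocP @LocallyOfFiniteType (f ≫ g) :=
  K597.locP_comp K597.etLoc_lft hF.hasAtlas hG.hasAtlas hH.hasAtlas hf hg

section

variable {𝒳 : BasedCategory.{u, w} (Over S)} (h𝒳 : FibCat.IsFibGrpd 𝒳.p)
  (h𝒮 : FibCat.IsFibGrpd (FibCat.selfOver (Over S)).p)
  {T V : Over S} {z₁ z₂ : FibCat.overCat T ⥤ᵇ 𝒳} {v : FibCat.overCat V ⥤ᵇ 𝒳} {b : T ⟶ V}
  (α : z₂ ≅ BasedFunctor.comp (AlgSt.overMap b) v)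
  (φ : BasedFunctor.comp z₁ (FibCat.toSelf 𝒳) ≅ BasedFunctor.comp z₂ (FibCat.toSelf 𝒳))

include α in
theorem repPsh_lft {F : Sp S} (hF : IsAlgSpace F) {π : F ⟶ (yon S).obj T} (hπ : LocP @LocallyOfFiniteType π)
    (R : SecRep (FibCat.fpFst z₁ v) F π) :
    RepPsh (LocP @LocallyOfFiniteType) (toBase (FibCat.toSelf 𝒳) z₁ z₂ φ h𝒳 h𝒮) := by
  obtain ⟨ρ, hρ⟩ := R.exists_desc (FibCat.fpSnd z₁ v)
  have sq := isPullback_toF h𝒳 h𝒮 α φ R hρ
  have sqC := IsPullback.of_hasPullback (pr π ρ) ((yon S).map (gr b))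
  have sqC' := sqC.map (sheafToPresheaf (AlgSp.J S) _)
  have hC : IsAlgSpace (pullback (pr π ρ) ((yon S).map (gr b))) :=
    K613.Chart.isAlgSpace_pullback hF (IsAlgSpace.yon_obj _) (IsAlgSpace.yon_obj _) _ _
  have h1 : pullback.snd (pr π ρ) ((yon S).map (gr b)) = pullback.fst (pr π ρ) ((yon S).map (gr b)) ≫ π := by
    have h2 : pullback.fst (pr π ρ) ((yon S).map (gr b)) ≫ (pr π ρ ≫ (yon S).map (pullback.fst _ _)) =
        pullback.snd (pr π ρ) ((yon S).map (gr b)) ≫ ((yon S).map (gr b) ≫ (yon S).map (pullback.fst _ _)) := by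
      rw [← Category.assoc, pullback.condition, Category.assoc]
    rw [pr_fst, ← Functor.map_comp, gr_fst, CategoryTheory.Functor.map_id, Category.comp_id] at h2
    exact h2.symm
  have hP : LocP @LocallyOfFiniteType (pullback.snd (pr π ρ) ((yon S).map (gr b))) := by
    rw [h1]
    refine locP_lft_comp hC hF (IsAlgSpace.yon_obj T) (locP_lft_of_repWith ?_) hπ
    exact K597.repWith_bc' _ sqC ((repWith_yon_map_iff _ _).2 (lft_gr b))
  refine ⟨⟨_, hC⟩, sqC'.isoIsPullback _ _ sq, ?_⟩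
  convert hP using 1
  apply ObjectProperty.hom_ext
  exact sqC'.isoIsPullback_hom_snd _ _ sq

end

/-- Descent of `LocallyOfFiniteType` along a smooth surjective base change. -/
theorem locP_lft_of_smooth {F F' : Sp S} (hF : IsAlgSpace F) {T U : Over S} {q : F ⟶ (yon S).obj U} {k : T ⟶ U}
    (hk : Smooth k.left) (hk' : Surjective k.left) {a : F' ⟶ F} {q' : F' ⟶ (yon S).obj T}
    (sq : IsPullback a q' q ((yon S).map k)) (h : LocP @LocallyOfFiniteType q') :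
    LocP @LocallyOfFiniteType q := by
  obtain ⟨W, p, hp, hp'⟩ := hF.atlas
  obtain ⟨w, hw⟩ := (yon S).map_surjective (p ≫ q)
  refine K597.locP_of_chart K597.etLoc_lft q p (𝟙 _) w hp hp' (repWith_id _ _) (by rw [hw, Category.comp_id]) ?_
  have sqW := IsPullback.of_hasPullback w k
  have sq1 := sqW.map (yon S)
  rw [hw] at sq1
  have sq2 := IsPullback.of_bot' sq1 sq
  have h1 : LocallyOfFiniteType (pullback.snd w k).left :=
    h _ (𝟙 _) (pullback.snd w k) (K597.repWith_bc _ sq2 hp) (repWith_id _ _) (by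
      rw [Category.comp_id]
      exact sq.lift_snd _ _ (by rw [Category.assoc]; exact sq1.w))
  have sq3 := sqW.map (Over.forget S)
  have hfl : Flat k.left := inferInstance
  have hfp : LocallyOfFinitePresentation k.left := inferInstance
  exact MorphismProperty.of_isPullback_of_descendsAlong (P := @LocallyOfFiniteType)
    (Q := @Surjective ⊓ @Flat ⊓ @LocallyOfFinitePresentation) sq3.flip ⟨⟨hk', hfl⟩, hfp⟩ h1

/-- The base object `k` and `𝟙 ≫ k`. -/
def idIso {T U : Over S} (k : T ⟶ U) : (AlgSt.overMap k).obj (Over.mk (𝟙 T)) ≅ (Over.mk k : Over U) :=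
  Over.isoMk (Iso.refl T) (by
    change 𝟙 T ≫ k = 𝟙 T ≫ k
    rfl)

theorem vert_idIso {T U : Over S} (k : T ⟶ U) : K735.Fib.Vert (FibCat.overCat U).p (idIso k).hom :=
  K735.Fib.vert_of_map_eq (by rfl) rfl

/-- A vertical isomorphism `x (k) ≅ v (b)` gives a 2-isomorphism `k^* x ≅ b^* v`. -/
theorem exists_iso_of_vert {𝒳 : BasedCategory.{v', w'} (Over S)} (h𝒳 : FibCat.IsFibGrpd 𝒳.p) {T U V : Over S}
    (x : FibCat.overCat U ⥤ᵇ 𝒳) (v : FibCat.overCat V ⥤ᵇ 𝒳) (k : T ⟶ U) (b : T ⟶ V)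
    (ε : x.obj (Over.mk k) ≅ v.obj (Over.mk b)) (hε : K735.Fib.Vert 𝒳.p ε.hom) :
    Nonempty (BasedFunctor.comp (AlgSt.overMap k) x ≅ BasedFunctor.comp (AlgSt.overMap b) v) :=
  ⟨K735.Fp.yonIso h𝒳 _ _ (x.map (idIso k).hom ≫ ε.hom ≫ v.map (idIso b).inv)
    (K735.Fib.Vert.comp (K735.Fib.Vert.map x (vert_idIso k)) (K735.Fib.Vert.comp hε
      (K735.Fib.Vert.map v (K735.Fib.Vert.iso_inv (φ := idIso b) (vert_idIso b)))))⟩

theorem locP_lft_of_locP_smooth {F G : Sp S} {f : F ⟶ G} (h : LocP @Smooth f) : LocP @LocallyOfFiniteType f :=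
  K597.locP_mono (fun _ _ f (_ : Smooth f) => (inferInstance : LocallyOfFiniteType f)) h

theorem repByAlgSpWith_lft_diag_toSelf {K : Precoverage Scheme.{u}} {𝒳 : BasedCategory.{u, w} (Over S)}
    (h𝒳 : AlgSt.IsAlgStack K 𝒳) :
    AlgSt.RepByAlgSpWith (LocP @LocallyOfFiniteType) (FibCat.diag (FibCat.toSelf 𝒳)) := by
  have hX : FibCat.IsFibGrpd 𝒳.p := h𝒳.isStack.1
  have hS : FibCat.IsFibGrpd (FibCat.selfOver (Over S)).p := K735.Fp.isFibGrpd_selfOver
  rw [repByAlgSpWith_diag_iff _ _ hX hS]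
  intro U x₁ x₂ φ
  obtain ⟨G, β, -⟩ := (repByAlgSpWith_diag_iff ⊤ _ hX hS).1 (repByAlgSpWith_top_iff.2 h𝒳.diag) U x₁ x₂ φ
  refine ⟨G, β, ?_⟩
  obtain ⟨V, v, hv, hv'⟩ := h𝒳.atlas
  obtain ⟨T, k, b, hk, hk', ε, hε⟩ := K737.LocLift.exists_lift x₂ v hv hv'
  obtain ⟨α⟩ := exists_iso_of_vert hX x₂ v k b ε hε
  obtain ⟨F, e, he, hP⟩ := hv T (BasedFunctor.comp (AlgSt.overMap k) x₁)
  obtain ⟨R⟩ := SecRep.nonempty_of_equiv _ e he
  have h2 := repPsh_lft hX hS α (resIso (FibCat.toSelf 𝒳) k x₁ x₂ φ) F.property (locP_lft_of_locP_smooth hP) R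
  have sq := isPullback_restrict (FibCat.toSelf 𝒳) k x₁ x₂ φ hX hS
  let q : G.obj ⟶ (yon S).obj U := ObjectProperty.homMk (β.hom ≫ toBase (FibCat.toSelf 𝒳) x₁ x₂ φ hX hS)
  have sqQ := IsPullback.of_hasPullback q ((yon S).map k)
  have sqQ' := sqQ.map (sheafToPresheaf (AlgSp.J S) _)
  have sq' : IsPullback (resMap (FibCat.toSelf 𝒳) k x₁ x₂ φ hX hS ≫ β.inv)
      (toBase (FibCat.toSelf 𝒳) (BasedFunctor.comp (AlgSt.overMap k) x₁) (BasedFunctor.comp (AlgSt.overMap k) x₂)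
        (resIso (FibCat.toSelf 𝒳) k x₁ x₂ φ) hX hS) q.hom ((pyon S).map k) := by
    refine IsPullback.of_iso sq (Iso.refl _) β.symm (Iso.refl _) (Iso.refl _) ?_ ?_ ?_ ?_
    · simp
    · simp
    · simp [q]
    · simp
  let γ := sq'.isoIsPullback _ _ sqQ'
  have h3 : RepPsh (LocP @LocallyOfFiniteType) (U := T) (G := (pullback q ((yon S).map k)).obj)
      (pullback.snd q ((yon S).map k)).hom :=
    h2.of_iso γ (sq'.isoIsPullback_hom_snd _ _ sqQ')
  have h4 := (repPsh_hom_iff (isoInv_of_respectsIso _) _).1 h3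
  exact locP_lft_of_smooth G.property hk hk' sqQ h4.2

theorem overMap_id (U : Over S) : AlgSt.overMap (𝟙 U) = BasedFunctor.id (FibCat.overCat U) := by
  have h : (AlgSt.overMap (𝟙 U)).toFunctor = (BasedFunctor.id (FibCat.overCat U)).toFunctor :=
    CategoryTheory.Over.mapId_eq U
  cases hF : AlgSt.overMap (𝟙 U) with | mk F w =>
  rw [hF] at h
  cases hG : BasedFunctor.id (FibCat.overCat U) with | mk G w' =>
  rw [hG] at h
  subst h
  rfl

theorem comp_toSelf {𝒳 : BasedCategory.{v, w} (Over S)} {𝒴 : BasedCategory.{v', w'} (Over S)} (f : 𝒳 ⥤ᵇ 𝒴) :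
    BasedFunctor.comp f (FibCat.toSelf 𝒴) = FibCat.toSelf 𝒳 := by
  have h : (BasedFunctor.comp f (FibCat.toSelf 𝒴)).toFunctor = (FibCat.toSelf 𝒳).toFunctor := f.w
  cases hF : BasedFunctor.comp f (FibCat.toSelf 𝒴) with | mk F w =>
  rw [hF] at h
  cases hG : FibCat.toSelf 𝒳 with | mk G w' =>
  rw [hG] at h
  subst h
  rfl

theorem id_comp_bf {𝒳 : BasedCategory.{v, w} (Over S)} {U : Over S} (x : FibCat.overCat U ⥤ᵇ 𝒳) :
    BasedFunctor.comp (AlgSt.overMap (𝟙 U)) x = x := by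
  rw [overMap_id]
  rfl

theorem repByAlgSpWith_lft_diag {K : Precoverage Scheme.{u}} {𝒳 : BasedCategory.{u, w} (Over S)}
    {𝒴 : BasedCategory.{u, w'} (Over S)} (h𝒳 : AlgSt.IsAlgStack K 𝒳) (h𝒴 : AlgSt.IsAlgStack K 𝒴) (f : 𝒳 ⥤ᵇ 𝒴) :
    AlgSt.RepByAlgSpWith (LocP @LocallyOfFiniteType) (FibCat.diag f) := by
  have hX : FibCat.IsFibGrpd 𝒳.p := h𝒳.isStack.1
  have hY : FibCat.IsFibGrpd 𝒴.p := h𝒴.isStack.1
  have hS : FibCat.IsFibGrpd (FibCat.selfOver (Over S)).p := K735.Fp.isFibGrpd_selfOver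
  rw [repByAlgSpWith_diag_iff _ _ hX hY]
  intro U x₁' x₂' φ'
  have key : ∀ (x₁ x₂ : FibCat.overCat U ⥤ᵇ 𝒳) (φ : BasedFunctor.comp (BasedFunctor.comp (AlgSt.overMap (𝟙 U)) x₁) f ≅
      BasedFunctor.comp (BasedFunctor.comp (AlgSt.overMap (𝟙 U)) x₂) f),
      RepPsh (LocP @LocallyOfFiniteType) (toBase f (BasedFunctor.comp (AlgSt.overMap (𝟙 U)) x₁)
        (BasedFunctor.comp (AlgSt.overMap (𝟙 U)) x₂) φ hX hY) := by
    intro x₁ x₂ φ
    let θ : BasedFunctor.comp x₁ (BasedFunctor.comp f (FibCat.toSelf 𝒴)) ≅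
      BasedFunctor.comp x₂ (BasedFunctor.comp f (FibCat.toSelf 𝒴)) := K735.Prod.selfIso _ _
    have hφ : ∀ a : (FibCat.overCat U).obj, (FibCat.toSelf 𝒴).map (φ.hom.toNatTrans.app a) =
        θ.hom.toNatTrans.app ((AlgSt.overMap (𝟙 U)).obj a) := fun a =>
      (K735.Fib.Vert.map (FibCat.toSelf 𝒴) (K735.Fib.vert_app φ.hom a)).map_eq.trans
        (K735.Fib.vert_app θ.hom _).map_eq.symm
    have sq := isPullback_comp f (FibCat.toSelf 𝒴) (𝟙 U) x₁ x₂ θ hX hY hS φ hφ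
    have hd : AlgSt.RepByAlgSpWith (LocP @LocallyOfFiniteType)
        (FibCat.diag (BasedFunctor.comp f (FibCat.toSelf 𝒴))) := by
      rw [comp_toSelf]
      exact repByAlgSpWith_lft_diag_toSelf h𝒳
    obtain ⟨G₁, β₁, h₁⟩ := (repByAlgSpWith_diag_iff _ _ hX hS).1 hd U x₁ x₂ θ
    obtain ⟨G₂, β₂, h₂⟩ := (repByAlgSpWith_diag_iff _ _ hY hS).1 (repByAlgSpWith_lft_diag_toSelf h𝒴) U
      (BasedFunctor.comp x₁ f) (BasedFunctor.comp x₂ f) (assocIso f (FibCat.toSelf 𝒴) x₁ x₂ θ)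
    let m : G₁.obj ⟶ G₂.obj := ObjectProperty.homMk (β₁.hom ≫ compMap f (FibCat.toSelf 𝒴) x₁ x₂ θ hX hY hS ≫ β₂.inv)
    let p : (yon S).obj U ⟶ G₂.obj := ObjectProperty.homMk (ptMap f (FibCat.toSelf 𝒴) (𝟙 U) x₁ x₂ θ hY hS φ hφ ≫ β₂.inv)
    have hm : LocP @LocallyOfFiniteType m := by
      refine K597.locP_of_comp' K597.etLoc_lft (fun _ _ _ u v (h : LocallyOfFiniteType (u ≫ v)) =>
        locallyOfFiniteType_of_comp u v) G₁.property.hasAtlas G₂.property.hasAtlas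
        (IsAlgSpace.yon_obj U).hasAtlas (g := ObjectProperty.homMk (β₂.hom ≫ toBase (FibCat.toSelf 𝒴)
          (BasedFunctor.comp x₁ f) (BasedFunctor.comp x₂ f) (assocIso f (FibCat.toSelf 𝒴) x₁ x₂ θ) hY hS)) ?_
      convert h₁ using 1
      apply ObjectProperty.hom_ext
      change (β₁.hom ≫ compMap f (FibCat.toSelf 𝒴) x₁ x₂ θ hX hY hS ≫ β₂.inv) ≫ β₂.hom ≫ _ = _
      rw [← compMap_toBase f (FibCat.toSelf 𝒴) x₁ x₂ θ hX hY hS]
      simp
    have sqC := IsPullback.of_hasPullback m p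
    have sqC' := sqC.map (sheafToPresheaf (AlgSp.J S) _)
    have hC : IsAlgSpace (pullback m p) :=
      K613.Chart.isAlgSpace_pullback G₁.property (IsAlgSpace.yon_obj _) G₂.property _ _
    have hP : LocP @LocallyOfFiniteType (pullback.snd m p) :=
      K597.locP_bc K597.etLoc_lft sqC G₁.property.hasAtlas G₂.property.hasAtlas
        (IsAlgSpace.yon_obj U).hasAtlas hm
    have sq' : IsPullback (liftMap f (FibCat.toSelf 𝒴) (𝟙 U) x₁ x₂ θ hX hY hS φ hφ ≫ β₁.inv)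
        (toBase f (BasedFunctor.comp (AlgSt.overMap (𝟙 U)) x₁) (BasedFunctor.comp (AlgSt.overMap (𝟙 U)) x₂) φ hX hY)
        m.hom p.hom := by
      refine IsPullback.of_iso sq (Iso.refl _) β₁.symm (Iso.refl _) β₂.symm ?_ ?_ ?_ ?_
      · simp
      · simp
      · simp [m]
      · simp [p]
    refine ⟨⟨_, hC⟩, sqC'.isoIsPullback _ _ sq', ?_⟩
    convert hP using 1
    apply ObjectProperty.hom_ext
    exact sqC'.isoIsPullback_hom_snd _ _ sq'
  have key2 : ∀ (y₁ y₂ : FibCat.overCat U ⥤ᵇ 𝒳) (_ : BasedFunctor.comp (AlgSt.overMap (𝟙 U)) x₁' = y₁)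
      (_ : BasedFunctor.comp (AlgSt.overMap (𝟙 U)) x₂' = y₂) (φ : BasedFunctor.comp y₁ f ≅ BasedFunctor.comp y₂ f),
      RepPsh (LocP @LocallyOfFiniteType) (toBase f y₁ y₂ φ hX hY) := by
    rintro _ _ rfl rfl φ
    exact key x₁' x₂' φ
  exact key2 x₁' x₂' (id_comp_bf x₁') (id_comp_bf x₂') φ'

end Lft

end K738
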