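import Groth.Agent.AlgSt.K738.DiagRep

/-!
# The locus where two sections of an algebraic space agree
-/

set_option autoImplicit false
set_option backward.isDefEq.respectTransparency false
set_option backward.isDefEq.respectTransparency.types false

universe w₁ v₁ w' v' w v u

open CategoryTheory CategoryTheory.Limits AlgebraicGeometry Opposite AlgSp

namespace K738

variable {S : Scheme.{u}}

theorem yonEquiv_symm_comp_map {F : Sp S} {T U : Over S} (t : T ⟶ U) (s : F.obj.obj (op U)) :
    (yon S).map t ≫ (J S).uliftYonedaEquiv.symm s = (J S).uliftYonedaEquiv.symm (F.obj.map t.op s) :=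
  (J S).uliftYonedaEquiv_symm_naturality_left t F s

theorem map_eq_iff {F : Sp S} {T U : Over S} (t : T ⟶ U) (s s' : F.obj.obj (op U)) :
    F.obj.map t.op s = F.obj.map t.op s' ↔
      (yon S).map t ≫ (J S).uliftYonedaEquiv.symm s = (yon S).map t ≫ (J S).uliftYonedaEquiv.symm s' := by
  rw [yonEquiv_symm_comp_map, yonEquiv_symm_comp_map]
  exact ((J S).uliftYonedaEquiv.symm.injective.eq_iff).symm

/-- The agreement locus of two maps `h_U ⟶ F` is the pullback of the relative diagonal. -/
theorem isPullback_relative {F G : Sp S} (π : F ⟶ G) {A B : Sp S} (s₁ s₂ : B ⟶ F)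
    (h : s₁ ≫ π = s₂ ≫ π) (fst : A ⟶ F) (i : A ⟶ B)
    (sq : IsPullback fst i (Limits.diag F) (prod.lift s₁ s₂)) :
    IsPullback fst i (pullback.diagonal π) (pullback.lift s₁ s₂ h) := by
  have h1 : fst = i ≫ s₁ := by
    have := congrArg (· ≫ prod.fst) sq.w
    simpa using this
  have h2 : fst = i ≫ s₂ := by
    have := congrArg (· ≫ prod.snd) sq.w
    simpa using this
  refine ⟨⟨?_⟩, ⟨PullbackCone.IsLimit.mk _ (fun c => sq.lift c.fst c.snd ?_) ?_ ?_ ?_⟩⟩
  · apply pullback.hom_ext
    · simpa using h1
    · simpa using h2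
  · have e := c.condition
    have e1 : c.fst = c.snd ≫ s₁ := by
      have := congrArg (· ≫ pullback.fst π π) e
      simpa using this
    have e2 : c.fst = c.snd ≫ s₂ := by
      have := congrArg (· ≫ pullback.snd π π) e
      simpa using this
    apply Limits.prod.hom_ext
    · simpa using e1
    · simpa using e2
  · intro c
    exact sq.lift_fst _ _ _
  · intro c
    exact sq.lift_snd _ _ _
  · intro c m hm1 hm2
    apply sq.hom_ext
    · rw [hm1, sq.lift_fst]
    · rw [hm2, sq.lift_snd]

/-- The agreement locus of two sections of an algebraic space (or any sheaf with representable diagonal)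
over a scheme is a scheme. -/
theorem exists_agree {F : Sp S} (hF : Representable (Limits.diag F)) {U : Over S}
    (σ₁ σ₂ : F.obj.obj (op U)) :
    ∃ (V : Over S) (i : V ⟶ U) (fst : (yon S).obj V ⟶ F),
      IsPullback fst ((yon S).map i) (Limits.diag F)
        (prod.lift ((J S).uliftYonedaEquiv.symm σ₁) ((J S).uliftYonedaEquiv.symm σ₂)) ∧
      Mono i ∧ F.obj.map i.op σ₁ = F.obj.map i.op σ₂ ∧
      ∀ {T : Over S} (t : T ⟶ U), F.obj.map t.op σ₁ = F.obj.map t.op σ₂ →
        ∃ t' : T ⟶ V, t' ≫ i = t := by
  obtain ⟨V, i, fst, sq⟩ := hF (prod.lift ((J S).uliftYonedaEquiv.symm σ₁)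
    ((J S).uliftYonedaEquiv.symm σ₂))
  have h1 : fst = (yon S).map i ≫ (J S).uliftYonedaEquiv.symm σ₁ := by
    have := congrArg (· ≫ prod.fst) sq.w
    simpa using this
  have h2 : fst = (yon S).map i ≫ (J S).uliftYonedaEquiv.symm σ₂ := by
    have := congrArg (· ≫ prod.snd) sq.w
    simpa using this
  refine ⟨V, i, fst, sq, ⟨fun {T} a b hab => ?_⟩, ?_, ?_⟩
  · apply (yon S).map_injective
    apply sq.hom_ext
    · rw [h1, ← Category.assoc, ← Category.assoc, ← Functor.map_comp, hab, Functor.map_comp]
    · rw [← Functor.map_comp, hab, Functor.map_comp]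
  · rw [map_eq_iff, ← h1, ← h2]
  · intro T t ht
    rw [map_eq_iff] at ht
    obtain ⟨t', ht'⟩ := (yon S).map_surjective (sq.lift
      ((yon S).map t ≫ (J S).uliftYonedaEquiv.symm σ₁) ((yon S).map t) (by
        apply Limits.prod.hom_ext
        · simp
        · simpa using ht))
    refine ⟨t', (yon S).map_injective ?_⟩
    rw [Functor.map_comp, ht', sq.lift_snd]

end K738
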