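import Groth.Agent.AlgSt.K738.DiagConv
import Groth.Agent.AlgSt.K738.YonProps
import Groth.Agent.AlgSt.K738.RespIso
import Groth.Agent.AlgSp.K595.DiagRel
import Groth.Agent.S9905

/-!
# Separation conditions for 1-morphisms representable by algebraic spaces
-/

set_option autoImplicit false
set_option backward.isDefEq.respectTransparency false
set_option backward.isDefEq.respectTransparency.types false

universe w₁ v₁ w' v' w v u

open CategoryTheory CategoryTheory.Limits AlgebraicGeometry Opposite AlgSp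

namespace K738

variable {S : Scheme.{u}} {𝒳 : BasedCategory.{v, w} (Over S)} {𝒴 : BasedCategory.{v', w'} (Over S)}
  {f : 𝒳 ⥤ᵇ 𝒴}

/-- monotonicity in the property -/
theorem repByAlgSpWith_mono {P Q : MorphismProperty (Sp S)} (hf : AlgSt.RepByAlgSpWith P f)
    (h : ∀ {F : Space S} {U : Over S} (π : F.obj ⟶ (yon S).obj U), P π → Q π) :
    AlgSt.RepByAlgSpWith Q f := by
  intro U y
  obtain ⟨F, e, he, hP⟩ := hf U y
  exact ⟨F, e, he, h _ hP⟩

theorem repByAlgSp1_of {P : MorphismProperty (Sp S)} (hf : AlgSt.RepByAlgSpWith P f) :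
    AlgSt.RepByAlgSp1 f := by
  intro U y
  obtain ⟨F, e, he, _⟩ := hf U y
  exact ⟨F, e, he⟩

/-- The diagonal of a functor representable by algebraic spaces, in terms of a property of morphisms of
schemes: monomorphisms locally of finite type. -/
theorem repByAlgSpWith_diag_of {P Q : MorphismProperty (Sp S)} (hf : AlgSt.RepByAlgSpWith P f)
    (h : ∀ {F : Space S} {U V : Over S} (π : F.obj ⟶ (yon S).obj U) (i : V ⟶ U)
      (fst : (yon S).obj V ⟶ F.obj) (g : (yon S).obj U ⟶ pullback π π), P π →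
      IsPullback fst ((yon S).map i) (pullback.diagonal π) g → Mono i.left →
      LocallyOfFiniteType i.left → Q ((yon S).map i)) :
    AlgSt.RepByAlgSpWith Q (FibCat.diag f) := by
  refine repByAlgSpWith_diag hf ?_
  intro F U V π i fst g hπ sq hi
  exact h π i fst g hπ sq (Over.mono_left_of_mono i)
    ((K595.DiagRel.repWith_diagonal_lft F.property π).2 g fst i sq)

/-- Conversely: from the diagonal of `f` to the representing spaces. -/
theorem repByAlgSpWith_of_diag {P : MorphismProperty (Sp S)} {P₀ : MorphismProperty Scheme.{u}}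
    [P.RespectsIso]
    (hf : AlgSt.RepByAlgSp1 f) (hd : AlgSt.RepByAlgSpWith P (FibCat.diag f))
    (h : ∀ {U V : Over S} (i : V ⟶ U), P ((yon S).map i) → Mono i.left →
      LocallyOfFiniteType i.left → P₀ i.left) {Q : MorphismProperty (Sp S)}
    (hQ : ∀ {F : Space S} {U : Over S} (π : F.obj ⟶ (yon S).obj U),
      RepWith P₀ (pullback.diagonal π) → Q π) :
    AlgSt.RepByAlgSpWith Q f := by
  intro U y
  obtain ⟨F, e, he⟩ := hf U y
  refine ⟨F, e, he, hQ _ ?_⟩
  obtain ⟨R⟩ := SecRep.nonempty_of_equiv (FibCat.fpFst y f) e he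
  refine ⟨K595.DiagRel.representable_diagonal F.property _, fun T V g fst i sq => ?_⟩
  refine h i (prop_diag_of_repByAlgSpWith hd R g fst i sq) ?_ ?_
  · exact (K595.DiagRel.repWith_diagonal_mono F.property _).2 g fst i sq
  · exact (K595.DiagRel.repWith_diagonal_lft F.property _).2 g fst i sq

theorem tfae_separated (hf : AlgSt.RepByAlgSp1 f) :
    [AlgSt.RepByAlgSpWith AlgSp.IsSeparatedMor f, AlgSt.IsClosedImm (FibCat.diag f),
      AlgSt.IsSeparatedMor f, AlgSt.RepByAlgSpWith AlgSp.IsUnivClosedMor (FibCat.diag f)].TFAE := by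
  tfae_have 1 → 2 := fun h => repByAlgSpWith_diag_of h
    (fun π i fst g hπ sq _ _ => (repWith_yon_map_iff _ i).2 (hπ.2 g fst i sq))
  tfae_have 2 → 3 := fun h => by
    refine repByAlgSpWith_mono h ?_
    intro F U π hπ
    obtain ⟨V, i, fst, sq⟩ := hπ.1 (𝟙 ((yon S).obj U))
    have hi : IsClosedImmersion i.left := hπ.2 _ _ _ sq
    have : IsIso fst := sq.isIso_fst_of_isIso
    have h1 : (yon S).map i = fst ≫ π := by
      have := sq.w
      rw [Category.comp_id] at this
      exact this.symm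
    have h2 : IsProperMor ((yon S).map i) := (isProperMor_yon_iff i).2 inferInstance
    rw [h1] at h2
    exact ((IsProperMor (S := S)).cancel_left_of_respectsIso fst π).1 h2
  tfae_have 3 → 4 := fun h => repByAlgSpWith_mono h (fun π hπ => hπ.2.2)
  tfae_have 4 → 1 := fun h => repByAlgSpWith_of_diag (P₀ := @IsClosedImmersion) hf h
    (fun i hi _ _ => by
      have := (isUnivClosedMor_yon_iff i).1 hi
      exact isClosedImmersion_of_univClosed i.left) (fun π hπ => hπ)
  tfae_finish

theorem tfae_quasiSeparated (hf : AlgSt.RepByAlgSp1 f) :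
    [AlgSt.RepByAlgSpWith AlgSp.IsQuasiSeparatedMor f,
      AlgSt.RepByAlgSpWith AlgSp.IsQuasiCompactMor (FibCat.diag f),
      AlgSt.RepByAlgSpWith AlgSp.IsFiniteTypeMor (FibCat.diag f)].TFAE := by
  tfae_have 1 → 3 := fun h => repByAlgSpWith_diag_of h
    (fun π i fst g hπ sq _ _ => (isFiniteTypeMor_yon_iff i).2 ⟨inferInstance, hπ.2 g fst i sq⟩)
  tfae_have 3 → 2 := fun h => repByAlgSpWith_mono h (fun π hπ => hπ.2)
  tfae_have 2 → 1 := fun h => repByAlgSpWith_of_diag (P₀ := @QuasiCompact) hf h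
    (fun i hi _ _ => (isQuasiCompactMor_yon_iff i).1 hi) (fun π hπ => hπ)
  tfae_finish

theorem isQuasiSeparatedMor_iff (hf : AlgSt.RepByAlgSp1 f) :
    AlgSt.IsQuasiSeparatedMor f ↔ AlgSt.RepByAlgSpWith AlgSp.IsQuasiSeparatedMor f := by
  constructor
  · intro h
    exact ((tfae_quasiSeparated hf).out 1 0).1 (repByAlgSpWith_mono h (fun π hπ => hπ.1))
  · intro h
    refine repByAlgSpWith_diag_of h ?_
    intro F U V π i fst g hπ sq hi _
    refine ⟨(isQuasiCompactMor_yon_iff i).2 (hπ.2 g fst i sq), ?_⟩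
    rw [isQuasiSeparatedMor_yon_map_iff]
    infer_instance

theorem isDMMor_of_repByAlgSp1 (hf : AlgSt.RepByAlgSp1 f) : AlgSt.IsDMMor f := by
  refine repByAlgSpWith_diag_of (repByAlgSpWith_top_iff.2 hf) ?_
  intro F U V π i fst g hπ sq hi _
  refine (locP_yon_iff (Or.inr (Or.inr (Or.inr (Or.inr (Or.inr (Or.inr (fun _ _ _ => Iff.rfl)))))))
    i).2 ⟨inferInstance, ?_⟩
  infer_instance

end K738
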