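import Groth.Agent.AlgSt.K738.Equiv

/-!
# Elementwise description of representability by a sheaf

`SecRep q F π`: the category `𝒵` over `(Sch/S)` is (equivalent to the category of) the sheaf `F`, and the
functor `q : 𝒵 ⟶ (Sch/U)` corresponds to `π : F ⟶ h_U`.
-/

set_option autoImplicit false
set_option backward.isDefEq.respectTransparency false
set_option backward.isDefEq.respectTransparency.types false

universe w₁ v₁ w' v' w v u

open CategoryTheory CategoryTheory.Limits AlgebraicGeometry Opposite AlgSp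

namespace K738

section Str

variable {C : Type u} [Category.{v} C] {𝒲 : BasedCategory.{v', w'} C} {𝒱 : BasedCategory.{v₁, w₁} C}

/-- The structure morphism to `U` of the value of a functor to `C/U`. -/
def str {U : C} (Φ : 𝒲 ⥤ᵇ FibCat.overCat U) (w : 𝒲.obj) : 𝒲.p.obj w ⟶ U :=
  eqToHom (Φ.w_obj w).symm ≫ (Φ.obj w).hom

theorem str_comp {U : C} (Φ : 𝒲 ⥤ᵇ FibCat.overCat U) {w w' : 𝒲.obj} (ψ : w ⟶ w') :
    𝒲.p.map ψ ≫ str Φ w' = str Φ w := by
  have h1 : (Φ.map ψ).left ≫ (Φ.obj w').hom = (Φ.obj w).hom := Over.w (Φ.map ψ)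
  have h2 : (Φ.map ψ).left = eqToHom (Φ.w_obj w) ≫ 𝒲.p.map ψ ≫ eqToHom (Φ.w_obj w').symm :=
    IsHomLift.fac' (FibCat.overCat U).p (𝒲.p.map ψ) (Φ.map ψ)
  simp only [str, ← h1, h2, Category.assoc, eqToHom_trans_assoc, eqToHom_refl, Category.id_comp]

theorem str_comp_functor {U : C} (F : 𝒱 ⥤ᵇ 𝒲) (Φ : 𝒲 ⥤ᵇ FibCat.overCat U) (x : 𝒱.obj) :
    str (BasedFunctor.comp F Φ) x = eqToHom (F.w_obj x).symm ≫ str Φ (F.obj x) := by
  simp [str]
  rfl

theorem str_congr {U : C} {Φ Ψ : 𝒲 ⥤ᵇ FibCat.overCat U} (α : Φ ⟶ Ψ) (x : 𝒲.obj) :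
    str Φ x = str Ψ x := by
  have h1 : (α.toNatTrans.app x).left ≫ (Ψ.obj x).hom = (Φ.obj x).hom := Over.w _
  have h0 := α.isHomLift' x
  have h2 : (α.toNatTrans.app x).left = eqToHom (Φ.w_obj x) ≫ 𝟙 _ ≫ eqToHom (Ψ.w_obj x).symm :=
    IsHomLift.fac' (FibCat.overCat U).p (𝟙 (𝒲.p.obj x)) (α.toNatTrans.app x)
  simp only [str, ← h1, h2, Category.assoc, eqToHom_trans_assoc, Category.id_comp]

end Str

variable {S : Scheme.{u}}

/-- `F` (with its map `π` to `h_U`) represents the category `𝒵` over `(Sch/S)` (with its functor `q` to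
`(Sch/U)`), elementwise: a section `sec z` over the base of each object `z`, through which morphisms are the
morphisms of the base compatible with the sections. -/
structure SecRep {𝒵 : BasedCategory.{v, w} (Over S)} {U : Over S} (q : 𝒵 ⥤ᵇ FibCat.overCat U)
    (F : Sp S) (π : F ⟶ (yon S).obj U) where
  sec : ∀ z : 𝒵.obj, F.obj.obj (op (𝒵.p.obj z))
  map : ∀ {z z' : 𝒵.obj} (m : z ⟶ z'), F.obj.map (𝒵.p.map m).op (sec z') = sec z
  full : ∀ {z z' : 𝒵.obj} (g : 𝒵.p.obj z ⟶ 𝒵.p.obj z'), F.obj.map g.op (sec z') = sec z →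
    ∃ m : z ⟶ z', 𝒵.p.map m = g
  faithful : ∀ {z z' : 𝒵.obj} (m m' : z ⟶ z'), 𝒵.p.map m = 𝒵.p.map m' → m = m'
  surj : ∀ {T : Over S} (s : F.obj.obj (op T)),
    ∃ (z : 𝒵.obj) (h : T = 𝒵.p.obj z), F.obj.map (eqToHom h).op (sec z) = s
  proj : ∀ z, π.hom.app _ (sec z) = ⟨str q z⟩

namespace SecRep

variable {𝒵 : BasedCategory.{v, w} (Over S)} {U : Over S} {q : 𝒵 ⥤ᵇ FibCat.overCat U}
    {F : Sp S} {π : F ⟶ (yon S).obj U}

/-- the functor `𝒵 ⟶ ofSp F` of a `SecRep`. -/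
def toOfSp (R : SecRep q F π) : 𝒵 ⥤ᵇ AlgSt.ofSp F where
  toFunctor :=
    { obj := fun z => ⟨𝒵.p.obj z, R.sec z⟩
      map := fun m => ⟨𝒵.p.map m, R.map m⟩
      map_id := fun z => Stk.EltObj.hom_ext (𝒵.p.map_id z)
      map_comp := fun m m' => Stk.EltObj.hom_ext (𝒵.p.map_comp m m') }
  w := rfl

theorem isEquivOver_toOfSp (R : SecRep q F π) : FibCat.IsEquivOver R.toOfSp := by
  refine Equiv.isEquivOver_of _ ⟨?_⟩ ⟨?_⟩ ?_
  · intro z z' m
    obtain ⟨m', hm'⟩ := R.full m.hom m.map_sec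
    exact ⟨m', Stk.EltObj.hom_ext hm'⟩
  · intro z z' m m' h
    exact R.faithful m m' (congrArg Stk.EltObj.Hom.hom h)
  · rintro ⟨T, s⟩
    obtain ⟨z, h, hs⟩ := R.surj s
    subst h
    have hs' : R.sec z = s := by simpa using hs
    subst hs'
    exact ⟨z, Iso.refl _, IsHomLift.id rfl⟩

/-- From an elementwise representation to the one of the prelude. -/
theorem exists_equiv (R : SecRep q F π) : ∃ e : AlgSt.ofSp F ⥤ᵇ 𝒵, FibCat.IsEquivOver e ∧
    AlgSt.spMapOfOver (BasedFunctor.comp e q) = π := by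
  obtain ⟨e, ⟨α⟩, ⟨β⟩⟩ := R.isEquivOver_toOfSp
  refine ⟨e, ⟨R.toOfSp, ⟨β⟩, ⟨α⟩⟩, ?_⟩
  apply ObjectProperty.hom_ext
  ext T x
  induction T using Opposite.rec with | _ T
  change (⟨AlgSt.secHom (BasedFunctor.comp e q) ⟨T, x⟩⟩ : ULift.{u+1} (T ⟶ U)) = π.hom.app (op T) x
  -- the object and its image
  have hzT : 𝒵.p.obj (e.obj (⟨T, x⟩ : (AlgSt.ofSp F).obj)) = T :=
    e.w_obj (⟨T, x⟩ : (AlgSt.ofSp F).obj)
  obtain ⟨m, h2⟩ : ∃ m : (⟨𝒵.p.obj (e.obj (⟨T, x⟩ : (AlgSt.ofSp F).obj)),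
      R.sec (e.obj (⟨T, x⟩ : (AlgSt.ofSp F).obj))⟩ : Stk.EltObj F.obj) ⟶ (⟨T, x⟩ : Stk.EltObj F.obj),
      m.hom = eqToHom hzT := by
    exact ⟨(Equiv.isoApp β (⟨T, x⟩ : (AlgSt.ofSp F).obj)).hom,
      Equiv.map_eq_eqToHom (p := (AlgSt.ofSp F).p) _
        (Equiv.isoApp_isHomLift β (⟨T, x⟩ : (AlgSt.ofSp F).obj)) hzT⟩
  have h3 : F.obj.map m.hom.op x = R.sec (e.obj (⟨T, x⟩ : (AlgSt.ofSp F).obj)) := m.map_sec
  have h4 := R.proj (e.obj (⟨T, x⟩ : (AlgSt.ofSp F).obj))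
  rw [← h3, h2] at h4
  have h5 := NatTrans.naturality_apply π.hom (eqToHom hzT).op x
  have h6 := h5.symm.trans h4
  have h7 : eqToHom hzT ≫ (π.hom.app (op T) x).down =
    str q (e.obj (⟨T, x⟩ : (AlgSt.ofSp F).obj)) := congrArg ULift.down h6
  apply ULift.ext
  change AlgSt.secHom (BasedFunctor.comp e q) ⟨T, x⟩ = (π.hom.app (op T) x).down
  have h8 : AlgSt.secHom (BasedFunctor.comp e q) ⟨T, x⟩ = eqToHom hzT.symm ≫
      str q (e.obj (⟨T, x⟩ : (AlgSt.ofSp F).obj)) := by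
    simp [AlgSt.secHom, str]
    rfl
  rw [h8, ← h7]
  simp

end SecRep

section Cast

variable {C : Type u} [Category.{v} C] {P : Cᵒᵖ ⥤ Type w}

/-- the section of an object of `ofPsh P` transported to an object equal to its base -/
def castSec (a : Stk.EltObj P) {T : C} (h : a.base = T) : P.obj (op T) :=
  P.map (eqToHom h.symm).op a.sec

theorem castSec_rfl (a : Stk.EltObj P) : castSec a rfl = a.sec := by simp [castSec]

theorem castSec_mk {T : C} (s : P.obj (op T)) : castSec (⟨T, s⟩ : Stk.EltObj P) rfl = s :=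
  castSec_rfl _

theorem map_castSec {a b : Stk.EltObj P} (m : a ⟶ b) {T T' : C} (ha : a.base = T)
    (hb : b.base = T') (g : T ⟶ T') (hg : m.hom = eqToHom ha ≫ g ≫ eqToHom hb.symm) :
    P.map g.op (castSec b hb) = castSec a ha := by
  subst ha hb
  rw [castSec_rfl, castSec_rfl]
  have : m.hom = g := by simpa using hg
  rw [← this, m.map_sec]

theorem exists_hom_of_castSec {a b : Stk.EltObj P} {T T' : C} (ha : a.base = T)
    (hb : b.base = T') (g : T ⟶ T') (h : P.map g.op (castSec b hb) = castSec a ha) :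
    ∃ m : a ⟶ b, m.hom = eqToHom ha ≫ g ≫ eqToHom hb.symm := by
  subst ha hb
  rw [castSec_rfl, castSec_rfl] at h
  exact ⟨⟨g, h⟩, by simp⟩

theorem hom_eq_of_isHomLift {a b : Stk.EltObj P} (m : a ⟶ b) {T T' : C} (g : T ⟶ T')
    (h : (Stk.EltObj.forget P).IsHomLift g m) (ha : a.base = T) (hb : b.base = T') :
    m.hom = eqToHom ha ≫ g ≫ eqToHom hb.symm :=
  IsHomLift.fac' (Stk.EltObj.forget P) g m

theorem eqToHom_conj_inj {a b a' b' : C} (h : a = a') (h' : b' = b) {f g : a' ⟶ b'}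
    (e : eqToHom h ≫ f ≫ eqToHom h' = eqToHom h ≫ g ≫ eqToHom h') : f = g := by
  subst h h'
  simpa using e

theorem castSec_eq_of_hom {a b : Stk.EltObj P} (m : a ⟶ b) {T : C} (ha : a.base = T)
    (hb : b.base = T) (h : (Stk.EltObj.forget P).IsHomLift (𝟙 T) m) :
    castSec a ha = castSec b hb := by
  have := map_castSec m ha hb (𝟙 T) (hom_eq_of_isHomLift m (𝟙 T) h ha hb)
  rw [← this]
  simp

end Cast

namespace SecRep

variable {𝒵 : BasedCategory.{v, w} (Over S)} {U : Over S} {q : 𝒵 ⥤ᵇ FibCat.overCat U}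
    {F : Sp S} {π : F ⟶ (yon S).obj U}

theorem app_castSec (Φ : AlgSt.ofSp F ⥤ᵇ FibCat.overCat U) (a : Stk.EltObj F.obj) {T : Over S}
    (h : a.base = T) : (AlgSt.spMapOfOver Φ).hom.app (op T) (castSec a h) =
      ⟨eqToHom h.symm ≫ str Φ a⟩ := by
  subst h
  rw [castSec_rfl]
  simp
  rfl

/-- From the representation of the prelude to an elementwise one. -/
theorem nonempty_of_equiv (q : 𝒵 ⥤ᵇ FibCat.overCat U) (e : AlgSt.ofSp F ⥤ᵇ 𝒵)
    (he : FibCat.IsEquivOver e) :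
    Nonempty (SecRep q F (AlgSt.spMapOfOver (BasedFunctor.comp e q))) := by
  obtain ⟨r, ⟨α⟩, ⟨β⟩⟩ := he
  have hr : FibCat.IsEquivOver r := ⟨e, ⟨β⟩, ⟨α⟩⟩
  have hfull := Equiv.full_of hr
  have hfaith := Equiv.faithful_of hr
  have hmap : ∀ {z z' : 𝒵.obj} (m : z ⟶ z'),
      (r.map m).hom = eqToHom (r.w_obj z) ≫ 𝒵.p.map m ≫ eqToHom (r.w_obj z').symm := fun m =>
    hom_eq_of_isHomLift (r.map m) (𝒵.p.map m) (BasedFunctor.preserves_isHomLift r _ _)
      (r.w_obj _) (r.w_obj _)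
  refine ⟨{
    sec := fun z => castSec (r.obj z) (r.w_obj z)
    map := fun {z z'} m => map_castSec (r.map m) (r.w_obj z) (r.w_obj z') (𝒵.p.map m) (hmap m)
    full := ?_
    faithful := ?_
    surj := ?_
    proj := ?_ }⟩
  · intro z z' g hg
    obtain ⟨n, hn⟩ := exists_hom_of_castSec (r.w_obj z) (r.w_obj z') g hg
    obtain ⟨m, rfl⟩ := r.toFunctor.map_surjective n
    refine ⟨m, ?_⟩
    exact eqToHom_conj_inj (r.w_obj z) (r.w_obj z').symm ((hmap m).symm.trans hn)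
  · intro z z' m m' h
    apply r.toFunctor.map_injective
    apply Stk.EltObj.hom_ext
    exact (hmap m).trans (by rw [h]; exact (hmap m').symm)
  · intro T s
    refine ⟨e.obj (⟨T, s⟩ : Stk.EltObj F.obj), (e.w_obj (⟨T, s⟩ : Stk.EltObj F.obj)).symm, ?_⟩
    have h1 := castSec_eq_of_hom (Equiv.isoApp α (⟨T, s⟩ : Stk.EltObj F.obj)).hom (T := T)
      ((BasedFunctor.comp e r).w_obj (⟨T, s⟩ : Stk.EltObj F.obj)) rfl
      (Equiv.isoApp_isHomLift α (⟨T, s⟩ : (AlgSt.ofSp F).obj))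
    refine Eq.trans ?_ (h1.trans (castSec_mk s))
    change F.obj.map _ (F.obj.map _ _) = F.obj.map _ _
    rw [← Functor.map_comp_apply, ← op_comp, eqToHom_trans]
    rfl
  · intro z
    rw [app_castSec]
    congr 1
    have h2 := str_comp q (Equiv.isoApp β z).hom
    have h3 := Equiv.map_eq_eqToHom (p := 𝒵.p) (Equiv.isoApp β z).hom
      (Equiv.isoApp_isHomLift β z) ((BasedFunctor.comp r e).w_obj z)
    rw [h3] at h2
    have h5 : str q (e.obj (r.obj z)) = eqToHom ((BasedFunctor.comp r e).w_obj z) ≫ str q z :=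
      h2.symm
    have h6 := str_comp_functor e q (r.obj z)
    rw [h5, eqToHom_trans_assoc] at h6
    calc eqToHom (r.w_obj z).symm ≫ str (BasedFunctor.comp e q) (r.obj z)
        = eqToHom (r.w_obj z).symm ≫ eqToHom _ ≫ str q z := congrArg _ h6
      _ = str q z := by rw [eqToHom_trans_assoc, eqToHom_refl, Category.id_comp]

end SecRep

end K738
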