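import Groth.Agent.IsoNat.K862.Isom
import Groth.Agent.AlgSp.K608.GrpSch

/-!
# The group scheme structure on a scheme representing the automorphisms of an object
-/

set_option autoImplicit false
set_option backward.isDefEq.respectTransparency false
set_option backward.isDefEq.respectTransparency.types false

universe u

open CategoryTheory CategoryTheory.Limits AlgebraicGeometry Opposite K862 K862.Fib

namespace K738.AutG

variable {S : Scheme.{u}} {𝒳 : AlgSt.Cat S} {T : Over S}

/-- A scheme over `T` as a scheme over `S`. -/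
abbrev tl (X : Over T.left) : Over S := Over.mk (X.hom ≫ T.hom)

/-- Its structure morphism. -/
abbrev gl (X : Over T.left) : tl X ⟶ T := Over.homMk X.hom rfl

/-- Morphisms. -/
abbrev ml {X Y : Over T.left} (f : Y ⟶ X) : tl Y ⟶ tl X := Over.homMk f.left (by
  change f.left ≫ X.hom ≫ T.hom = Y.hom ≫ T.hom
  rw [Over.w_assoc])

theorem ml_gl {X Y : Over T.left} (f : Y ⟶ X) : ml f ≫ gl X = gl Y :=
  Over.OverMorphism.ext (Over.w f)

theorem ml_id (X : Over T.left) : ml (𝟙 X) = 𝟙 (tl X) := Over.OverMorphism.ext rfl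

theorem ml_comp {X Y Z : Over T.left} (f : Y ⟶ X) (g : Z ⟶ Y) : ml (g ≫ f) = ml g ≫ ml f :=
  Over.OverMorphism.ext rfl

section Grp

variable [FibCat.IsFibGrpd 𝒳.p] (t : 𝒳.p.Fiber T)

/-- The pullback of `t`. -/
noncomputable abbrev zz (X : Over T.left) : 𝒳.p.Fiber (tl X) := pull (gl X) t

noncomputable abbrev bb (X : Over T.left) : (zz t X).1 ⟶ t.1 := pullHom (gl X) t

theorem bb_lift {X Y : Over T.left} (f : Y ⟶ X) : 𝒳.p.IsHomLift (ml f ≫ gl X) (bb t Y) := by
  rw [ml_gl]; infer_instance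

/-- The comparison of pullbacks. -/
noncomputable def cc {X Y : Over T.left} (f : Y ⟶ X) : (zz t Y).1 ⟶ (zz t X).1 :=
  fill 𝒳.p (gl X) (ml f) (ml_gl f).symm (bb t X) (bb t Y)

instance {X Y : Over T.left} (f : Y ⟶ X) : 𝒳.p.IsHomLift (ml f) (cc t f) := by
  unfold cc; infer_instance

theorem cc_bb {X Y : Over T.left} (f : Y ⟶ X) : cc t f ≫ bb t X = bb t Y :=
  fill_comp (p := 𝒳.p) (gl X) (ml f) (ml_gl f).symm (bb t X) (bb t Y)

theorem cc_id (X : Over T.left) : cc t (𝟙 X) = 𝟙 _ := by
  have h1 : 𝒳.p.IsHomLift (ml (𝟙 X)) (𝟙 (zz t X).1) := by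
    rw [ml_id]
    exact IsHomLift.id (zz t X).2
  exact cancel (p := 𝒳.p) (gl X) (ml (𝟙 X)) (bb t X) (by rw [cc_bb, Category.id_comp])

theorem cc_comp {X Y Z : Over T.left} (f : Y ⟶ X) (g : Z ⟶ Y) : cc t (g ≫ f) = cc t g ≫ cc t f := by
  have h1 : 𝒳.p.IsHomLift (ml (g ≫ f)) (cc t g ≫ cc t f) := by
    rw [ml_comp]; infer_instance
  exact cancel (p := 𝒳.p) (gl X) (ml (g ≫ f)) (bb t X) (by rw [Category.assoc, cc_bb, cc_bb, cc_bb])

/-- Restriction of automorphisms. -/
noncomputable def autRes {X Y : Over T.left} (f : Y ⟶ X) : Aut (zz t X) →* Aut (zz t Y) where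
  toFun σ :=
    { hom := res (ml f) (cc t f) (cc t f) σ.hom
      inv := res (ml f) (cc t f) (cc t f) σ.inv
      hom_inv_id := by rw [← res_comp_res, σ.hom_inv_id, res_id]
      inv_hom_id := by rw [← res_comp_res, σ.inv_hom_id, res_id] }
  map_one' := Iso.ext (res_id _ _)
  map_mul' σ τ := Iso.ext (res_comp_res _ _ _ _ _ _)

theorem autRes_id (X : Over T.left) : autRes t (𝟙 X) = MonoidHom.id _ := by
  refine MonoidHom.ext fun σ => Iso.ext ?_
  refine (res_eq_iff _ _ _ _ _).2 ?_
  rw [cc_id]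
  exact (Category.comp_id _).trans (Category.id_comp _).symm

theorem autRes_comp {X Y Z : Over T.left} (f : Y ⟶ X) (g : Z ⟶ Y) :
    autRes t (g ≫ f) = (autRes t g).comp (autRes t f) := by
  refine MonoidHom.ext fun σ => Iso.ext ?_
  refine (res_eq_iff _ _ _ _ _).2 ?_
  rw [cc_comp]
  change (res (ml g) (cc t g) (cc t g) (res (ml f) (cc t f) (cc t f) σ.hom)).1 ≫ _ = _
  rw [res_comp_assoc, res_comp, Category.assoc]

/-- The presheaf of automorphisms of `t`. -/
noncomputable def autF : (Over T.left)ᵒᵖ ⥤ GrpCat.{u} where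
  obj X := GrpCat.of (Aut (zz t X.unop))
  map f := GrpCat.ofHom (autRes t f.unop)
  map_id X := GrpCat.hom_ext (autRes_id t X.unop)
  map_comp f g := GrpCat.hom_ext (autRes_comp t f.unop g.unop)

variable {t} {F : AlgSp.Sp S} (R : AutRep t F) {H : Over S} (e : (AlgSp.yon S).obj H ≅ F)

/-- The point of `H` attached to an automorphism. -/
noncomputable def pt (X : Over T.left) (σ : zz t X ⟶ zz t X) : tl X ⟶ H :=
  (e.inv.hom.app (op (tl X)) (R.sec (gl X) (zz t X) (bb t X) σ inferInstance)).down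

theorem app_pt (X : Over T.left) (σ : zz t X ⟶ zz t X) :
    e.hom.hom.app (op (tl X)) ⟨pt R e X σ⟩ = R.sec (gl X) (zz t X) (bb t X) σ inferInstance := by
  have h := congrArg (fun m => m.hom.app (op (tl X)) (R.sec (gl X) (zz t X) (bb t X) σ inferInstance)) e.inv_hom_id
  exact h

theorem pt_eq_iff (X : Over T.left) (σ : zz t X ⟶ zz t X) (k : tl X ⟶ H) :
    pt R e X σ = k ↔ R.sec (gl X) (zz t X) (bb t X) σ inferInstance = e.hom.hom.app (op (tl X)) ⟨k⟩ := by
  constructor
  · rintro rfl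
    exact (app_pt R e X σ).symm
  · intro h
    change ULift.down _ = _
    rw [h]
    have h := congrArg (fun m => (m.hom.app (op (tl X)) ⟨k⟩ : ULift _).down) e.hom_inv_id
    exact h

variable {h : H ⟶ T} (he : e.hom ≫ R.π = (AlgSp.yon S).map h)

include he in
theorem π_app {T' : Over S} (k : T' ⟶ H) : R.π.hom.app (op T') (e.hom.hom.app (op T') ⟨k⟩) = ⟨k ≫ h⟩ := by
  have h := congrArg (fun m => m.hom.app (op T') ⟨k⟩) he
  exact h

include he in
theorem pt_h (X : Over T.left) (σ : zz t X ⟶ zz t X) : pt R e X σ ≫ h = gl X := by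
  have h1 := π_app R e he (pt R e X σ)
  rw [app_pt, R.sec_π] at h1
  exact (congrArg ULift.down h1).symm

theorem pt_inj (X : Over T.left) {σ τ : zz t X ⟶ zz t X} (h : pt R e X σ = pt R e X τ) : σ = τ := by
  refine R.sec_inj (gl X) (bb t X) inferInstance ?_
  rw [← app_pt R e, ← app_pt R e, h]

include he in
theorem pt_surj (X : Over T.left) (k : tl X ⟶ H) (hk : k ≫ h = gl X) : ∃ σ : zz t X ⟶ zz t X, pt R e X σ = k := by
  obtain ⟨σ, hσ⟩ := R.sec_surj' (gl X) (bb t X) inferInstance (e.hom.hom.app (op (tl X)) ⟨k⟩)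
    ((π_app R e he k).trans (by rw [hk]))
  exact ⟨σ, (pt_eq_iff R e X σ k).2 hσ⟩

theorem pt_nat {X Y : Over T.left} (f : Y ⟶ X) (σ : zz t X ⟶ zz t X) :
    pt R e Y (res (ml f) (cc t f) (cc t f) σ) = ml f ≫ pt R e X σ := by
  rw [pt_eq_iff]
  have h1 := e.hom.hom.naturality (ml f).op
  have h2 := congrArg (fun m => m (⟨pt R e X σ⟩ : ULift _)) h1
  have h3 : e.hom.hom.app (op (tl Y)) ⟨ml f ≫ pt R e X σ⟩ =
      F.obj.map (ml f).op (e.hom.hom.app (op (tl X)) ⟨pt R e X σ⟩) := h2
  rw [h3, app_pt, R.sec_res (ml f) (gl X) (cc t f) (bb t X) σ inferInstance inferInstance, R.sec_eq_iff]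
  refine ⟨𝟙 _, by rw [Category.comp_id, Category.id_comp], ?_⟩
  rw [cc_bb]
  exact Category.id_comp _

/-- The point of `H` over `T` attached to an automorphism. -/
noncomputable def ptO (X : Over T.left) (σ : Aut (zz t X)) : X ⟶ Over.mk h.left :=
  Over.homMk (pt R e X σ.hom).left (congrArg CommaMorphism.left (pt_h R e he X σ.hom))

theorem ptO_bijective (X : Over T.left) : Function.Bijective (ptO R e he X) := by
  constructor
  · intro σ τ hστ
    refine Iso.ext (pt_inj R e X (Over.OverMorphism.ext ?_))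
    exact congrArg (fun m : X ⟶ Over.mk h.left => m.left) hστ
  · intro k
    let k' : tl X ⟶ H := Over.homMk k.left (by
      have h1 := Over.w k
      have h2 := Over.w h
      change k.left ≫ H.hom = X.hom ≫ T.hom
      rw [← h1, ← h2]
      exact (Category.assoc _ _ _).symm)
    obtain ⟨σ, hσ⟩ := pt_surj R e he X k' (Over.OverMorphism.ext (Over.w k))
    exact ⟨asIso σ, Over.OverMorphism.ext (congrArg (fun m : tl X ⟶ H => m.left) hσ)⟩

/-- `H` represents the automorphisms of `t`. -/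
noncomputable def repBy : (autF t ⋙ forget GrpCat).RepresentableBy (Over.mk h.left : Over T.left) where
  homEquiv {X} := (Equiv.ofBijective _ (ptO_bijective R e he X)).symm
  homEquiv_comp {X Y} f k := by
    obtain ⟨σ, rfl⟩ := (Equiv.ofBijective _ (ptO_bijective R e he Y)).surjective k
    have h1 : ptO R e he X (autRes t f σ) = f ≫ ptO R e he Y σ :=
      Over.OverMorphism.ext (congrArg (fun m : tl X ⟶ H => m.left) (pt_nat R e f σ.hom))
    have h2 : (Equiv.ofBijective _ (ptO_bijective R e he X)).symm (f ≫ ptO R e he Y σ) = autRes t f σ := by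
      rw [← h1]
      exact (Equiv.ofBijective _ (ptO_bijective R e he X)).symm_apply_apply _
    have h3 : (Equiv.ofBijective _ (ptO_bijective R e he Y)).symm (ptO R e he Y σ) = σ :=
      (Equiv.ofBijective _ (ptO_bijective R e he Y)).symm_apply_apply _
    exact h2.trans (congrArg (autRes t f) h3).symm

/-- The group structure. -/
@[instance_reducible]
noncomputable def grpObj : GrpObj (Over.mk h.left : Over T.left) :=
  GrpObj.ofRepresentableBy _ (autF t) (repBy R e he)

end Grp

end K738.AutG
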