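import Groth.Agent.AlgSt.K738.Aut1
import Groth.Agent.AlgSt.K738.YonProps
import Groth.Agent.AlgSt.K738.RespIso
import Groth.Agent.AlgSt.K739.Props
import Groth.Agent.AlgSp.K636.FinLqf
import Groth.Agent.S10259
import Groth.Agent.S4997
import Groth.Agent.S0353

/-!
# Automorphism spaces with finitely many points over an algebraically closed field of characteristic zero are unramified
-/

set_option autoImplicit false
set_option backward.isDefEq.respectTransparency false
set_option backward.isDefEq.respectTransparency.types false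

universe u

open CategoryTheory CategoryTheory.Limits AlgebraicGeometry Opposite AlgSp K621.Base

namespace K738.AutFin

variable {S : Scheme.{u}}

/-- A scheme locally of finite type over a field with finitely many closed points is finite as a set. -/
theorem finite_of_closedPoints {X : Scheme.{u}} {K : Type u} [Field K] (f : X ⟶ Spec (CommRingCat.of K))
    [LocallyOfFiniteType f] (h : (closedPoints X).Finite) : Finite X := by
  have hJ : JacobsonSpace X := LocallyOfFiniteType.jacobsonSpace f
  have h1 : IsClosed (closedPoints X) := by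
    have : closedPoints X = ⋃ x ∈ closedPoints X, {x} := (Set.biUnion_of_singleton _).symm
    rw [this]
    exact h.isClosed_biUnion fun x hx => hx
  have h2 : closure (closedPoints X) = Set.univ := closure_closedPoints
  rw [h1.closure_eq] at h2
  rw [h2] at h
  exact Set.finite_univ_iff.1 h

/-- A quasi-separated space locally of finite type over an algebraically closed field with finitely many rational points is
locally quasi-finite. -/
theorem locP_lqf_of_finite {F : Sp S} (hF : IsAlgSpace F) {Ω : Type u} [Field Ω] [IsAlgClosed Ω]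
    (t : Spec (CommRingCat.of Ω) ⟶ S) (f : F ⟶ (yon S).obj (Over.mk t)) (hf : IsQuasiSeparatedMor f)
    (hl : LocP @LocallyOfFiniteType f) [Finite {g : (yon S).obj (Over.mk t) ⟶ F // g ≫ f = 𝟙 _}] :
    LocP (@LocallyQuasiFinite ⊓ @LocallyOfFiniteType) f := by
  have : IsAffine (Over.mk t).left := inferInstanceAs (IsAffine (Spec (CommRingCat.of Ω)))
  refine K597.locP_of_local K597.etLoc_lqf f fun U' a' ha' x => ?_
  obtain ⟨W, hxW, -, hW⟩ := K621.Base.exists_affine_openChart x ⊤ trivial
  let a := (yon S).map (openChartι U' W) ≫ a'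
  have ha : RepWith @Etale a := K621.Base.repWith_openChart ha' W
  obtain ⟨h, hh⟩ := (yon S).map_surjective (a ≫ f)
  have hb : RepWith @Etale (𝟙 ((yon S).obj (Over.mk t))) := repWith_id _ _
  refine ⟨openChart U' W, Over.mk t, openChart U' W, a, 𝟙 _, h, 𝟙 _, openChartι U' W, hb, by simp [hh], ?_, by simp [a],
    ?_, ?_, ?_⟩
  · have h1 : LocallyOfFiniteType h.left := hl a (𝟙 _) h ha hb (by simp [hh])
    refine ⟨?_, h1⟩
    have : Finite ↥(openChart U' W).left := by
      refine finite_of_closedPoints (K := Ω) h.left ?_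
      have key : ∀ w ∈ closedPoints ↥(openChart U' W).left, ∃ g : {g : (yon S).obj (Over.mk t) ⟶ F // g ≫ f = 𝟙 _},
          Points.ofPt a w = Points.ofPt g.1 (IsLocalRing.closedPoint Ω) := by
        intro w hw
        let s : Over.mk t ⟶ openChart U' W := Over.homMk (pointOfClosedPoint (K := Ω) h.left w hw) (by
          have h2 := Over.w h
          change _ = t
          rw [← h2, pointOfClosedPoint_comp_assoc]
          rfl)
        have hsh : s ≫ h = 𝟙 _ := Over.OverMorphism.ext (pointOfClosedPoint_comp (K := Ω) h.left w hw)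
        refine ⟨⟨(yon S).map s ≫ a, ?_⟩, ?_⟩
        · rw [Category.assoc, ← hh, ← CategoryTheory.Functor.map_comp, hsh, CategoryTheory.Functor.map_id]
        · refine Eq.trans ?_ (K609.Points.ofPt_yon_map_comp s a (IsLocalRing.closedPoint Ω)).symm
          exact congrArg (Points.ofPt a) (pointOfClosedPoint_apply (K := Ω) h.left w hw _).symm
      refine Set.Finite.subset (Set.finite_iUnion fun g : {g : (yon S).obj (Over.mk t) ⟶ F // g ≫ f = 𝟙 _} =>
        K621.Decent.finite_fibre_of_compact (K636.FinLqf.qcPoint hF f hf (Points.ofPt g.1 (IsLocalRing.closedPoint Ω))) ha)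
        fun w hw => ?_
      obtain ⟨g, hg⟩ := key w hw
      exact Set.mem_iUnion.2 ⟨g, hg⟩
    exact LocallyQuasiFinite.of_finite_preimage_singleton _ fun x => Set.toFinite _
  · change Etale (𝟙 _)
    infer_instance
  · change Etale W.ι
    infer_instance
  · exact ⟨⟨x, hxW⟩, rfl⟩

section Aut

variable {𝒳 : AlgSt.Cat S} [FibCat.IsFibGrpd 𝒳.p] {T : Over S} {z : 𝒳.p.Fiber T} {F : Sp S} (R : K862.AutRep z F)

/-- Sections of the automorphism space over the identity come from automorphisms. -/
theorem finite_sections (hfin : Finite (z ⟶ z)) : Finite {g : (yon S).obj T ⟶ F // g ≫ R.π = 𝟙 _} := by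
  have hid : 𝒳.p.IsHomLift (𝟙 T) (𝟙 z.1) := IsHomLift.id z.2
  have key : ∀ g : {g : (yon S).obj T ⟶ F // g ≫ R.π = 𝟙 _}, ∃ σ : z ⟶ z,
      R.sec (𝟙 T) z (𝟙 z.1) σ hid = (J S).uliftYonedaEquiv.{u + 1} g.1 := by
    intro g
    refine R.sec_surj' (𝟙 T) (𝟙 z.1) hid _ ?_
    have h1 := GrothendieckTopology.uliftYonedaEquiv_comp (J := J S) g.1 R.π
    rw [g.2] at h1
    exact h1.symm
  choose σ hσ using key
  refine Finite.of_injective σ fun g g' h => Subtype.ext ?_
  refine (J S).uliftYonedaEquiv.{u + 1}.injective ?_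
  rw [← hσ g, ← hσ g', h]

end Aut

/-- **Automorphism spaces with finitely many rational points over an algebraically closed field of characteristic zero are
unramified.** -/
theorem locP_unram {𝒳 : AlgSt.Cat S} [FibCat.IsFibGrpd 𝒳.p] {Ω : Type u} [Field Ω] [IsAlgClosed Ω] [CharZero Ω]
    (t : Spec (CommRingCat.of Ω) ⟶ S) {z : 𝒳.p.Fiber (Over.mk t)} {F : Sp S} (hF : IsAlgSpace F) (R : K862.AutRep z F)
    (hs : IsSeparatedMor R.π) (hl : LocP @LocallyOfFiniteType R.π) (hfin : Finite (z ⟶ z)) :
    LocP (@LocallyOfFiniteType ⊓ @FormallyUnramified) R.π := by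
  have := finite_sections R hfin
  have hq := locP_lqf_of_finite hF t R.π (K739.Props.qs_of_sep hs) hl
  obtain ⟨A, ⟨e⟩⟩ := K613.exists_iso_of_lqf hF R.π hq hs
  obtain ⟨h, hh⟩ := (yon S).map_surjective (e.hom ≫ R.π)
  have hq' : LocP (@LocallyQuasiFinite ⊓ @LocallyOfFiniteType) ((yon S).map h) := by
    rw [hh]
    exact (MorphismProperty.cancel_left_of_respectsIso _ e.hom R.π).2 hq
  obtain ⟨h1, h2⟩ : (@LocallyQuasiFinite ⊓ @LocallyOfFiniteType) h.left := locP_yon_map hq'
  let G : Over (Spec (CommRingCat.of Ω)) := Over.mk h.left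
  have hG : GrpObj G := AutG.grpObj R e hh.symm
  have h3 : LocallyOfFiniteType G.hom := h2
  have h4 : Smooth G.hom := Groth.Agent.S0353.result Ω G
  have h5 : Etale h.left := (Groth.Agent.S4997.result h.left).2 ⟨h4, h1⟩
  have h6 : LocP (@LocallyOfFiniteType ⊓ @FormallyUnramified) ((yon S).map h) :=
    (locP_yon_iff ((K597.isListed_iff _).2 (Or.inr (Or.inr (Or.inr (Or.inr (Or.inr (Or.inr rfl))))))) h).2
      ⟨h2, inferInstance⟩
  rw [hh] at h6
  exact (MorphismProperty.cancel_left_of_respectsIso _ e.hom R.π).1 h6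

end K738.AutFin
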