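import Groth.Agent.AlgSt.K738.Unr3
import Groth.Agent.AlgSt.K747.DMDiag

/-!
# The largest open substack with diagonal in `P`, and the largest Deligne-Mumford open substack, in any universes
-/

set_option autoImplicit false
set_option backward.isDefEq.respectTransparency false
set_option backward.isDefEq.respectTransparency.types false

universe v₁ w₁ v' w' v w u

open CategoryTheory CategoryTheory.Limits AlgebraicGeometry Opposite AlgSp K609.GrpLoc K734.Fib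

namespace K738.Unr

variable {S : Scheme.{u}}

section AnyUniv

variable {𝒳 : BasedCategory.{v, w} (Over S)} {P : MorphismProperty Scheme.{u}}

/-- **The largest open substack with diagonal in `P`**, for an algebraic stack in any universes. -/
theorem exists_largest_any (hP : GLoc P) (hloc : IsLocalOnBase IsFppfCover (LocP (S := S) P))
    (h𝒳 : AlgSt.IsAlgStack Scheme.fppfPrecoverage 𝒳) :
    ∃ Q₀ : 𝒳.obj → Prop, AlgSt.IsOpenSubstack 𝒳 Q₀ Scheme.fppfPrecoverage ∧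
      AlgSt.RepByAlgSpWith (LocP P) (FibCat.diag (FibCat.toSelf (AlgSt.fullSub 𝒳 Q₀))) ∧
      (∀ Q₁ : 𝒳.obj → Prop, AlgSt.IsOpenSubstack 𝒳 Q₁ Scheme.fppfPrecoverage →
        AlgSt.RepByAlgSpWith (LocP P) (FibCat.diag (FibCat.toSelf (AlgSt.fullSub 𝒳 Q₁))) → ∀ A, Q₁ A → Q₀ A) ∧
      ∀ (U : Over S) (x : FibCat.overCat U ⥤ᵇ 𝒳), (∀ u, Q₀ (x.obj u)) ↔
        AlgSt.RepByAlgSpWith (LocP P) (FibCat.fpFst x (FibCat.inertiaToBase (FibCat.toSelf 𝒳))) := by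
  obtain ⟨𝒳', e, he, h𝒳'⟩ := K738.Small.exists_model' h𝒳
  obtain ⟨e', he', ⟨α⟩, ⟨β⟩⟩ := exists_inverse he
  obtain ⟨Q, hQ, hQP, hmax, hchart⟩ := exists_largest hP hloc h𝒳'
  have hQl := hasOpenLocus_of h𝒳' hQ
  refine ⟨fun a => Q (e'.obj a), K899.OpenCrit.isOpenSubstack h𝒳 (hasOpenLocus_comap e' hQl), ?_, ?_, fun U x => ?_⟩
  · exact (K740.Inv.repByAlgSpWith_diagSelf_iff _ (isEquivOver_resFun e' he' hQ.1)).2 hQP
  · intro Q₁ hQ₁ h1 A hA
    have hQ₁l := hasOpenLocus_of h𝒳 hQ₁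
    have h2 := K899.OpenCrit.isOpenSubstack h𝒳' (hasOpenLocus_comap e hQ₁l)
    have h3 := (K740.Inv.repByAlgSpWith_diagSelf_iff (LocP P) (isEquivOver_resFun e he hQ₁.1)).2 h1
    have := hQ₁.1
    exact hmax _ h2 h3 (e'.obj A) (ObjectProperty.prop_of_iso Q₁ (app β A).symm hA)
  · exact (hchart U (BasedFunctor.comp x e')).trans (repByAlgSpWith_fpFst_inertia_iff e' he' x).symm

/-- The diagonal of a Deligne-Mumford stack is unramified, in any universes. -/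
theorem unramified_diag_of_isDM (h : AlgSt.IsDM Scheme.fppfPrecoverage 𝒳) :
    AlgSt.RepByAlgSpWith (LocP (@LocallyOfFiniteType ⊓ @FormallyUnramified)) (FibCat.diag (FibCat.toSelf 𝒳)) := by
  obtain ⟨𝒳', e, he, h𝒳'⟩ := K738.Small.exists_model' h.1
  exact (K740.Inv.repByAlgSpWith_diagSelf_iff _ he).1 (K747.DM.isDMOver_of_isDM ((K740.Inv.isDM_iff _ he).2 h))

/-- Unramified diagonal implies Deligne-Mumford in any universes, if it does so for small stacks. -/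
theorem isDM_of_unramified_diag
    (hDM : ∀ 𝒲 : AlgSt.Cat S, AlgSt.IsAlgStack Scheme.fppfPrecoverage 𝒲 → AlgSt.IsDMOver 𝒲 →
      AlgSt.IsDM Scheme.fppfPrecoverage 𝒲)
    (h𝒳 : AlgSt.IsAlgStack Scheme.fppfPrecoverage 𝒳)
    (h : AlgSt.RepByAlgSpWith (LocP (@LocallyOfFiniteType ⊓ @FormallyUnramified)) (FibCat.diag (FibCat.toSelf 𝒳))) :
    AlgSt.IsDM Scheme.fppfPrecoverage 𝒳 := by
  obtain ⟨𝒳', e, he, h𝒳'⟩ := K738.Small.exists_model' h𝒳
  exact (K740.Inv.isDM_iff _ he).1 (hDM 𝒳' h𝒳' ((K740.Inv.repByAlgSpWith_diagSelf_iff _ he).2 h))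

/-- **The largest Deligne-Mumford open substack**, for an algebraic stack in any universes. -/
theorem exists_largest_dm
    (hDM : ∀ 𝒲 : AlgSt.Cat S, AlgSt.IsAlgStack Scheme.fppfPrecoverage 𝒲 → AlgSt.IsDMOver 𝒲 →
      AlgSt.IsDM Scheme.fppfPrecoverage 𝒲)
    (h𝒳 : AlgSt.IsAlgStack Scheme.fppfPrecoverage 𝒳) :
    ∃ Q : 𝒳.obj → Prop, AlgSt.IsOpenSubstack 𝒳 Q Scheme.fppfPrecoverage ∧
      AlgSt.IsDM Scheme.fppfPrecoverage (AlgSt.fullSub 𝒳 Q) ∧
      (∀ Q' : 𝒳.obj → Prop, AlgSt.IsOpenSubstack 𝒳 Q' Scheme.fppfPrecoverage →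
        AlgSt.IsDM Scheme.fppfPrecoverage (AlgSt.fullSub 𝒳 Q') → ∀ A, Q' A → Q A) ∧
      ∀ (U : Over S) (x : FibCat.overCat U ⥤ᵇ 𝒳), (∀ u, Q (x.obj u)) ↔
        AlgSt.RepByAlgSpWith (LocP (@LocallyOfFiniteType ⊓ @FormallyUnramified))
          (FibCat.fpFst x (FibCat.inertiaToBase (FibCat.toSelf 𝒳))) := by
  obtain ⟨Q, h1, h2, h3, h4⟩ := exists_largest_any gLoc_unram LOpen.nice_unr.loc h𝒳
  exact ⟨Q, h1, isDM_of_unramified_diag hDM h1.2.1 h2,
    fun Q' h1' h2' => h3 Q' h1' (unramified_diag_of_isDM h2'), h4⟩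

end AnyUniv

end K738.Unr
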