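import Groth.Agent.AlgSt.K738.Aut2
import Groth.Agent.AlgSt.K738.Unr4
import Groth.Agent.IsoNat.K864.PropInertia
import Groth.Agent.Gerb.K894.BCRep
import Groth.Agent.AlgSt.K747.SliceAtlas
import Groth.Agent.AlgSt.K747.EtAlias

/-!
# Finite automorphism groups in characteristic zero imply an unramified diagonal

An algebraic stack with separated diagonal all of whose geometric points live in characteristic zero and have finite
automorphism groups is Deligne-Mumford, in any universes.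
-/

set_option autoImplicit false
set_option backward.isDefEq.respectTransparency false
set_option backward.isDefEq.respectTransparency.types false

universe v₁ w₁ v' w' v w u

open CategoryTheory CategoryTheory.Limits AlgebraicGeometry Opposite AlgSp K609.GrpLoc K734.Fib

namespace K738.AutDM

open K862 K862.Fib K862.Yon

variable {S : Scheme.{u}}

section Small

variable {𝒳 : AlgSt.Cat S}

/-- The inertia over a geometric point of characteristic zero with finite automorphism group is unramified. -/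
theorem unram_geom (h𝒳 : AlgSt.IsAlgStack Scheme.fppfPrecoverage 𝒳)
    (hsep : AlgSt.RepByAlgSpWith IsSeparatedMor (FibCat.diag (FibCat.toSelf 𝒳)))
    {Ω : Type u} [Field Ω] [IsAlgClosed Ω] [CharZero Ω] (t : Spec (CommRingCat.of Ω) ⟶ S)
    (x : FibCat.overCat (Over.mk t) ⥤ᵇ 𝒳) (hfin : Finite (objOf x ⟶ objOf x)) :
    AlgSt.RepByAlgSpWith (LocP (@LocallyOfFiniteType ⊓ @FormallyUnramified))
      (FibCat.fpFst x (FibCat.inertiaToBase (FibCat.toSelf 𝒳))) := by
  have : FibCat.IsFibGrpd 𝒳.p := h𝒳.isStack.1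
  have := isFibGrpd_inertia (𝒳 := 𝒳)
  have := K735.Top.locP_respectsIso (S := S) @LocallyOfFiniteType
  have h1 := K735.Top.repByAlgSpWith_inf (K740.Inertia.repByAlgSpWith_inertiaToBase _ hsep)
    (K740.Inertia.repByAlgSpWith_inertiaToBase _ (Lft.repByAlgSpWith_lft_diag_toSelf h𝒳))
  obtain ⟨F, e, he, hs, hl⟩ := h1 (Over.mk t) x
  obtain ⟨R, hR⟩ := K864.PropInertia.exists_fRep_of_equiv x e he
  rw [← hR] at hs hl
  have h2 := AutFin.locP_unram t F.property (AutRep.ofFRep R) hs hl hfin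
  refine K894.BCRep.repByAlgSpWith_of_repOver LOpen.nice_unr.bc ⟨F, e, he, ?_⟩
  rw [← hR]
  exact h2

/-- All objects lie in an open substack containing the geometric points. -/
theorem mem_of_geom {𝒳 : BasedCategory.{v, w} (Over S)} [FibCat.IsFibGrpd 𝒳.p] {Q : 𝒳.obj → Prop}
    (hQ : K899.OpenCrit.HasOpenLocus Q)
    (h : ∀ (Ω : Type u) [Field Ω] [IsAlgClosed Ω] (t : Spec (CommRingCat.of Ω) ⟶ S) (z : 𝒳.p.Fiber (Over.mk t)), Q z.1)
    (A : 𝒳.obj) : Q A := by
  obtain ⟨O, hO⟩ := hQ A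
  refine (hO A (𝟙 A)).2 fun τ _ => ?_
  let Ω := AlgebraicClosure ((𝒳.p.obj A).left.residueField τ)
  let ι : Spec (CommRingCat.of Ω) ⟶ (𝒳.p.obj A).left :=
    Spec.map (CommRingCat.ofHom (algebraMap ((𝒳.p.obj A).left.residueField τ) Ω)) ≫
      (𝒳.p.obj A).left.fromSpecResidueField τ
  let f : Over.mk (ι ≫ (𝒳.p.obj A).hom) ⟶ 𝒳.p.obj A := Over.homMk ι rfl
  obtain ⟨y, φ, hφ⟩ := exists_pull (p := 𝒳.p) f ⟨A, rfl⟩
  have h1 := (hO y.1 φ).1 (h Ω (ι ≫ (𝒳.p.obj A).hom) y)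
  have h2 : 𝒳.p.map φ = eqToHom y.2 ≫ f := by
    have := IsHomLift.fac' 𝒳.p f φ
    simpa using this
  have h3 : (𝒳.p.map φ).left ((eqToHom y.2.symm).left (IsLocalRing.closedPoint Ω)) = τ := by
    rw [h2]
    change ((eqToHom y.2.symm).left ≫ (eqToHom y.2 ≫ f).left) (IsLocalRing.closedPoint Ω) = τ
    rw [← Over.comp_left, eqToHom_trans_assoc, eqToHom_refl, Category.id_comp]
    change (𝒳.p.obj A).left.fromSpecResidueField τ ((Spec.map (CommRingCat.ofHom
      (algebraMap ((𝒳.p.obj A).left.residueField τ) Ω))) (IsLocalRing.closedPoint Ω)) = τ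
    exact Scheme.fromSpecResidueField_apply _ _
  exact h1 ⟨_, h3⟩

/-- Separated diagonal, characteristic zero and finite automorphism groups at geometric points: the diagonal is
unramified. -/
theorem unram_diag_small (h𝒳 : AlgSt.IsAlgStack Scheme.fppfPrecoverage 𝒳)
    (hsep : AlgSt.RepByAlgSpWith IsSeparatedMor (FibCat.diag (FibCat.toSelf 𝒳)))
    (hchar : ∀ (Ω : Type u) [Field Ω] [IsAlgClosed Ω] (_ : Spec (CommRingCat.of Ω) ⟶ S), CharZero Ω)
    (hfin : ∀ (Ω : Type u) [Field Ω] [IsAlgClosed Ω] (t : Spec (CommRingCat.of Ω) ⟶ S) (z : 𝒳.p.Fiber (Over.mk t)),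
      Finite (z ⟶ z)) :
    AlgSt.RepByAlgSpWith (LocP (@LocallyOfFiniteType ⊓ @FormallyUnramified)) (FibCat.diag (FibCat.toSelf 𝒳)) := by
  have hfib : FibCat.IsFibGrpd 𝒳.p := h𝒳.isStack.1
  obtain ⟨Q, hQ, hQP, -, hchart⟩ := Unr.exists_largest gLoc_unram LOpen.nice_unr.loc h𝒳
  have hQl := Unr.hasOpenLocus_of h𝒳 hQ
  have hall : ∀ A, Q A := mem_of_geom hQl fun Ω _ _ t z => by
    have := hchar Ω t
    have h1 := (hchart _ (ofObj z)).2 (unram_geom h𝒳 hsep t (ofObj z) (hfin Ω t _)) (Over.mk (𝟙 _))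
    exact hQl.of_hom (inv (objOfOfObj z)).1 h1
  obtain rfl : Q = fun _ => True := funext fun A => eq_true (hall A)
  exact (K740.Inv.repByAlgSpWith_diagSelf_iff _ Unr.isEquivOver_subIncl_top).1 hQP

end Small

section Any

variable {𝒳 : BasedCategory.{v, w} (Over S)}

/-- The same in any universes. -/
theorem unram_diag (h𝒳 : AlgSt.IsAlgStack Scheme.fppfPrecoverage 𝒳)
    (hsep : AlgSt.RepByAlgSpWith IsSeparatedMor (FibCat.diag (FibCat.toSelf 𝒳)))
    (hchar : ∀ (Ω : Type u) [Field Ω] [IsAlgClosed Ω] (_ : Spec (CommRingCat.of Ω) ⟶ S), CharZero Ω)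
    (hfin : ∀ (Ω : Type u) [Field Ω] [IsAlgClosed Ω] (t : Spec (CommRingCat.of Ω) ⟶ S) (z : 𝒳.p.Fiber (Over.mk t)),
      Finite (Aut z)) :
    AlgSt.IsDMOver 𝒳 := by
  have hfib : FibCat.IsFibGrpd 𝒳.p := h𝒳.isStack.1
  obtain ⟨𝒳', e, he, h𝒳'⟩ := K738.Small.exists_model' h𝒳
  have hfib' : FibCat.IsFibGrpd 𝒳'.p := h𝒳'.isStack.1
  refine (K740.Inv.repByAlgSpWith_diagSelf_iff _ he).1 (unram_diag_small h𝒳'
    ((K740.Inv.repByAlgSpWith_diagSelf_iff _ he).2 hsep) hchar fun Ω _ _ t z => ?_)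
  have hf := faithful_of he
  let z' : 𝒳.p.Fiber (Over.mk t) := ⟨e.obj z.1, (e.w_obj z.1).trans z.2⟩
  have : Finite (Aut z') := hfin Ω t z'
  let g : (z ⟶ z) → Aut z' := fun σ =>
    @asIso _ _ _ _ (⟨e.map σ.1, haveI := σ.2; BasedFunctor.preserves_isHomLift e (𝟙 _) σ.1⟩ : z' ⟶ z') inferInstance
  refine Finite.of_injective g fun σ σ' h => ?_
  have h1 : e.map σ.1 = e.map σ'.1 := congrArg (fun i : Aut z' => i.hom.1) h
  exact hom_ext' (e.toFunctor.map_injective h1)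

/-- an algebraic stack with unramified diagonal is Deligne-Mumford, for the étale topology and in any universes -/
theorem isDM_etale_of_isDMOver (h𝒳 : AlgSt.IsAlgStack Scheme.fppfPrecoverage 𝒳) (h : AlgSt.IsDMOver 𝒳) :
    AlgSt.IsDM Scheme.etalePrecoverage 𝒳 := by
  obtain ⟨𝒳', e, he, h𝒳'⟩ := K738.Small.exists_model' h𝒳
  exact (K740.Inv.isDM_iff _ he).1 (K747.EtFppf.isDM_etale_iff.2 (K747.DM.isDM_of_isDMOver h𝒳'
    ((K740.Inv.repByAlgSpWith_diagSelf_iff _ he).2 h)))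

/-- the étale and the fppf topology give the same algebraic stacks, in any universes -/
theorem isAlgStack_etale (h𝒳 : AlgSt.IsAlgStack Scheme.fppfPrecoverage 𝒳) :
    AlgSt.IsAlgStack Scheme.etalePrecoverage 𝒳 := by
  obtain ⟨𝒳', e, he, h𝒳'⟩ := K738.Small.exists_model' h𝒳
  exact (K740.Inv.isAlgStack_iff _ he).1 (K747.EtFppf.isAlgStack_etale_iff.2 h𝒳')

/-- **Finite automorphism groups in characteristic zero imply Deligne-Mumford.** -/
theorem isDM_etale (h𝒳 : AlgSt.IsAlgStack Scheme.fppfPrecoverage 𝒳)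
    (hsep : AlgSt.RepByAlgSpWith IsSeparatedMor (FibCat.diag (FibCat.toSelf 𝒳)))
    (hchar : ∀ (Ω : Type u) [Field Ω] [IsAlgClosed Ω] (_ : Spec (CommRingCat.of Ω) ⟶ S), CharZero Ω)
    (hfin : ∀ (Ω : Type u) [Field Ω] [IsAlgClosed Ω] (t : Spec (CommRingCat.of Ω) ⟶ S) (z : 𝒳.p.Fiber (Over.mk t)),
      Finite (Aut z)) :
    AlgSt.IsDM Scheme.etalePrecoverage 𝒳 :=
  isDM_etale_of_isDMOver h𝒳 (unram_diag h𝒳 hsep hchar hfin)

end Any

end K738.AutDM
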