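import Groth.Agent.AlgSt.K738.Sep2
import Groth.Agent.AlgSt.K746.ModLoc
import Groth.Agent.AlgSt.K746.GeomBij
import Groth.Agent.AlgSt.K743.Coarse818

/-!
# Coarse moduli spaces of separated stacks with unramified diagonal, in any universes
-/

set_option autoImplicit false
set_option backward.isDefEq.respectTransparency false
set_option backward.isDefEq.respectTransparency.types false

universe v' w' v w u

open CategoryTheory CategoryTheory.Limits AlgebraicGeometry Opposite AlgSp K734.Fib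

namespace K738.Coarse

variable {S : Scheme.{u}}

section Transfer

variable {𝒳 : BasedCategory.{v, w} (Over S)} {𝒵 : BasedCategory.{v', w'} (Over S)} {M : Sp S}

theorem geomPtBij_comp_of_equiv (h𝒵 : FibCat.IsFibGrpd 𝒵.p) {e : 𝒵 ⥤ᵇ 𝒳} (he : FibCat.IsEquivOver e)
    {π : 𝒳 ⥤ᵇ AlgSt.ofSp M} (h : AlgSt.GeomPtBij π) : AlgSt.GeomPtBij (BasedFunctor.comp e π) := by
  have hf := full_of he
  refine K746.GeomBij.geomPtBij_of h𝒵 (fun t m => ?_) (fun t x y hx hy hxy => ?_)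
  · obtain ⟨x, hx, hm⟩ := K746.GeomBij.surj h t m
    obtain ⟨z, i, hi⟩ := essSurjOver_of he x
    refine ⟨z, ?_, ?_⟩
    · exact (e.w_obj z).symm.trans (hi.obj_eq.trans hx)
    · exact (eq_of_vert (hi.map π)).trans hm
  · obtain ⟨φ, hφ⟩ := K746.GeomBij.inj h t (x := e.obj x) (y := e.obj y) ((e.w_obj x).trans hx)
      ((e.w_obj y).trans hy) hxy
    obtain ⟨ψ, rfl⟩ := e.toFunctor.map_surjective φ
    exact ⟨ψ, IsVert.of_map e hφ⟩

/-- Coarse moduli spaces are invariant under equivalences of the source. -/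
theorem isCoarseModuli_comp_of_equiv (h𝒵 : FibCat.IsFibGrpd 𝒵.p) {e : 𝒵 ⥤ᵇ 𝒳} (he : FibCat.IsEquivOver e)
    {π : 𝒳 ⥤ᵇ AlgSt.ofSp M} (h : AlgSt.IsCoarseModuli π) : AlgSt.IsCoarseModuli (BasedFunctor.comp e π) :=
  ⟨(K746.ModLoc.isCatModuliIn_comp_iff he (fun _ => rfl)).2 h.1, geomPtBij_comp_of_equiv h𝒵 he h.2⟩

end Transfer

section Any

variable {𝒳 : BasedCategory.{v, w} (Over S)}

/-- The Keel-Mori theorem for stacks with finite inertia in the universes of the base (S16692 and S16706). -/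
def KM (S : Scheme.{u}) : Prop :=
  ∀ (𝒳 : AlgSt.Cat S), AlgSt.IsAlgStack Scheme.fppfPrecoverage 𝒳 →
    AlgSt.RepByAlgSpWith AlgSp.IsFiniteMor (FibCat.inertiaToBase (FibCat.toSelf 𝒳)) →
      ∃ (M : AlgSp.Sp S) (π : 𝒳 ⥤ᵇ AlgSt.ofSp M), AlgSt.IsCoarseModuli π

/-- The inertia is invariant under equivalences. -/
theorem exists_coarse (hKM : KM S) (h𝒳 : AlgSt.IsAlgStack Scheme.fppfPrecoverage 𝒳) (hsep : AlgSt.IsSeparatedOver 𝒳)
    (hu : AlgSt.IsDMOver 𝒳) : ∃ (M : AlgSp.Sp S) (π : 𝒳 ⥤ᵇ AlgSt.ofSp M), AlgSt.IsCoarseModuli π := by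
  obtain ⟨𝒳', e, he, h𝒳'⟩ := K738.Small.exists_model' h𝒳
  obtain ⟨e', he', -, -⟩ := exists_inverse he
  have hsep' : AlgSt.IsSeparatedOver 𝒳' := (K740.Inv.repByAlgSpWith_diagSelf_iff _ he).2 hsep
  have hu' : AlgSt.IsDMOver 𝒳' := (K740.Inv.repByAlgSpWith_diagSelf_iff _ he).2 hu
  obtain ⟨M, π, hπ⟩ := hKM 𝒳' h𝒳' (K743.KM818.finite_inertia hsep' hu')
  exact ⟨M, BasedFunctor.comp e' π, isCoarseModuli_comp_of_equiv h𝒳.isStack.1 he' hπ⟩

end Any

end K738.Coarse
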