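import Groth.Agent.AlgSt.K738.LftDiag

/-!
# The diagonal of a composition
-/

set_option autoImplicit false
set_option backward.isDefEq.respectTransparency false
set_option backward.isDefEq.respectTransparency.types false

universe w₁ v₁ w' v' w v u

open CategoryTheory CategoryTheory.Limits AlgebraicGeometry Opposite AlgSp

namespace K738

namespace DiagComp

open K739.Isom K739.Diag K739.Rep

variable {S : Scheme.{u}} {𝒳 : BasedCategory.{u, w} (Over S)} {𝒴 : BasedCategory.{u, w'} (Over S)}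
  {𝒵 : BasedCategory.{v₁, w₁} (Over S)}

/-- The diagonal of a composition has an etale local property stable under composition, if the diagonals of the factors
have it (and it is representable by algebraic spaces). -/
theorem repByAlgSpWith_diag_comp {P : MorphismProperty Scheme.{u}} (hP : K597.EtLoc P) [P.IsStableUnderComposition]
    (hX : FibCat.IsFibGrpd 𝒳.p) (hY : FibCat.IsFibGrpd 𝒴.p) (hZ : FibCat.IsFibGrpd 𝒵.p)
    (f : 𝒳 ⥤ᵇ 𝒴) (g : 𝒴 ⥤ᵇ 𝒵) (hrep : AlgSt.RepByAlgSp1 (FibCat.diag (BasedFunctor.comp f g)))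
    (hf : AlgSt.RepByAlgSpWith (LocP P) (FibCat.diag f)) (hg : AlgSt.RepByAlgSpWith (LocP P) (FibCat.diag g)) :
    AlgSt.RepByAlgSpWith (LocP P) (FibCat.diag (BasedFunctor.comp f g)) := by
  rw [repByAlgSpWith_diag_iff _ _ hX hZ]
  intro U x₁ x₂ θ
  obtain ⟨G₁, β₁, -⟩ := (repByAlgSpWith_diag_iff ⊤ _ hX hZ).1 (repByAlgSpWith_top_iff.2 hrep) U x₁ x₂ θ
  obtain ⟨G₂, β₂, h₂⟩ := (repByAlgSpWith_diag_iff _ _ hY hZ).1 hg U
    (BasedFunctor.comp x₁ f) (BasedFunctor.comp x₂ f) (assocIso f g x₁ x₂ θ)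
  refine ⟨G₁, β₁, ?_⟩
  let m : G₁.obj ⟶ G₂.obj := ObjectProperty.homMk (β₁.hom ≫ compMap f g x₁ x₂ θ hX hY hZ ≫ β₂.inv)
  have hm : LocP P m := by
    obtain ⟨W, p, hp, hps⟩ := G₂.property.atlas
    obtain ⟨k, φ, hφ, hξ⟩ := exists_ptMap f g x₁ x₂ θ hY hZ (p.hom ≫ β₂.hom)
    have sq := isPullback_comp f g k x₁ x₂ θ hX hY hZ φ hφ
    have h3 := (repByAlgSpWith_diag_iff _ _ hX hY).1 hf W _ _ φ
    have sqC := IsPullback.of_hasPullback m p
    have sqC' := sqC.map (sheafToPresheaf (AlgSp.J S) _)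
    have sq' : IsPullback (liftMap f g k x₁ x₂ θ hX hY hZ φ hφ ≫ β₁.inv)
        (toBase f (BasedFunctor.comp (AlgSt.overMap k) x₁) (BasedFunctor.comp (AlgSt.overMap k) x₂) φ hX hY)
        m.hom p.hom := by
      refine IsPullback.of_iso sq (Iso.refl _) β₁.symm (Iso.refl _) β₂.symm ?_ ?_ ?_ ?_
      · simp
      · simp
      · simp [m]
      · simp [← hξ]
    have h4 : RepPsh (LocP P) (U := W) (G := (pullback m p).obj) (pullback.snd m p).hom :=
      h3.of_iso (sq'.isoIsPullback _ _ sqC') (sq'.isoIsPullback_hom_snd _ _ sqC')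
    have h5 := (repPsh_hom_iff (isoInv_of_respectsIso _) _).1 h4
    exact K597.locP_of_target hP sqC G₁.property.hasAtlas (IsAlgSpace.yon_obj W).hasAtlas hp hps h5.2
  have h6 := K597.locP_comp hP G₁.property.hasAtlas G₂.property.hasAtlas (IsAlgSpace.yon_obj U).hasAtlas hm h₂
  convert h6 using 1
  apply ObjectProperty.hom_ext
  change β₁.hom ≫ toBase _ _ _ _ _ _ = (β₁.hom ≫ compMap f g x₁ x₂ θ hX hY hZ ≫ β₂.inv) ≫ β₂.hom ≫ _
  rw [← compMap_toBase f g x₁ x₂ θ hX hY hZ]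
  simp

end DiagComp

end K738
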