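import Groth.Agent.AlgSt.K738.SecRep3

/-!
# From the diagonal of `f` to the diagonal of the representing spaces
-/

set_option autoImplicit false
set_option backward.isDefEq.respectTransparency false
set_option backward.isDefEq.respectTransparency.types false

universe w₁ v₁ w' v' w v u

open CategoryTheory CategoryTheory.Limits AlgebraicGeometry Opposite AlgSp

namespace K738

variable {S : Scheme.{u}} {𝒳 : BasedCategory.{v, w} (Over S)} {𝒴 : BasedCategory.{v', w'} (Over S)}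

section Two

variable {f : 𝒳 ⥤ᵇ 𝒴} {U T : Over S} {y : FibCat.overCat U ⥤ᵇ 𝒴} {t : T ⟶ U}

/-- the second component of a functor to `fp y f`, with the isomorphism of its image in `𝒴`. -/
def gam (E : FibCat.overCat T ⥤ᵇ FibCat.fp y f)
    (h : ∀ a, str (BasedFunctor.comp E (FibCat.fpFst y f)) a = str (AlgSt.overMap t) a) :
    BasedFunctor.comp (BasedFunctor.comp E (FibCat.fpSnd y f)) f ≅
      BasedFunctor.comp (AlgSt.overMap t) y :=
  (K743.BC.whiskerLeftIso E (FibCat.fpIso y f)).symm ≪≫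
    K743.BC.whiskerRightIso (isoOfStr h) y

theorem isoApp_gam (E : FibCat.overCat T ⥤ᵇ FibCat.fp y f)
    (h : ∀ a, str (BasedFunctor.comp E (FibCat.fpFst y f)) a = str (AlgSt.overMap t) a)
    (a : (FibCat.overCat T).obj) :
    Equiv.isoApp (gam E h) a = (E.obj a).obj.iso.symm ≪≫ y.toFunctor.mapIso (strIso h a) := by
  apply Iso.ext
  rfl

variable (E₁ E₂ : FibCat.overCat T ⥤ᵇ FibCat.fp y f)
    (h₁ : ∀ a, str (BasedFunctor.comp E₁ (FibCat.fpFst y f)) a = str (AlgSt.overMap t) a)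
    (h₂ : ∀ a, str (BasedFunctor.comp E₂ (FibCat.fpFst y f)) a = str (AlgSt.overMap t) a)

/-- the test functor `(Sch/T) ⟶ 𝒳 ×_𝒴 𝒳` defined by two functors to `fp y f` with the same first component. -/
def pairFun : FibCat.overCat T ⥤ᵇ FibCat.fp f f :=
  FibCat.fpLift (BasedFunctor.comp E₁ (FibCat.fpSnd y f)) (BasedFunctor.comp E₂ (FibCat.fpSnd y f))
    (gam E₁ h₁ ≪≫ (gam E₂ h₂).symm)

/-- the isomorphism used for the base change -/
def alph : BasedFunctor.comp (cmp₁ f (pairFun E₁ E₂ h₁ h₂)) f ≅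
    BasedFunctor.comp (AlgSt.overMap t) y := gam E₁ h₁

theorem isoApp_alph (a : (FibCat.overCat T).obj) :
    Equiv.isoApp (alph E₁ E₂ h₁ h₂) a =
      (E₁.obj a).obj.iso.symm ≪≫ y.toFunctor.mapIso (strIso h₁ a) := by
  apply Iso.ext
  rfl

theorem alph_inv (a : (FibCat.overCat T).obj) :
    (Equiv.isoApp (alph E₁ E₂ h₁ h₂) a).inv = y.map (strIso h₁ a).inv ≫ (E₁.obj a).obj.iso.hom := by
  rw [isoApp_alph]
  rfl

def cmpHom₁ (a : (FibCat.overCat T).obj) :
    bcObj (alph E₁ E₂ h₁ h₂) ((sc₁ f (pairFun E₁ E₂ h₁ h₂)).obj a) ⟶ E₁.obj a :=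
  fpHom (strIso h₁ a).inv (𝟙 _) (by
    change y.map (strIso h₁ a).inv ≫ (E₁.obj a).obj.iso.hom =
      ((Equiv.isoApp (alph E₁ E₂ h₁ h₂) a).inv ≫ 𝟙 _) ≫ f.map (𝟙 _)
    have h0 : f.map (𝟙 ((E₁.obj a).obj.snd)) = 𝟙 _ := f.map_id _
    refine Eq.trans ?_ (congrArg (((Equiv.isoApp (alph E₁ E₂ h₁ h₂) a).inv ≫ 𝟙 _) ≫ ·) h0).symm
    refine Eq.trans ?_ (Category.comp_id _).symm
    refine Eq.trans ?_ (Category.comp_id _).symm
    exact (alph_inv E₁ E₂ h₁ h₂ a).symm)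

def cmpHom₂ (a : (FibCat.overCat T).obj) :
    bcObj (alph E₁ E₂ h₁ h₂) ((sc₂ f (pairFun E₁ E₂ h₁ h₂)).obj a) ⟶ E₂.obj a :=
  fpHom (strIso h₂ a).inv (𝟙 _) (by
    change y.map (strIso h₂ a).inv ≫ (E₂.obj a).obj.iso.hom =
      ((Equiv.isoApp (alph E₁ E₂ h₁ h₂) a).inv ≫ ((Equiv.isoApp (gam E₁ h₁) a).hom ≫
        (Equiv.isoApp (gam E₂ h₂) a).inv)) ≫ f.map (𝟙 _)
    have h0 : f.map (𝟙 ((E₂.obj a).obj.snd)) = 𝟙 _ := f.map_id _
    refine Eq.trans ?_ (congrArg (((Equiv.isoApp (alph E₁ E₂ h₁ h₂) a).inv ≫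
      ((Equiv.isoApp (gam E₁ h₁) a).hom ≫ (Equiv.isoApp (gam E₂ h₂) a).inv)) ≫ ·) h0).symm
    refine Eq.trans ?_ (Category.comp_id _).symm
    refine Eq.trans ?_ (Iso.inv_hom_id_assoc (Equiv.isoApp (gam E₁ h₁) a) _).symm
    rw [isoApp_gam]
    rfl)

variable {F : Sp S} {π : F ⟶ (yon S).obj U} (R : SecRep (FibCat.fpFst y f) F π)


theorem map_eqToHom_aux (G : Sp S) {A B W : Over S} (p : A = B) (q : B = A) (m : A ⟶ W)
    (s : G.obj.obj (op W)) :
    G.obj.map (eqToHom p).op (G.obj.map (eqToHom q ≫ m).op s) = G.obj.map m.op s := by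
  subst p
  simp

theorem eqToHom_left (E : FibCat.overCat T ⥤ᵇ FibCat.fp y f)
    (h : ∀ a, str (BasedFunctor.comp E (FibCat.fpFst y f)) a = str (AlgSt.overMap t) a)
    (a : (FibCat.overCat T).obj) (s : F.obj.obj (op T))
    (hE : R.sec (E.obj a) = F.obj.map (eqToHom (E.w_obj a) ≫ a.hom).op s) :
    F.obj.map (strIso h a).inv.left.op (R.sec (E.obj a)) = F.obj.map a.hom.op s := by
  rw [hE]
  exact map_eqToHom_aux F (E.w_obj a).symm (E.w_obj a) a.hom s

theorem sec_bc₁ (a : (FibCat.overCat T).obj) (s : F.obj.obj (op T))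
    (hE : R.sec (E₁.obj a) = F.obj.map (eqToHom (E₁.w_obj a) ≫ a.hom).op s) :
    R.sec (bcObj (alph E₁ E₂ h₁ h₂) ((sc₁ f (pairFun E₁ E₂ h₁ h₂)).obj a)) = F.obj.map a.hom.op s :=
  (R.map (cmpHom₁ E₁ E₂ h₁ h₂ a)).symm.trans (eqToHom_left R E₁ h₁ a s hE)

theorem sec_bc₂ (a : (FibCat.overCat T).obj) (s : F.obj.obj (op T))
    (hE : R.sec (E₂.obj a) = F.obj.map (eqToHom (E₂.w_obj a) ≫ a.hom).op s) :
    R.sec (bcObj (alph E₁ E₂ h₁ h₂) ((sc₂ f (pairFun E₁ E₂ h₁ h₂)).obj a)) = F.obj.map a.hom.op s :=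
  (R.map (cmpHom₂ E₁ E₂ h₁ h₂ a)).symm.trans (eqToHom_left R E₂ h₂ a s hE)

end Two

/-- Two sections of a fibre product with the same image in `h_T` agree iff their images in `F` do. -/
theorem pullback_sec_eq {F F' G T : Sp S} {k : F' ⟶ F} {π' : F' ⟶ T} {π : F ⟶ G} {t : T ⟶ G}
    (sq : IsPullback k π' π t) {W : Over S} (a b : F'.obj.obj (op W))
    (h1 : k.hom.app _ a = k.hom.app _ b) (h2 : π'.hom.app _ a = π'.hom.app _ b) : a = b := by
  obtain ⟨a, rfl⟩ := (J S).uliftYonedaEquiv.{u + 1}.surjective a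
  obtain ⟨b, rfl⟩ := (J S).uliftYonedaEquiv.{u + 1}.surjective b
  congr 1
  apply sq.hom_ext
  · apply (J S).uliftYonedaEquiv.{u + 1}.injective
    exact h1
  · apply (J S).uliftYonedaEquiv.{u + 1}.injective
    exact h2

/-- If the diagonal of `f` has the property `Q` then the diagonals of the spaces representing the base changes
of `f` have `Q` after every base change to a scheme. -/
theorem prop_diag_of_repByAlgSpWith {f : 𝒳 ⥤ᵇ 𝒴} {Q : MorphismProperty (Sp S)} [Q.RespectsIso]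
    (h : AlgSt.RepByAlgSpWith Q (FibCat.diag f)) {U : Over S} {y : FibCat.overCat U ⥤ᵇ 𝒴}
    {F : Sp S} {π : F ⟶ (yon S).obj U} (R : SecRep (FibCat.fpFst y f) F π)
    {T V : Over S} (g : (yon S).obj T ⟶ pullback π π) (fst : (yon S).obj V ⟶ F) (i : V ⟶ T)
    (sq : IsPullback fst ((yon S).map i) (pullback.diagonal π) g) : Q ((yon S).map i) := by
  -- the two sections
  obtain ⟨s₁, hs₁⟩ : ∃ s₁, s₁ = (J S).uliftYonedaEquiv.{u + 1} (g ≫ pullback.fst π π) := ⟨_, rfl⟩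
  obtain ⟨s₂, hs₂⟩ : ∃ s₂, s₂ = (J S).uliftYonedaEquiv.{u + 1} (g ≫ pullback.snd π π) := ⟨_, rfl⟩
  have hs : π.hom.app _ s₁ = π.hom.app _ s₂ := by
    rw [hs₁, hs₂, ← (J S).uliftYonedaEquiv_comp, ← (J S).uliftYonedaEquiv_comp, Category.assoc,
      Category.assoc, pullback.condition]
  obtain ⟨⟨t⟩, ht₁⟩ : ∃ t, t = π.hom.app _ s₁ := ⟨_, rfl⟩
  have ht₂ := ht₁.trans hs
  obtain ⟨E₁, hE₁⟩ := R.exists_functor s₁
  obtain ⟨E₂, hE₂⟩ := R.exists_functor s₂
  have h₁ := R.str_functor s₁ E₁ hE₁ t ht₁.symm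
  have h₂ := R.str_functor s₂ E₂ hE₂ t ht₂.symm
  obtain ⟨R', hR'⟩ := R.nonempty_bc (alph E₁ E₂ h₁ h₂)
    (IsPullback.of_hasPullback π ((yon S).map t))
  -- agreement of the sections of the base change
  have e₁ : ∀ a : (FibCat.overCat T).obj, (pullback.fst π ((yon S).map t)).hom.app _
      ((pullback π ((yon S).map t)).obj.map a.hom.op (sg₁ R')) = F.obj.map a.hom.op s₁ := by
    intro a
    rw [← sec_sc₁]
    exact (hR' _).trans (sec_bc₁ E₁ E₂ h₁ h₂ R a s₁ (hE₁ a))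
  have e₂ : ∀ a : (FibCat.overCat T).obj, (pullback.fst π ((yon S).map t)).hom.app _
      ((pullback π ((yon S).map t)).obj.map a.hom.op (sg₂ R')) = F.obj.map a.hom.op s₂ := by
    intro a
    rw [← sec_sc₂]
    exact (hR' _).trans (sec_bc₂ E₁ E₂ h₁ h₂ R a s₂ (hE₂ a))
  have p₁ : ∀ a : (FibCat.overCat T).obj, (pullback.snd π ((yon S).map t)).hom.app _
      ((pullback π ((yon S).map t)).obj.map a.hom.op (sg₁ R')) = ⟨a.hom⟩ := by
    intro a
    rw [← sec_sc₁]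
    refine (R'.proj ((sc₁ f (pairFun E₁ E₂ h₁ h₂)).obj a)).trans ?_
    apply ULift.ext
    exact Category.id_comp _
  have p₂ : ∀ a : (FibCat.overCat T).obj, (pullback.snd π ((yon S).map t)).hom.app _
      ((pullback π ((yon S).map t)).obj.map a.hom.op (sg₂ R')) = ⟨a.hom⟩ := by
    intro a
    rw [← sec_sc₂]
    refine (R'.proj ((sc₂ f (pairFun E₁ E₂ h₁ h₂)).obj a)).trans ?_
    apply ULift.ext
    exact Category.id_comp _
  have agree : ∀ {T' : Over S} (t' : T' ⟶ T),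
      (pullback π ((yon S).map t)).obj.map t'.op (sg₁ R') =
        (pullback π ((yon S).map t)).obj.map t'.op (sg₂ R') ↔
      F.obj.map t'.op s₁ = F.obj.map t'.op s₂ := by
    intro T' t'
    constructor
    · intro e
      exact (e₁ (Over.mk t')).symm.trans ((congrArg _ e).trans (e₂ (Over.mk t')))
    · intro e
      exact pullback_sec_eq (IsPullback.of_hasPullback π ((yon S).map t)) _ _
        ((e₁ (Over.mk t')).trans (e.trans (e₂ (Over.mk t')).symm))
        ((p₁ (Over.mk t')).trans (p₂ (Over.mk t')).symm)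
  have hs₁' : (J S).uliftYonedaEquiv.symm s₁ = g ≫ pullback.fst π π := by
    rw [hs₁, Equiv.symm_apply_apply]
  have hs₂' : (J S).uliftYonedaEquiv.symm s₂ = g ≫ pullback.snd π π := by
    rw [hs₂, Equiv.symm_apply_apply]
  have w₁ : fst = (yon S).map i ≫ g ≫ pullback.fst π π := by
    have := congrArg (· ≫ pullback.fst π π) sq.w
    simpa using this
  have w₂ : fst = (yon S).map i ≫ g ≫ pullback.snd π π := by
    have := congrArg (· ≫ pullback.snd π π) sq.w
    simpa using this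
  have hm : Mono i := ⟨fun a b hab => by
    apply (yon S).map_injective
    apply sq.hom_ext
    · rw [w₁, ← Category.assoc, ← Category.assoc, ← Functor.map_comp, hab, Functor.map_comp]
      simp only [Category.assoc]
    · rw [← Functor.map_comp, hab, Functor.map_comp]⟩
  obtain ⟨R₂⟩ := nonempty_secRep_diag R' i (fun {T'} t' ht' => by
      rw [agree, map_eq_iff, hs₁', hs₂'] at ht'
      obtain ⟨k, hk⟩ := (yon S).map_surjective (sq.lift
        ((yon S).map t' ≫ g ≫ pullback.fst π π) ((yon S).map t') (by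
          apply pullback.hom_ext
          · simp
          · simpa using ht'))
      refine ⟨k, (yon S).map_injective ?_⟩
      rw [Functor.map_comp, hk, sq.lift_snd])
    (by rw [agree, map_eq_iff, hs₁', hs₂', ← w₁, ← w₂]) hm
  obtain ⟨G, e, he, hQ⟩ := h T (pairFun E₁ E₂ h₁ h₂)
  obtain ⟨R₃⟩ := SecRep.nonempty_of_equiv (FibCat.fpFst (pairFun E₁ E₂ h₁ h₂) (FibCat.diag f)) e he
  exact (R₃.prop_iff R₂ Q).1 hQ

end K738
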