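import Groth.Agent.AlgSt.K738.SecRep

/-!
# The diagonal of a functor representable by algebraic spaces

Let `f : 𝒳 ⟶ 𝒴`, `y : (Sch/U) ⟶ 𝒳 ×_𝒴 𝒳` and let `F` represent `(Sch/U) ×_𝒴 𝒳`.  The two components of `y` are two
sections of `F` over `U`, and the base change of the diagonal of `f` along `y` is the locus where they agree.
-/

set_option autoImplicit false
set_option backward.isDefEq.respectTransparency false
set_option backward.isDefEq.respectTransparency.types false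

universe w₁ v₁ w' v' w v u

open CategoryTheory CategoryTheory.Limits AlgebraicGeometry Opposite AlgSp

namespace K738

variable {S : Scheme.{u}} {𝒳 : BasedCategory.{v, w} (Over S)} {𝒴 : BasedCategory.{v', w'} (Over S)}

section TwoSections

variable (f : 𝒳 ⥤ᵇ 𝒴) {U : Over S} (y : FibCat.overCat U ⥤ᵇ FibCat.fp f f)

/-- the first component -/
abbrev cmp₁ : FibCat.overCat U ⥤ᵇ 𝒳 := BasedFunctor.comp y (FibCat.fpFst f f)

/-- the second component -/
abbrev cmp₂ : FibCat.overCat U ⥤ᵇ 𝒳 := BasedFunctor.comp y (FibCat.fpSnd f f)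

/-- the comparison isomorphism -/
def cmpIso : BasedFunctor.comp (cmp₁ f y) f ≅ BasedFunctor.comp (cmp₂ f y) f where
  hom := BasedCategory.whiskerLeft y (FibCat.fpIso f f).hom
  inv := BasedCategory.whiskerLeft y (FibCat.fpIso f f).inv
  hom_inv_id := by
    apply BasedNatTrans.homCategory.ext
    ext a
    exact Iso.hom_inv_id (y.obj a).obj.iso
  inv_hom_id := by
    apply BasedNatTrans.homCategory.ext
    ext a
    exact Iso.inv_hom_id (y.obj a).obj.iso

/-- the section of `(Sch/U) ×_𝒴 𝒳` given by the first component -/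
def sc₁ : FibCat.overCat U ⥤ᵇ FibCat.fp (BasedFunctor.comp (cmp₁ f y) f) f :=
  FibCat.fpLift (BasedFunctor.id _) (cmp₁ f y) (Iso.refl _)

/-- the section of `(Sch/U) ×_𝒴 𝒳` given by the second component -/
def sc₂ : FibCat.overCat U ⥤ᵇ FibCat.fp (BasedFunctor.comp (cmp₁ f y) f) f :=
  FibCat.fpLift (BasedFunctor.id _) (cmp₂ f y) (cmpIso f y)

variable {f y}
variable {F : Sp S} {π : F ⟶ (yon S).obj U}
  (R : SecRep (FibCat.fpFst (BasedFunctor.comp (cmp₁ f y) f) f) F π)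

/-- the first section of `F` over `U` -/
def sg₁ : F.obj.obj (op U) := R.sec ((sc₁ f y).obj (Over.mk (𝟙 U)))

/-- the second section of `F` over `U` -/
def sg₂ : F.obj.obj (op U) := R.sec ((sc₂ f y).obj (Over.mk (𝟙 U)))

theorem sec_sc₁ (a : (FibCat.overCat U).obj) :
    R.sec ((sc₁ f y).obj a) = F.obj.map a.hom.op (sg₁ R) :=
  (R.map ((sc₁ f y).map (Over.homMk a.hom : a ⟶ Over.mk (𝟙 U)))).symm

theorem sec_sc₂ (a : (FibCat.overCat U).obj) :
    R.sec ((sc₂ f y).obj a) = F.obj.map a.hom.op (sg₂ R) :=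
  (R.map ((sc₂ f y).map (Over.homMk a.hom : a ⟶ Over.mk (𝟙 U)))).symm

theorem exists_hom_sc (z : (FibCat.fp y (FibCat.diag f)).obj) :
    ∃ m : (sc₁ f y).obj z.obj.fst ⟶ (sc₂ f y).obj z.obj.fst,
      m.hom.fst = 𝟙 z.obj.fst ∧ m.hom.snd ≫ z.obj.iso.hom.hom.snd = z.obj.iso.hom.hom.fst := by
  have h1 : f.map z.obj.iso.hom.hom.fst ≫ 𝟙 _ =
      (y.obj z.obj.fst).obj.iso.hom ≫ f.map z.obj.iso.hom.hom.snd := z.obj.iso.hom.hom.w
  have h2 : z.obj.iso.hom.hom.snd ≫ z.obj.iso.inv.hom.snd = 𝟙 _ :=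
    congrArg (fun m : y.obj z.obj.fst ⟶ y.obj z.obj.fst => m.hom.snd) z.obj.iso.hom_inv_id
  have h3 : z.obj.iso.inv.hom.snd ≫ z.obj.iso.hom.hom.snd = 𝟙 _ :=
    congrArg (fun m : (FibCat.diag f).obj z.obj.snd ⟶ (FibCat.diag f).obj z.obj.snd =>
      m.hom.snd) z.obj.iso.inv_hom_id
  refine ⟨ObjectProperty.homMk
    { fst := 𝟙 z.obj.fst
      snd := z.obj.iso.hom.hom.fst ≫ z.obj.iso.inv.hom.snd
      w := ?_ }, rfl, ?_⟩
  · change (BasedFunctor.comp (cmp₁ f y) f).map (𝟙 z.obj.fst) ≫ (y.obj z.obj.fst).obj.iso.hom =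
      𝟙 _ ≫ f.map (z.obj.iso.hom.hom.fst ≫ z.obj.iso.inv.hom.snd)
    have h4 : (BasedFunctor.comp (cmp₁ f y) f).map (𝟙 z.obj.fst) = 𝟙 _ :=
      (BasedFunctor.comp (cmp₁ f y) f).map_id _
    have h5 : f.map (z.obj.iso.hom.hom.fst ≫ z.obj.iso.inv.hom.snd) =
      f.map z.obj.iso.hom.hom.fst ≫ f.map z.obj.iso.inv.hom.snd := f.map_comp _ _
    have h6 : f.map z.obj.iso.hom.hom.snd ≫ f.map z.obj.iso.inv.hom.snd = 𝟙 _ := by
      refine (f.map_comp _ _).symm.trans ?_
      rw [h2]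
      exact f.map_id _
    rw [h4, h5, Category.id_comp, Category.id_comp]
    rw [Category.comp_id] at h1
    rw [h1, Category.assoc, h6, Category.comp_id]
  · change (z.obj.iso.hom.hom.fst ≫ z.obj.iso.inv.hom.snd) ≫ z.obj.iso.hom.hom.snd = _
    rw [Category.assoc, h3]
    exact Category.comp_id _

/-- over the base change of the diagonal the two sections agree -/
theorem agree_of_obj (z : (FibCat.fp y (FibCat.diag f)).obj) :
    F.obj.map z.obj.fst.hom.op (sg₁ R) = F.obj.map z.obj.fst.hom.op (sg₂ R) := by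
  obtain ⟨m, h1, h2⟩ := exists_hom_sc z
  have h3 := R.map m
  have h4 : (FibCat.fp (BasedFunctor.comp (cmp₁ f y) f) f).p.map m = 𝟙 _ := by
    change (Over.forget U).map m.hom.fst = _
    rw [h1]
    rfl
  rw [h4] at h3
  rw [← sec_sc₁, ← sec_sc₂, ← h3]
  exact congrArg (fun g : F.obj.obj _ ⟶ F.obj.obj _ => g (R.sec ((sc₂ f y).obj z.obj.fst)))
    (F.obj.map_id _)

theorem over_hom_eq_id {a : Over U} (m : a ⟶ a) (h : m.left = 𝟙 a.left) : m = 𝟙 a :=
  Over.OverMorphism.ext h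

/-- a morphism between the two sections, over an identity, is an isomorphism of the two components -/
theorem exists_iso_of_agree (a : (FibCat.overCat U).obj)
    (h : F.obj.map a.hom.op (sg₁ R) = F.obj.map a.hom.op (sg₂ R)) :
    ∃ ψ : (y.obj a).obj.fst ≅ (y.obj a).obj.snd, f.map ψ.hom = (y.obj a).obj.iso.hom ∧
      𝒳.p.IsHomLift (𝟙 a.left) ψ.hom := by
  have h' : R.sec ((sc₁ f y).obj a) = R.sec ((sc₂ f y).obj a) := by
    rw [sec_sc₁, sec_sc₂, h]
  obtain ⟨m, hm⟩ := R.full (z := (sc₁ f y).obj a) (z' := (sc₂ f y).obj a) (𝟙 a.left) (by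
    rw [h']
    exact congrArg (fun g : F.obj.obj _ ⟶ F.obj.obj _ => g (R.sec ((sc₂ f y).obj a)))
      (F.obj.map_id _))
  obtain ⟨m', hm'⟩ := R.full (z := (sc₂ f y).obj a) (z' := (sc₁ f y).obj a) (𝟙 a.left) (by
    rw [← h']
    exact congrArg (fun g : F.obj.obj _ ⟶ F.obj.obj _ => g (R.sec ((sc₁ f y).obj a)))
      (F.obj.map_id _))
  have hmm' : m ≫ m' = 𝟙 _ := R.faithful _ _ (by
    rw [CategoryTheory.Functor.map_comp, hm, hm', CategoryTheory.Functor.map_id]
    exact Category.comp_id _)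
  have hm'm : m' ≫ m = 𝟙 _ := R.faithful _ _ (by
    rw [CategoryTheory.Functor.map_comp, hm, hm', CategoryTheory.Functor.map_id]
    exact Category.comp_id _)
  have h1 : m.hom.fst = 𝟙 a := over_hom_eq_id (a := a) m.hom.fst hm
  have h2 : (BasedFunctor.comp (cmp₁ f y) f).map m.hom.fst ≫ (y.obj a).obj.iso.hom =
      𝟙 _ ≫ f.map m.hom.snd := m.hom.w
  rw [h1] at h2
  have h4 : (BasedFunctor.comp (cmp₁ f y) f).map (𝟙 a) = 𝟙 _ :=
    (BasedFunctor.comp (cmp₁ f y) f).map_id _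
  rw [h4] at h2
  have h6 : (y.obj a).obj.iso.hom = f.map m.hom.snd :=
    (Category.id_comp _).symm.trans (h2.trans (Category.id_comp _))
  refine ⟨⟨m.hom.snd, m'.hom.snd, ?_, ?_⟩, h6.symm, ?_⟩
  · exact congrArg (fun m : (sc₁ f y).obj a ⟶ (sc₁ f y).obj a => m.hom.snd) hmm'
  · exact congrArg (fun m : (sc₂ f y).obj a ⟶ (sc₂ f y).obj a => m.hom.snd) hm'm
  · have h5 := FibCat.fp_isHomLift_snd _ _ m
    rw [hm] at h5
    exact h5

/-- the object of the base change of the diagonal defined by an isomorphism of the components -/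
def objOfIso (a : (FibCat.overCat U).obj) (ψ : (y.obj a).obj.fst ≅ (y.obj a).obj.snd)
    (h : f.map ψ.hom = (y.obj a).obj.iso.hom) (hψ : 𝒳.p.IsHomLift (𝟙 a.left) ψ.hom) :
    (FibCat.fp y (FibCat.diag f)).obj :=
  ⟨{ fst := a
     snd := (y.obj a).obj.snd
     iso := ObjectProperty.isoMk _ (CategoricalPullback.mkIso ψ (Iso.refl _) (by
      change f.map ψ.hom ≫ 𝟙 _ = (y.obj a).obj.iso.hom ≫ f.map (𝟙 _)
      have : f.map (𝟙 (y.obj a).obj.snd) = 𝟙 _ := f.map_id _
      rw [this, h])) }, by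
    have h1 := IsHomLift.domain_eq 𝒳.p (𝟙 a.left) ψ.hom
    have h2 := IsHomLift.codomain_eq 𝒳.p (𝟙 a.left) ψ.hom
    exact IsHomLift.of_fac (FibCat.fp f f).p (𝟙 a.left) _ h1 h2
      (IsHomLift.fac 𝒳.p (𝟙 a.left) ψ.hom)⟩

theorem snd_eq_of_hom {z z' : (FibCat.fp y (FibCat.diag f)).obj} (m : z ⟶ z') :
    (y.map m.hom.fst).hom.snd ≫ z'.obj.iso.hom.hom.snd = z.obj.iso.hom.hom.snd ≫ m.hom.snd :=
  congrArg (fun n : y.obj z.obj.fst ⟶ (FibCat.diag f).obj z'.obj.snd => n.hom.snd) m.hom.w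

theorem iso_snd_inv (z : (FibCat.fp y (FibCat.diag f)).obj) :
    z.obj.iso.hom.hom.snd ≫ z.obj.iso.inv.hom.snd = 𝟙 _ :=
  congrArg (fun m : y.obj z.obj.fst ⟶ y.obj z.obj.fst => m.hom.snd) z.obj.iso.hom_inv_id

theorem iso_inv_snd (z : (FibCat.fp y (FibCat.diag f)).obj) :
    z.obj.iso.inv.hom.snd ≫ z.obj.iso.hom.hom.snd = 𝟙 _ :=
  congrArg (fun m : (FibCat.diag f).obj z.obj.snd ⟶ (FibCat.diag f).obj z.obj.snd =>
      m.hom.snd) z.obj.iso.inv_hom_id

/-- the structure functor of the base change of the diagonal is faithful (for any `f`) -/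
theorem fp_diag_faithful {z z' : (FibCat.fp y (FibCat.diag f)).obj} (m m' : z ⟶ z')
    (h : (FibCat.fp y (FibCat.diag f)).p.map m = (FibCat.fp y (FibCat.diag f)).p.map m') :
    m = m' := by
  have h1 : m.hom.fst = m'.hom.fst := Over.OverMorphism.ext h
  apply ObjectProperty.hom_ext
  apply CategoricalPullback.hom_ext h1
  have h2 := snd_eq_of_hom m
  have h3 := snd_eq_of_hom m'
  rw [h1, h3] at h2
  have h4 : z.obj.iso.inv.hom.snd ≫ z.obj.iso.hom.hom.snd ≫ m'.hom.snd =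
      z.obj.iso.inv.hom.snd ≫ z.obj.iso.hom.hom.snd ≫ m.hom.snd := congrArg _ h2
  rw [← Category.assoc, ← Category.assoc, iso_inv_snd] at h4
  exact ((Category.id_comp _).symm.trans (h4.trans (Category.id_comp _))).symm

include R in
theorem fp_diag_full {z z' : (FibCat.fp y (FibCat.diag f)).obj} (b : z.obj.fst ⟶ z'.obj.fst) :
    ∃ m : z ⟶ z', m.hom.fst = b := by
  obtain ⟨n, hn1, hn2⟩ := exists_hom_sc z
  obtain ⟨n', hn'1, hn'2⟩ := exists_hom_sc z'
  have key : (sc₁ f y).map b ≫ n' = n ≫ (sc₂ f y).map b := R.faithful _ _ (by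
    rw [CategoryTheory.Functor.map_comp, CategoryTheory.Functor.map_comp]
    change b.left ≫ n'.hom.fst.left = n.hom.fst.left ≫ b.left
    rw [hn1, hn'1]
    exact (Category.comp_id _).trans (Category.id_comp _).symm)
  have key2 : (y.map b).hom.fst ≫ n'.hom.snd = n.hom.snd ≫ (y.map b).hom.snd :=
    congrArg (fun m : (sc₁ f y).obj z.obj.fst ⟶ (sc₂ f y).obj z'.obj.fst => m.hom.snd) key
  refine ⟨ObjectProperty.homMk
    { fst := b
      snd := z.obj.iso.inv.hom.snd ≫ (y.map b).hom.snd ≫ z'.obj.iso.hom.hom.snd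
      w := ?_ }, rfl⟩
  apply ObjectProperty.hom_ext
  apply CategoricalPullback.hom_ext
  · change (y.map b).hom.fst ≫ z'.obj.iso.hom.hom.fst = z.obj.iso.hom.hom.fst ≫
      (z.obj.iso.inv.hom.snd ≫ (y.map b).hom.snd ≫ z'.obj.iso.hom.hom.snd)
    rw [← hn2, ← hn'2, ← Category.assoc, key2]
    simp only [Category.assoc]
    rw [← Category.assoc z.obj.iso.hom.hom.snd, iso_snd_inv]
    congr 1
    exact (Category.id_comp _).symm
  · change (y.map b).hom.snd ≫ z'.obj.iso.hom.hom.snd = z.obj.iso.hom.hom.snd ≫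
      (z.obj.iso.inv.hom.snd ≫ (y.map b).hom.snd ≫ z'.obj.iso.hom.hom.snd)
    rw [← Category.assoc z.obj.iso.hom.hom.snd, iso_snd_inv]
    exact (Category.id_comp _).symm

/-- The base change of the diagonal of `f` along `y` is represented by the locus where the two sections
agree. -/
theorem nonempty_secRep_diag {V : Over S} (i : V ⟶ U)
    (hi : ∀ {T : Over S} (t : T ⟶ U), F.obj.map t.op (sg₁ R) = F.obj.map t.op (sg₂ R) →
      ∃ t' : T ⟶ V, t' ≫ i = t)
    (hi' : F.obj.map i.op (sg₁ R) = F.obj.map i.op (sg₂ R))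
    (hm : Mono i) :
    Nonempty (SecRep (FibCat.fpFst y (FibCat.diag f)) ((yon S).obj V) ((yon S).map i)) := by
  choose s hs using fun z : (FibCat.fp y (FibCat.diag f)).obj => hi _ (agree_of_obj R z)
  refine ⟨{
    sec := fun z => ⟨s z⟩
    map := ?_
    full := ?_
    faithful := fun m m' h => fp_diag_faithful m m' h
    surj := ?_
    proj := ?_ }⟩
  · intro z z' m
    change (⟨m.hom.fst.left ≫ s z'⟩ : ULift.{u + 1} (z.obj.fst.left ⟶ V)) = ⟨s z⟩
    congr 1
    rw [← cancel_mono i, Category.assoc, hs, hs]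
    exact Over.w m.hom.fst
  · intro z z' g hg
    have hg' : g ≫ s z' = s z := congrArg ULift.down hg
    obtain ⟨m, hm⟩ := fp_diag_full R (z := z) (z' := z') (Over.homMk g (by
      have h1 : s z' ≫ i = z'.obj.fst.hom := hs z'
      have h2 : s z ≫ i = z.obj.fst.hom := hs z
      have h3 : g ≫ s z' ≫ i = s z ≫ i := by rw [← hg', Category.assoc]
      rw [h1, h2] at h3
      exact h3))
    exact ⟨m, congrArg CommaMorphism.left hm⟩
  · rintro T ⟨t⟩
    obtain ⟨ψ, h1, h2⟩ := exists_iso_of_agree R (Over.mk (t ≫ i)) (by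
      change F.obj.map (t ≫ i).op _ = F.obj.map (t ≫ i).op _
      rw [op_comp, Functor.map_comp_apply, hi', ← Functor.map_comp_apply])
    refine ⟨objOfIso _ ψ h1 h2, rfl, ?_⟩
    apply ULift.ext
    change 𝟙 _ ≫ s (objOfIso _ ψ h1 h2) = t
    rw [← cancel_mono i, Category.assoc, hs]
    exact Category.id_comp _
  · intro z
    apply ULift.ext
    change s z ≫ i = str (FibCat.fpFst y (FibCat.diag f)) z
    rw [hs]
    exact (Category.id_comp _).symm

end TwoSections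

end K738
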