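import Groth.Prelude.Def_AlgSt2

/-!
# Equivalences over the base: elementary criterion
-/

set_option autoImplicit false
set_option backward.isDefEq.respectTransparency false
set_option backward.isDefEq.respectTransparency.types false

universe v₄ u₄ v₃ u₃ v₂ u₂ v u

open CategoryTheory CategoryTheory.Limits

namespace K738.Equiv

variable {C : Type u} [Category.{v} C]
variable {𝒳 : BasedCategory.{v₂, u₂} C} {𝒴 : BasedCategory.{v₃, u₃} C} {𝒵 : BasedCategory.{v₄, u₄} C}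

/-- A functor over the base from a family of lifts. -/
def mkBased (G : 𝒴.obj ⥤ 𝒳.obj) (hobj : ∀ y, 𝒳.p.obj (G.obj y) = 𝒴.p.obj y)
    (hmap : ∀ {y y' : 𝒴.obj} (m : y ⟶ y'), 𝒳.p.IsHomLift (𝒴.p.map m) (G.map m)) : 𝒴 ⥤ᵇ 𝒳 where
  toFunctor := G
  w := CategoryTheory.Functor.ext hobj (fun y y' m => by
    have := hmap m
    exact IsHomLift.fac' 𝒳.p (𝒴.p.map m) (G.map m))

/-- An isomorphism over an identity has its inverse over the same identity. -/
theorem isHomLift_inv {A : Type u₂} [Category.{v₂} A] {p : A ⥤ C} {x y : A} {U : C} (e : x ≅ y)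
    (h : p.IsHomLift (𝟙 U) e.hom) : p.IsHomLift (𝟙 U) e.inv :=
  IsHomLift.lift_id_inv p U e

theorem map_eq_eqToHom {A : Type u₂} [Category.{v₂} A] {p : A ⥤ C} {x y : A} (m : x ⟶ y) {U : C}
    (h : p.IsHomLift (𝟙 U) m) (e : p.obj x = p.obj y) : p.map m = eqToHom e := by
  have := IsHomLift.fac' p (𝟙 U) m
  rw [this]
  simp

/-- Components of a 2-isomorphism over the base. -/
def isoApp {F G : 𝒳 ⥤ᵇ 𝒴} (α : F ≅ G) (x : 𝒳.obj) : F.obj x ≅ G.obj x :=
  ((BasedNatTrans.forgetful _ _).mapIso α).app x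

@[simp] theorem isoApp_hom {F G : 𝒳 ⥤ᵇ 𝒴} (α : F ≅ G) (x : 𝒳.obj) :
    (isoApp α x).hom = α.hom.toNatTrans.app x := rfl

@[simp] theorem isoApp_inv {F G : 𝒳 ⥤ᵇ 𝒴} (α : F ≅ G) (x : 𝒳.obj) :
    (isoApp α x).inv = α.inv.toNatTrans.app x := rfl

theorem isoApp_isHomLift {F G : 𝒳 ⥤ᵇ 𝒴} (α : F ≅ G) (x : 𝒳.obj) :
    𝒴.p.IsHomLift (𝟙 (𝒳.p.obj x)) (isoApp α x).hom :=
  α.hom.isHomLift' x

theorem isoApp_naturality {F G : 𝒳 ⥤ᵇ 𝒴} (α : F ≅ G) {x x' : 𝒳.obj} (m : x ⟶ x') :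
    F.map m ≫ (isoApp α x').hom = (isoApp α x).hom ≫ G.map m :=
  α.hom.toNatTrans.naturality m

theorem isEquivOver_of (F : 𝒳 ⥤ᵇ 𝒴) (hfull : F.toFunctor.Full) (hfaith : F.toFunctor.Faithful)
    (h : ∀ y : 𝒴.obj, ∃ (x : 𝒳.obj) (e : F.obj x ≅ y), 𝒴.p.IsHomLift (𝟙 (𝒴.p.obj y)) e.hom) :
    FibCat.IsEquivOver F := by
  choose g e he using h
  have he' : ∀ y, 𝒴.p.IsHomLift (𝟙 (𝒴.p.obj y)) (e y).inv := fun y =>
    isHomLift_inv (e y) (he y)
  let G : 𝒴.obj ⥤ 𝒳.obj :=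
    { obj := g
      map := fun {y y'} m => F.toFunctor.preimage ((e y).hom ≫ m ≫ (e y').inv)
      map_id := fun y => F.toFunctor.map_injective (by simp)
      map_comp := fun {y y' y''} m m' => F.toFunctor.map_injective (by simp) }
  have hG : ∀ {y y' : 𝒴.obj} (m : y ⟶ y'),
      F.toFunctor.map (G.map m) = (e y).hom ≫ m ≫ (e y').inv := fun m => by
    simp [G]
  have hobj : ∀ y, 𝒳.p.obj (G.obj y) = 𝒴.p.obj y := fun y => by
    have := he y
    rw [← F.w_obj (G.obj y)]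
    exact IsHomLift.domain_eq 𝒴.p (𝟙 (𝒴.p.obj y)) (e y).hom
  have hmap : ∀ {y y' : 𝒴.obj} (m : y ⟶ y'), 𝒳.p.IsHomLift (𝒴.p.map m) (G.map m) := by
    intro y y' m
    rw [← BasedFunctor.isHomLift_iff F]
    have h1 := he y
    have h2 := he' y'
    have h3 : 𝒴.p.IsHomLift (𝒴.p.map m) ((e y).hom ≫ m ≫ (e y').inv) := inferInstance
    have h4 : F.map (G.map m) = (e y).hom ≫ m ≫ (e y').inv := hG m
    rw [h4]
    exact h3
  refine ⟨mkBased G hobj hmap, ⟨?_⟩, ⟨?_⟩⟩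
  · refine BasedNatIso.mkNatIso (NatIso.ofComponents
      (fun x => F.toFunctor.preimageIso (e (F.obj x))) ?_) ?_
    · intro x x' m
      apply F.toFunctor.map_injective
      have h1 := hG (F.map m)
      have h2 : F.toFunctor.map (F.toFunctor.preimageIso (e (F.obj x))).hom = (e (F.obj x)).hom :=
        F.toFunctor.map_preimage _
      have h3 : F.toFunctor.map (F.toFunctor.preimageIso (e (F.obj x'))).hom = (e (F.obj x')).hom :=
        F.toFunctor.map_preimage _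
      calc F.toFunctor.map (G.map (F.map m) ≫ (F.toFunctor.preimageIso (e (F.obj x'))).hom)
          = F.toFunctor.map (G.map (F.map m)) ≫
              F.toFunctor.map (F.toFunctor.preimageIso (e (F.obj x'))).hom := F.toFunctor.map_comp _ _
        _ = (e (F.obj x)).hom ≫ F.map m := by rw [h1, h3]; simp
        _ = F.toFunctor.map (F.toFunctor.preimageIso (e (F.obj x))).hom ≫ F.toFunctor.map m := by
              rw [h2]
        _ = F.toFunctor.map ((F.toFunctor.preimageIso (e (F.obj x))).hom ≫ m) :=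
              (F.toFunctor.map_comp _ _).symm
    · intro x
      change 𝒳.p.IsHomLift (𝟙 (𝒳.p.obj x)) (F.toFunctor.preimage (e (F.obj x)).hom)
      rw [← BasedFunctor.isHomLift_iff F]
      have h1 := he (F.obj x)
      have h4 : F.map (F.toFunctor.preimage (e (F.obj x)).hom) = (e (F.obj x)).hom :=
        F.toFunctor.map_preimage _
      rw [h4, ← F.w_obj x]
      exact h1
  · refine BasedNatIso.mkNatIso (NatIso.ofComponents (fun y => e y) ?_) ?_
    · intro y y' m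
      change F.toFunctor.map (G.map m) ≫ (e y').hom = (e y).hom ≫ m
      rw [hG m]
      simp
    · intro y
      exact he y


/-- The underlying functor of an equivalence over the base is an equivalence. -/
theorem isEquivalence_of {F : 𝒳 ⥤ᵇ 𝒴} (h : FibCat.IsEquivOver F) : F.toFunctor.IsEquivalence := by
  obtain ⟨G, ⟨α⟩, ⟨β⟩⟩ := h
  exact (CategoryTheory.Equivalence.mk F.toFunctor G.toFunctor
    ((BasedNatTrans.forgetful _ _).mapIso α).symm
    ((BasedNatTrans.forgetful _ _).mapIso β)).isEquivalence_functor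

theorem full_of {F : 𝒳 ⥤ᵇ 𝒴} (h : FibCat.IsEquivOver F) : F.toFunctor.Full :=
  have := isEquivalence_of h
  inferInstance

theorem faithful_of {F : 𝒳 ⥤ᵇ 𝒴} (h : FibCat.IsEquivOver F) : F.toFunctor.Faithful :=
  have := isEquivalence_of h
  inferInstance

theorem surj_of {F : 𝒳 ⥤ᵇ 𝒴} (h : FibCat.IsEquivOver F) (y : 𝒴.obj) :
    ∃ (x : 𝒳.obj) (e : F.obj x ≅ y), 𝒴.p.IsHomLift (𝟙 (𝒴.p.obj y)) e.hom := by
  obtain ⟨G, _, ⟨β⟩⟩ := h
  exact ⟨G.obj y, isoApp β y, isoApp_isHomLift β y⟩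

theorem isEquivOver_iff (F : 𝒳 ⥤ᵇ 𝒴) : FibCat.IsEquivOver F ↔
    F.toFunctor.Full ∧ F.toFunctor.Faithful ∧
      ∀ y : 𝒴.obj, ∃ (x : 𝒳.obj) (e : F.obj x ≅ y), 𝒴.p.IsHomLift (𝟙 (𝒴.p.obj y)) e.hom :=
  ⟨fun h => ⟨full_of h, faithful_of h, surj_of h⟩, fun h => isEquivOver_of F h.1 h.2.1 h.2.2⟩

theorem isEquivOver_symm {F : 𝒳 ⥤ᵇ 𝒴} {G : 𝒴 ⥤ᵇ 𝒳}
    (α : BasedFunctor.comp F G ≅ BasedFunctor.id 𝒳) (β : BasedFunctor.comp G F ≅ BasedFunctor.id 𝒴) :
    FibCat.IsEquivOver G :=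
  ⟨F, ⟨β⟩, ⟨α⟩⟩

theorem isEquivOver_id : FibCat.IsEquivOver (BasedFunctor.id 𝒳) :=
  ⟨BasedFunctor.id 𝒳, ⟨Iso.refl _⟩, ⟨Iso.refl _⟩⟩

theorem isEquivOver_comp {F : 𝒳 ⥤ᵇ 𝒴} {G : 𝒴 ⥤ᵇ 𝒵} (hF : FibCat.IsEquivOver F)
    (hG : FibCat.IsEquivOver G) : FibCat.IsEquivOver (BasedFunctor.comp F G) := by
  have h1 := full_of hF
  have h2 := full_of hG
  have h3 := faithful_of hF
  have h4 := faithful_of hG
  refine isEquivOver_of _ ?_ ?_ ?_
  · change (F.toFunctor ⋙ G.toFunctor).Full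
    infer_instance
  · change (F.toFunctor ⋙ G.toFunctor).Faithful
    infer_instance
  · intro z
    obtain ⟨y, e, he⟩ := surj_of hG z
    obtain ⟨x, e', he'⟩ := surj_of hF y
    have hy : 𝒴.p.obj y = 𝒵.p.obj z := by
      rw [← G.w_obj y]
      exact IsHomLift.domain_eq 𝒵.p (𝟙 (𝒵.p.obj z)) e.hom
    refine ⟨x, G.toFunctor.mapIso e' ≪≫ e, ?_⟩
    have h5 : 𝒵.p.IsHomLift (𝟙 (𝒵.p.obj z)) (G.map e'.hom) := by
      rw [hy] at he'
      exact BasedFunctor.preserves_isHomLift G _ _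
    change 𝒵.p.IsHomLift (𝟙 (𝒵.p.obj z)) (G.map e'.hom ≫ e.hom)
    infer_instance

/-- A morphism over an identity, between two objects, with a morphism back over the identity, in a
category over `C` whose structure functor is faithful. -/
def isoOfFaithful {A : Type u₂} [Category.{v₂} A] {p : A ⥤ C} {x y : A}
    (hp : ∀ {a b : A} (m m' : a ⟶ b), p.map m = p.map m' → m = m')
    (m : x ⟶ y) (m' : y ⟶ x) (h : p.map m ≫ p.map m' = 𝟙 _) (h' : p.map m' ≫ p.map m = 𝟙 _) :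
    x ≅ y where
  hom := m
  inv := m'
  hom_inv_id := hp _ _ (by rw [p.map_comp, p.map_id, h])
  inv_hom_id := hp _ _ (by rw [p.map_comp, p.map_id, h'])

end K738.Equiv
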