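import Groth.Agent.AlgSt.K740.Inv
import Groth.Agent.AlgSt.K740.Mono
import Groth.Agent.AlgSt.K740.Inertia
import Groth.Agent.AlgSt.K737.RepW
import Groth.Agent.AlgSt.K735.Fp
import Groth.Agent.AlgSt.K737.Core
import Groth.Agent.AlgSt.K738.Equiv

/-!
# The image of an immersion of algebraic stacks
-/

set_option autoImplicit false
set_option backward.isDefEq.respectTransparency false
set_option backward.isDefEq.respectTransparency.types false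

universe w₁ v₁ w' v' w v u

open CategoryTheory CategoryTheory.Limits AlgebraicGeometry Opposite AlgSp

namespace K738

namespace ImmImage

variable {S : Scheme.{u}} {𝒵 : BasedCategory.{v', w'} (Over S)} {𝒳 : BasedCategory.{v, w} (Over S)}

/-- The essential image of a functor, as a predicate. -/
def im (i : 𝒵 ⥤ᵇ 𝒳) (x : 𝒳.obj) : Prop := ∃ z : 𝒵.obj, Nonempty (i.obj z ≅ x)

theorem im_iso (i : 𝒵 ⥤ᵇ 𝒳) : ObjectProperty.IsClosedUnderIsomorphisms (im i) where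
  of_iso := by
    rintro x y e ⟨z, ⟨a⟩⟩
    exact ⟨z, ⟨a ≪≫ e⟩⟩

/-- The functor to the essential image. -/
def toIm (i : 𝒵 ⥤ᵇ 𝒳) : 𝒵 ⥤ᵇ AlgSt.fullSub 𝒳 (im i) where
  toFunctor := ObjectProperty.lift _ i.toFunctor (fun z => ⟨z, ⟨Iso.refl _⟩⟩)
  w := i.w

theorem toIm_comp (i : 𝒵 ⥤ᵇ 𝒳) : BasedFunctor.comp (toIm i) (AlgSt.subIncl 𝒳 (im i)) = i := rfl

theorem exists_vert_iso (h𝒵 : FibCat.IsFibGrpd 𝒵.p) (i : 𝒵 ⥤ᵇ 𝒳) {z : 𝒵.obj} {x : 𝒳.obj} (e : i.obj z ≅ x) :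
    ∃ (z' : 𝒵.obj) (e' : i.obj z' ≅ x), 𝒳.p.IsHomLift (𝟙 (𝒳.p.obj x)) e'.hom := by
  let g : 𝒳.p.obj x ⟶ 𝒵.p.obj z := 𝒳.p.map e.inv ≫ eqToHom (i.w_obj z)
  have hg : IsIso g := by dsimp [g]; infer_instance
  obtain ⟨z', φ, hφ⟩ := h𝒵.exists_lift g
  have hφ' : IsIso φ := K737.Core.isIso_of_lift_isIso h𝒵 g φ
  have h1 : 𝒳.p.IsHomLift g (i.map φ) := BasedFunctor.preserves_isHomLift i g φ
  have h2 := IsHomLift.fac' 𝒳.p g (i.map φ)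
  refine ⟨z', i.toFunctor.mapIso (asIso φ) ≪≫ e, ?_⟩
  have h3 : K735.Fib.Vert 𝒳.p (i.map φ ≫ e.hom) := by
    refine K735.Fib.vert_of_map_eq (IsHomLift.domain_eq 𝒳.p g (i.map φ)) ?_
    have h4 : 𝒳.p.map e.inv ≫ 𝒳.p.map e.hom = 𝟙 _ := (𝒳.p.mapIso e).inv_hom_id
    rw [Functor.map_comp, h2]
    simp only [g, Category.assoc, eqToHom_trans_assoc, eqToHom_refl, Category.id_comp, h4, Category.comp_id]
  exact K735.Fib.Vert.isHomLift' h3 rfl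

theorem isEquivOver_toIm (h𝒵 : FibCat.IsFibGrpd 𝒵.p) (i : 𝒵 ⥤ᵇ 𝒳) (hfull : i.toFunctor.Full)
    (hfaith : i.toFunctor.Faithful) : FibCat.IsEquivOver (toIm i) := by
  refine Equiv.isEquivOver_of _ ⟨fun {z z'} m => ?_⟩ ⟨fun {z z'} m m' h => ?_⟩ ?_
  · obtain ⟨n, hn⟩ := i.toFunctor.map_surjective m.hom
    exact ⟨n, ObjectProperty.hom_ext _ hn⟩
  · exact i.toFunctor.map_injective (congrArg (fun t => t.hom) h)
  · rintro ⟨x, z, ⟨e⟩⟩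
    obtain ⟨z', e', he'⟩ := exists_vert_iso h𝒵 i e
    have hv := K735.Fib.vert_of_isHomLift he'
    let e'' : (toIm i).obj z' ≅ (⟨x, z, ⟨e⟩⟩ : (AlgSt.fullSub 𝒳 (im i)).obj) := ObjectProperty.isoMk _ e'
    refine ⟨z', e'', ?_⟩
    have h1 : K735.Fib.Vert (AlgSt.fullSub 𝒳 (im i)).p e''.hom := K735.Fib.vert_of_map_eq hv.eq.symm hv.map_eq
    exact K735.Fib.Vert.isHomLift' h1 rfl

theorem iff_im {i : 𝒵 ⥤ᵇ 𝒳} {Q' : 𝒳.obj → Prop} (hQ' : ObjectProperty.IsClosedUnderIsomorphisms Q')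
    {i' : 𝒵 ⥤ᵇ AlgSt.fullSub 𝒳 Q'} (hi' : FibCat.IsEquivOver i')
    (e : BasedFunctor.comp i' (AlgSt.subIncl 𝒳 Q') ≅ i) (x : 𝒳.obj) : Q' x ↔ im i x := by
  constructor
  · intro hx
    obtain ⟨z, a, _⟩ := Equiv.surj_of hi' (⟨x, hx⟩ : (AlgSt.fullSub 𝒳 Q').obj)
    exact ⟨z, ⟨(Equiv.isoApp e z).symm ≪≫ (AlgSt.subIncl 𝒳 Q').toFunctor.mapIso a⟩⟩
  · rintro ⟨z, ⟨a⟩⟩
    have h1 : Q' ((BasedFunctor.comp i' (AlgSt.subIncl 𝒳 Q')).obj z) := (i'.obj z).property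
    exact hQ'.of_iso (Equiv.isoApp e z ≪≫ a) h1

theorem repByAlgSpWith_subIncl {P : MorphismProperty (Sp S)} (h𝒵 : FibCat.IsFibGrpd 𝒵.p) (i : 𝒵 ⥤ᵇ 𝒳)
    (hfull : i.toFunctor.Full) (hfaith : i.toFunctor.Faithful) (h : AlgSt.RepByAlgSpWith P i) :
    AlgSt.RepByAlgSpWith P (AlgSt.subIncl 𝒳 (im i)) :=
  (K740.Inertia.repByAlgSpWith_iff_of_equiv (F := i) (G := AlgSt.subIncl 𝒳 (im i)) (a := toIm i)
    (b := BasedFunctor.id 𝒳) (isEquivOver_toIm h𝒵 i hfull hfaith) Equiv.isEquivOver_id (Iso.refl _)).1 h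

end ImmImage

end K738
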