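import Groth.Agent.AlgSt.K738.SecRep2
import Groth.Prelude.Def_AlgSt3

/-!
# Base change of elementwise representations
-/

set_option autoImplicit false
set_option backward.isDefEq.respectTransparency false
set_option backward.isDefEq.respectTransparency.types false

universe w₁ v₁ w' v' w v u

open CategoryTheory CategoryTheory.Limits AlgebraicGeometry Opposite AlgSp

namespace K738

variable {S : Scheme.{u}} {𝒳 : BasedCategory.{v, w} (Over S)} {𝒴 : BasedCategory.{v', w'} (Over S)}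
  {𝒲 : BasedCategory.{v₁, w₁} (Over S)}

section fpMk

variable {f : 𝒳 ⥤ᵇ 𝒴} {g : 𝒲 ⥤ᵇ 𝒴}

/-- Objects of a 2-fibre product. -/
def fpObj (x : 𝒳.obj) (y : 𝒲.obj) (e : f.obj x ≅ g.obj y)
    (h : 𝒴.p.IsHomLift (𝟙 (𝒳.p.obj x)) e.hom) : (FibCat.fp f g).obj :=
  ⟨{ fst := x, snd := y, iso := e }, h⟩

/-- Morphisms of a 2-fibre product. -/
def fpHom {z z' : (FibCat.fp f g).obj} (a : z.obj.fst ⟶ z'.obj.fst) (b : z.obj.snd ⟶ z'.obj.snd)
    (h : f.map a ≫ z'.obj.iso.hom = z.obj.iso.hom ≫ g.map b) : z ⟶ z' :=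
  ObjectProperty.homMk { fst := a, snd := b, w := h }

theorem fp_hom_ext {z z' : (FibCat.fp f g).obj} {m m' : z ⟶ z'} (h1 : m.hom.fst = m'.hom.fst)
    (h2 : m.hom.snd = m'.hom.snd) : m = m' :=
  ObjectProperty.hom_ext _ (CategoricalPullback.hom_ext h1 h2)

theorem fp_hom_w {z z' : (FibCat.fp f g).obj} (m : z ⟶ z') :
    f.map m.hom.fst ≫ z'.obj.iso.hom = z.obj.iso.hom ≫ g.map m.hom.snd := m.hom.w

end fpMk

section BaseChange

variable {f : 𝒳 ⥤ᵇ 𝒴} {T U : Over S} {y : FibCat.overCat U ⥤ᵇ 𝒴} {y' : FibCat.overCat T ⥤ᵇ 𝒴}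
  {t : T ⟶ U} (α : y' ≅ BasedFunctor.comp (AlgSt.overMap t) y)

/-- the object of `fp y f` underlying an object of `fp y' f`, for `y' ≅ overMap t ⋙ y`. -/
def bcObj (z : (FibCat.fp y' f).obj) : (FibCat.fp y f).obj :=
  fpObj ((AlgSt.overMap t).obj z.obj.fst) z.obj.snd
    ((Equiv.isoApp α z.obj.fst).symm ≪≫ z.obj.iso) (by
      have h1 := Equiv.isHomLift_inv _ (Equiv.isoApp_isHomLift α z.obj.fst)
      have h2 : 𝒴.p.IsHomLift (𝟙 z.obj.fst.left) z.obj.iso.hom := z.property
      change 𝒴.p.IsHomLift (𝟙 z.obj.fst.left) ((Equiv.isoApp α z.obj.fst).inv ≫ z.obj.iso.hom)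
      have h3 : 𝒴.p.IsHomLift (𝟙 z.obj.fst.left) (Equiv.isoApp α z.obj.fst).inv := h1
      infer_instance)

def bcMap {z z' : (FibCat.fp y' f).obj} (m : z ⟶ z') : bcObj α z ⟶ bcObj α z' :=
  fpHom ((AlgSt.overMap t).map m.hom.fst) m.hom.snd (by
    have h1 := fp_hom_w m
    have h2 := Equiv.isoApp_naturality α m.hom.fst
    change y.map ((AlgSt.overMap t).map m.hom.fst) ≫
      ((Equiv.isoApp α z'.obj.fst).inv ≫ z'.obj.iso.hom) =
      ((Equiv.isoApp α z.obj.fst).inv ≫ z.obj.iso.hom) ≫ f.map m.hom.snd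
    rw [Category.assoc, ← h1, Iso.eq_inv_comp, ← Category.assoc, ← Category.assoc]
    have h3 : (Equiv.isoApp α z.obj.fst).hom ≫ y.map ((AlgSt.overMap t).map m.hom.fst) =
      y'.map m.hom.fst ≫ (Equiv.isoApp α z'.obj.fst).hom := h2.symm
    rw [h3]
    simp [-Equiv.isoApp_hom, -Equiv.isoApp_inv])

theorem bcMap_p {z z' : (FibCat.fp y' f).obj} (m : z ⟶ z') :
    (FibCat.fp y f).p.map (bcMap α m) = (FibCat.fp y' f).p.map m := rfl

/-- Base change of an elementwise representation along a pullback square. -/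
theorem SecRep.nonempty_bc {F : Sp S} {π : F ⟶ (yon S).obj U} (R : SecRep (FibCat.fpFst y f) F π)
    {F' : Sp S} {π' : F' ⟶ (yon S).obj T} {k : F' ⟶ F}
    (sq : IsPullback k π' π ((yon S).map t)) :
    ∃ R' : SecRep (FibCat.fpFst y' f) F' π', ∀ z, k.hom.app _ (R'.sec z) = R.sec (bcObj α z) := by
  -- sections of the fibre product
  have ex : ∀ {W : Over S} (s : F.obj.obj (op W)) (r : W ⟶ T),
      π.hom.app (op W) s = ⟨r ≫ t⟩ → ∃! s' : F'.obj.obj (op W), k.hom.app _ s' = s ∧
        π'.hom.app (op W) s' = ⟨r⟩ := by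
    intro W s r h
    have hw : (J S).uliftYonedaEquiv.symm s ≫ π = (yon S).map r ≫ (yon S).map t := by
      rw [← (yon S).map_comp, (J S).uliftYonedaEquiv_symm_naturality_right]
      apply (J S).uliftYonedaEquiv.injective
      rw [Equiv.apply_symm_apply, (J S).uliftYonedaEquiv_uliftYoneda_map]
      exact h
    refine ⟨(J S).uliftYonedaEquiv.{u + 1} (sq.lift _ _ hw), ⟨?_, ?_⟩, ?_⟩
    · change k.hom.app _ _ = _
      rw [← (J S).uliftYonedaEquiv_comp, sq.lift_fst, Equiv.apply_symm_apply]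
    · change π'.hom.app _ _ = _
      rw [← (J S).uliftYonedaEquiv_comp, sq.lift_snd, (J S).uliftYonedaEquiv_uliftYoneda_map]
    · rintro s' ⟨h1, h2⟩
      obtain ⟨s', rfl⟩ := (J S).uliftYonedaEquiv.{u + 1}.surjective s'
      congr 1
      apply sq.hom_ext
      · rw [sq.lift_fst]
        apply (J S).uliftYonedaEquiv.injective
        rw [(J S).uliftYonedaEquiv_comp, Equiv.apply_symm_apply]
        exact h1
      · rw [sq.lift_snd]
        apply (J S).uliftYonedaEquiv.injective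
        rw [(J S).uliftYonedaEquiv_comp, (J S).uliftYonedaEquiv_uliftYoneda_map]
        exact h2
  have hz : ∀ z : (FibCat.fp y' f).obj,
      π.hom.app (op z.obj.fst.left) (R.sec (bcObj α z)) = ⟨z.obj.fst.hom ≫ t⟩ := by
    intro z
    refine (R.proj (bcObj α z)).trans ?_
    apply ULift.ext
    change 𝟙 _ ≫ (z.obj.fst.hom ≫ t) = z.obj.fst.hom ≫ t
    exact Category.id_comp _
  have ex2 : ∀ z : (FibCat.fp y' f).obj, ∃ s' : F'.obj.obj (op z.obj.fst.left),
      (k.hom.app (op z.obj.fst.left) s' = R.sec (bcObj α z) ∧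
      π'.hom.app (op z.obj.fst.left) s' = (⟨z.obj.fst.hom⟩ : ULift.{u + 1} _)) ∧
      ∀ s'', k.hom.app (op z.obj.fst.left) s'' = R.sec (bcObj α z) →
        π'.hom.app (op z.obj.fst.left) s'' = (⟨z.obj.fst.hom⟩ : ULift.{u + 1} _) → s'' = s' := by
    intro z
    obtain ⟨s', h1, h2⟩ := ex (R.sec (bcObj α z)) z.obj.fst.hom (hz z)
    exact ⟨s', h1, fun s'' h3 h4 => h2 s'' ⟨h3, h4⟩⟩
  choose s' hs' hu using ex2
  refine ⟨{
    sec := s'
    map := ?_
    full := ?_
    faithful := ?_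
    surj := ?_
    proj := ?_ }, fun z => (hs' z).1⟩
  · intro z z' m
    apply hu
    · refine (NatTrans.naturality_apply k.hom _ _).trans ?_
      exact (congrArg (F.obj.map _) (hs' z').1).trans (R.map (bcMap α m))
    · refine (NatTrans.naturality_apply π'.hom _ _).trans ?_
      refine (congrArg (((yon S).obj T).obj.map _) (hs' z').2).trans ?_
      apply ULift.ext
      exact Over.w m.hom.fst
  · intro z z' g hg
    have h1 : F.obj.map g.op (R.sec (bcObj α z')) = R.sec (bcObj α z) := by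
      have := congrArg (k.hom.app (op z.obj.fst.left)) hg
      refine Eq.trans ?_ (this.trans (hs' z).1)
      refine (congrArg (F.obj.map _) (hs' z').1).symm.trans ?_
      exact (NatTrans.naturality_apply k.hom _ _).symm
    have h2 : g ≫ z'.obj.fst.hom = z.obj.fst.hom := by
      have := congrArg (π'.hom.app (op z.obj.fst.left)) hg
      have h3 := this.trans (hs' z).2
      have h4 := (NatTrans.naturality_apply π'.hom g.op (s' z')).symm.trans h3
      have h5 := (congrArg (((yon S).obj T).obj.map g.op) (hs' z').2).symm.trans h4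
      exact congrArg ULift.down h5
    obtain ⟨m, hm⟩ := R.full (z := bcObj α z) (z' := bcObj α z') g h1
    let b : z.obj.fst ⟶ z'.obj.fst := Over.homMk g h2
    have hb : m.hom.fst = (AlgSt.overMap t).map b := Over.OverMorphism.ext hm
    have h4 := fp_hom_w m
    have h5 := Equiv.isoApp_naturality α b
    refine ⟨fpHom b m.hom.snd ?_, rfl⟩
    rw [hb] at h4
    change y.map ((AlgSt.overMap t).map b) ≫ ((Equiv.isoApp α z'.obj.fst).inv ≫ z'.obj.iso.hom) =
      ((Equiv.isoApp α z.obj.fst).inv ≫ z.obj.iso.hom) ≫ f.map m.hom.snd at h4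
    have h6 : y'.map b = (Equiv.isoApp α z.obj.fst).hom ≫ y.map ((AlgSt.overMap t).map b) ≫
        (Equiv.isoApp α z'.obj.fst).inv := by
      rw [← Category.assoc, Iso.eq_comp_inv]
      exact h5
    rw [h6, Category.assoc, Category.assoc, h4]
    simp only [Category.assoc, Iso.hom_inv_id_assoc]
  · intro z z' m m' h
    have h1 : m.hom.fst = m'.hom.fst := Over.OverMorphism.ext h
    have h2 : bcMap α m = bcMap α m' := R.faithful _ _ h
    exact fp_hom_ext h1 (congrArg (fun n : bcObj α z ⟶ bcObj α z' => n.hom.snd) h2)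
  · intro W s
    obtain ⟨z, h, hz'⟩ := R.surj (k.hom.app _ s)
    subst h
    have hz'' : R.sec z = k.hom.app _ s := by
      rw [← hz']
      simp
    obtain ⟨⟨r⟩, hr⟩ : ∃ r, r = π'.hom.app _ s := ⟨_, rfl⟩
    have h1 : r ≫ t = z.obj.fst.hom := by
      have h2 := R.proj z
      rw [hz''] at h2
      have h3 : π.hom.app _ (k.hom.app _ s) = ((yon S).map t).hom.app _ (π'.hom.app _ s) :=
        congrArg (fun n : F' ⟶ (yon S).obj U => n.hom.app _ s) sq.w
      rw [h3, ← hr] at h2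
      have h4 : r ≫ t = str (FibCat.fpFst y f) z := congrArg ULift.down h2
      rw [h4]
      exact Category.id_comp _
    let a : (FibCat.overCat T).obj := Over.mk r
    -- the object of `fp y' f`
    let β : (AlgSt.overMap t).obj a ≅ z.obj.fst := Over.isoMk (Iso.refl _) (by
      simp only [Iso.refl_hom, Category.id_comp]
      exact h1.symm)
    have hβ : (FibCat.overCat U).p.IsHomLift (𝟙 z.obj.fst.left) β.hom :=
      IsHomLift.map (Over.forget U) β.hom
    have hβ' : 𝒴.p.IsHomLift (𝟙 z.obj.fst.left) (y.map β.hom) :=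
      BasedFunctor.preserves_isHomLift y _ _
    have hα : 𝒴.p.IsHomLift (𝟙 z.obj.fst.left) (Equiv.isoApp α a).hom :=
      Equiv.isoApp_isHomLift α a
    have hzz : 𝒴.p.IsHomLift (𝟙 z.obj.fst.left) z.obj.iso.hom := z.property
    let ζ : (FibCat.fp y' f).obj := fpObj a z.obj.snd
      (Equiv.isoApp α a ≪≫ y.toFunctor.mapIso β ≪≫ z.obj.iso) (by
        change 𝒴.p.IsHomLift (𝟙 z.obj.fst.left)
          ((Equiv.isoApp α a).hom ≫ y.map β.hom ≫ z.obj.iso.hom)
        infer_instance)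
    let m : bcObj α ζ ⟶ z := fpHom β.hom (𝟙 z.obj.snd) (by
      change y.map β.hom ≫ z.obj.iso.hom = ((Equiv.isoApp α a).inv ≫
        ((Equiv.isoApp α a).hom ≫ y.map β.hom ≫ z.obj.iso.hom)) ≫ f.map (𝟙 z.obj.snd)
      rw [Iso.inv_hom_id_assoc]
      have : f.map (𝟙 z.obj.snd) = 𝟙 _ := f.map_id _
      rw [this, Category.comp_id])
    have hm : R.sec (bcObj α ζ) = R.sec z := by
      have := R.map m
      rw [← this]
      exact congrArg (fun g : F.obj.obj _ ⟶ F.obj.obj _ => g (R.sec z)) (F.obj.map_id _)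
    refine ⟨ζ, rfl, ?_⟩
    have h5 : s = s' ζ := hu ζ s (hz''.symm.trans hm.symm) hr.symm
    refine Eq.trans ?_ h5.symm
    exact congrArg (fun g : F'.obj.obj _ ⟶ F'.obj.obj _ => g (s' ζ)) (F'.obj.map_id _)
  · intro z
    refine (hs' z).2.trans ?_
    apply ULift.ext
    exact (Category.id_comp _).symm

end BaseChange

end K738
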