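import Groth.Agent.AlgSt.K738.SecRep3
import Groth.Agent.AlgSt.K738.SecRepBC
import Groth.Agent.AlgSt.K738.Agree
import Groth.Agent.AlgSt.K737.OpenSt
import Groth.Agent.AlgSp.K597.LocP

/-!
# Sections lying in an open subsheaf
-/

set_option autoImplicit false
set_option backward.isDefEq.respectTransparency false
set_option backward.isDefEq.respectTransparency.types false

universe w₁ v₁ w' v' w v u

open CategoryTheory CategoryTheory.Limits AlgebraicGeometry Opposite AlgSp

namespace K738.InOpen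

variable {S : Scheme.{u}} {F W : Sp S} (w : W ⟶ F)

/-- The section `s` of `F` comes from `W`. -/
def InW {T : Over S} (s : F.obj.obj (op T)) : Prop := ∃ s' : W.obj.obj (op T), w.hom.app (op T) s' = s

variable {w}

theorem InW.map {T T' : Over S} (g : T' ⟶ T) {s : F.obj.obj (op T)} (h : InW w s) : InW w (F.obj.map g.op s) := by
  obtain ⟨s', rfl⟩ := h
  exact ⟨W.obj.map g.op s', NatTrans.naturality_apply w.hom g.op s'⟩

theorem yonEquiv_comp_app {G : Sp S} {T : Over S} (m : (yon S).obj T ⟶ G) (G' : Sp S) (f : G ⟶ G') :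
    (J S).uliftYonedaEquiv.{u + 1} (m ≫ f) = f.hom.app (op T) ((J S).uliftYonedaEquiv.{u + 1} m) :=
  (J S).uliftYonedaEquiv_comp _ _

/-- The locus of a section in an open subsheaf. -/
theorem exists_open (hw : RepWith @IsOpenImmersion w) {T : Over S} (s : F.obj.obj (op T)) :
    ∃ O : T.left.Opens, ∀ ⦃T' : Over S⦄ (g : T' ⟶ T), InW w (F.obj.map g.op s) ↔ Set.range g.left ⊆ O := by
  obtain ⟨Z, fst, snd, sq, hsnd⟩ := K597.exists_sq hw ((J S).uliftYonedaEquiv.{u + 1}.symm s)
  have hsnd : IsOpenImmersion snd.left := hsnd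
  refine ⟨snd.left.opensRange, fun T' g => ?_⟩
  have h1 := K737.OpenSt.exists_fac_iff_range snd (Over.mk g)
  refine Iff.trans ?_ h1
  constructor
  · rintro ⟨s', hs'⟩
    have hw' : (J S).uliftYonedaEquiv.{u + 1}.symm s' ≫ w =
        (yon S).map g ≫ (J S).uliftYonedaEquiv.{u + 1}.symm s := by
      rw [(J S).uliftYonedaEquiv_symm_naturality_right, hs', yonEquiv_symm_comp_map]
    obtain ⟨k, hk⟩ := (yon S).map_surjective (sq.lift _ _ hw')
    refine ⟨k, (yon S).map_injective ?_⟩
    rw [Functor.map_comp, hk]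
    exact sq.lift_snd _ _ _
  · rintro ⟨k, hk⟩
    have hk' : k ≫ snd = g := hk
    refine ⟨(J S).uliftYonedaEquiv.{u + 1} ((yon S).map k ≫ fst), ?_⟩
    rw [← yonEquiv_comp_app, Category.assoc, sq.w, ← Category.assoc, ← Functor.map_comp, hk',
      yonEquiv_symm_comp_map, Equiv.apply_symm_apply]

/-- Descent of `InW` along a surjective morphism. -/
theorem InW.of_surjective (hw : RepWith @IsOpenImmersion w) {T T' : Over S} (g : T' ⟶ T)
    (hg : Surjective g.left) {s : F.obj.obj (op T)} (h : InW w (F.obj.map g.op s)) : InW w s := by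
  obtain ⟨O, hO⟩ := exists_open hw s
  have h1 := (hO g).1 h
  have h2 : Set.range (𝟙 T : T ⟶ T).left ⊆ (O : Set T.left) := by
    rintro t -
    obtain ⟨t', rfl⟩ := hg.surj t
    exact h1 ⟨t', rfl⟩
  have h3 := (hO (𝟙 T)).2 h2
  rw [op_id, CategoryTheory.Functor.map_id] at h3
  exact h3

theorem inW_map_iso {T T' : Over S} (g : T' ⟶ T) [IsIso g] {s : F.obj.obj (op T)} :
    InW w (F.obj.map g.op s) ↔ InW w s := by
  constructor
  · intro h
    have h1 := h.map (inv g)
    rw [← Functor.map_comp_apply, ← op_comp, IsIso.inv_hom_id, op_id, CategoryTheory.Functor.map_id] at h1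
    exact h1
  · exact InW.map g

end K738.InOpen
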