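import Groth.Agent.AlgSt.K738.SecRep
import Mathlib.CategoryTheory.Sites.Limits

/-!
# Uniqueness and base change of elementwise representations
-/

set_option autoImplicit false
set_option backward.isDefEq.respectTransparency false
set_option backward.isDefEq.respectTransparency.types false

universe w₁ v₁ w' v' w v u

open CategoryTheory CategoryTheory.Limits AlgebraicGeometry Opposite AlgSp

namespace K738

variable {S : Scheme.{u}}

namespace SecRep

variable {𝒵 : BasedCategory.{v, w} (Over S)} {U : Over S} {q : 𝒵 ⥤ᵇ FibCat.overCat U}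
    {F : Sp S} {π : F ⟶ (yon S).obj U} {F' : Sp S} {π' : F' ⟶ (yon S).obj U}

/-- two objects with the same section (over equal bases) have the same section for any other
representation. -/
theorem sec_eq_of_sec_eq (R : SecRep q F π) (R' : SecRep q F' π') {z z' : 𝒵.obj}
    (h : 𝒵.p.obj z = 𝒵.p.obj z') (hs : F.obj.map (eqToHom h).op (R.sec z') = R.sec z) :
    F'.obj.map (eqToHom h).op (R'.sec z') = R'.sec z := by
  obtain ⟨m, hm⟩ := R.full (eqToHom h) hs
  rw [← hm]
  exact R'.map m

/-- transport a section along two representations -/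
noncomputable def tr (R : SecRep q F π) (R' : SecRep q F' π') {T : Over S} (s : F.obj.obj (op T)) :
    F'.obj.obj (op T) :=
  F'.obj.map (eqToHom (R.surj s).choose_spec.choose).op (R'.sec (R.surj s).choose)

theorem tr_sec (R : SecRep q F π) (R' : SecRep q F' π') (z : 𝒵.obj) :
    tr R R' (R.sec z) = R'.sec z := by
  obtain ⟨h, hs⟩ := (R.surj (R.sec z)).choose_spec
  exact R.sec_eq_of_sec_eq R' h hs

theorem tr_map (R : SecRep q F π) (R' : SecRep q F' π') {T T' : Over S} (g : T' ⟶ T)
    (s : F.obj.obj (op T)) : tr R R' (F.obj.map g.op s) = F'.obj.map g.op (tr R R' s) := by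
  obtain ⟨z, h, rfl⟩ := R.surj s
  subst h
  obtain ⟨z', h', hs'⟩ := R.surj (F.obj.map g.op (R.sec z))
  subst h'
  have e1 : F.obj.map (eqToHom (rfl : 𝒵.p.obj z = 𝒵.p.obj z)).op (R.sec z) = R.sec z := by simp
  have e2 : F.obj.map (eqToHom (rfl : 𝒵.p.obj z' = 𝒵.p.obj z')).op (R.sec z') = R.sec z' := by simp
  rw [e2] at hs'
  rw [e1, ← hs', tr_sec, tr_sec]
  obtain ⟨m, rfl⟩ := R.full g hs'.symm
  exact (R'.map m).symm

/-- the comparison map of two representations -/
noncomputable def trHom (R : SecRep q F π) (R' : SecRep q F' π') : F ⟶ F' :=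
  ObjectProperty.homMk
    { app := fun T => ↾fun s => tr R R' (T := T.unop) s
      naturality := fun T T' g => by
        ext s
        exact tr_map R R' g.unop s }

theorem trHom_app (R : SecRep q F π) (R' : SecRep q F' π') {T : Over S} (s : F.obj.obj (op T)) :
    (trHom R R').hom.app (op T) s = tr R R' s := rfl

theorem tr_tr (R : SecRep q F π) (R' : SecRep q F' π') {T : Over S} (s : F.obj.obj (op T)) :
    tr R' R (tr R R' s) = s := by
  obtain ⟨z, h, rfl⟩ := R.surj s
  subst h
  have e1 : F.obj.map (eqToHom (rfl : 𝒵.p.obj z = 𝒵.p.obj z)).op (R.sec z) = R.sec z := by simp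
  rw [e1, tr_sec, tr_sec]

/-- two representations are isomorphic -/
noncomputable def trIso (R : SecRep q F π) (R' : SecRep q F' π') : F ≅ F' where
  hom := trHom R R'
  inv := trHom R' R
  hom_inv_id := by
    apply ObjectProperty.hom_ext
    ext T s
    exact tr_tr R R' s
  inv_hom_id := by
    apply ObjectProperty.hom_ext
    ext T s
    exact tr_tr R' R s

theorem trHom_proj (R : SecRep q F π) (R' : SecRep q F' π') : trHom R R' ≫ π' = π := by
  apply ObjectProperty.hom_ext
  ext T s
  induction T using Opposite.rec with | _ T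
  change π'.hom.app (op T) (tr R R' s) = π.hom.app (op T) s
  obtain ⟨z, h, rfl⟩ := R.surj s
  subst h
  have e1 : F.obj.map (eqToHom (rfl : 𝒵.p.obj z = 𝒵.p.obj z)).op (R.sec z) = R.sec z := by simp
  rw [e1, tr_sec]
  exact (R'.proj z).trans (R.proj z).symm

theorem prop_iff (R : SecRep q F π) (R' : SecRep q F' π') (P : MorphismProperty (Sp S))
    [P.RespectsIso] : P π ↔ P π' := by
  rw [← trHom_proj R R']
  exact P.cancel_left_of_respectsIso (trIso R R').hom π'

end SecRep

end K738
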