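import Groth.Agent.AlgSt.K738.InOpen
import Groth.Agent.AlgSt.K738.SecRep2
import Groth.Agent.AlgSt.K740.RepBC
import Groth.Agent.AlgSp.K613.Chart

/-!
# Largest open subspaces and base change to schemes over a stack
-/

set_option autoImplicit false
set_option backward.isDefEq.respectTransparency false
set_option backward.isDefEq.respectTransparency.types false

universe w₁ v₁ w' v' w v u

open CategoryTheory CategoryTheory.Limits AlgebraicGeometry Opposite AlgSp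

namespace K738.LOpen

open K738.InOpen

variable {S : Scheme.{u}}

/-- `w : W ⟶ X` is the largest open subspace on which `f` has `P`. -/
def Largest (P : MorphismProperty (Sp S)) {X Y W : Space S} (f : X ⟶ Y) (w : W ⟶ X) : Prop :=
  AlgSp.RepWith @IsOpenImmersion w.hom ∧ P (w ≫ f).hom ∧
    ∀ (W₁ : AlgSp.Space S) (w₁ : W₁ ⟶ X), AlgSp.RepWith @IsOpenImmersion w₁.hom → P (w₁ ≫ f).hom →
      ∃ k : W₁ ⟶ W, k ≫ w = w₁

/-- The base change hypothesis of S12877. -/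
def BC (P Q R : MorphismProperty (Sp S)) : Prop :=
  ∀ (X Y X' Y' : AlgSp.Space S) (f : X ⟶ Y) (g : Y' ⟶ Y) (f' : X' ⟶ Y') (g' : X' ⟶ X),
    IsPullback g'.hom f'.hom f.hom g.hom → Q f.hom → R g.hom →
    ∀ (W : AlgSp.Space S) (w : W ⟶ X), Largest P f w →
      ∀ (W' : AlgSp.Space S) (w' : W' ⟶ X') (k : W' ⟶ W), IsPullback k.hom w'.hom w.hom g'.hom → Largest P f' w'

/-- The pullback as a space. -/
noncomputable def pb {X Y Z : Space S} (f : X ⟶ Z) (g : Y ⟶ Z) : Space S :=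
  ⟨pullback f.hom g.hom, K613.Chart.isAlgSpace_pullback X.property Y.property Z.property _ _⟩

noncomputable def pbFst {X Y Z : Space S} (f : X ⟶ Z) (g : Y ⟶ Z) : pb f g ⟶ X :=
  ObjectProperty.homMk (pullback.fst f.hom g.hom)

noncomputable def pbSnd {X Y Z : Space S} (f : X ⟶ Z) (g : Y ⟶ Z) : pb f g ⟶ Y :=
  ObjectProperty.homMk (pullback.snd f.hom g.hom)

theorem isPullback_pb {X Y Z : Space S} (f : X ⟶ Z) (g : Y ⟶ Z) :
    IsPullback (pbFst f g).hom (pbSnd f g).hom f.hom g.hom := IsPullback.of_hasPullback _ _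

variable {𝒳 : BasedCategory.{v, w} (Over S)} {𝒴 : BasedCategory.{v', w'} (Over S)}

/-- Independence of the largest open subspace on the chart. -/
theorem claimB {P Q R₀ : MorphismProperty (Sp S)} (hBC : BC P Q R₀) {f : 𝒳 ⥤ᵇ 𝒴} {V B : Over S}
    {v : FibCat.overCat V ⥤ᵇ 𝒴} {F W : Space S} {π : F ⟶ (ofScheme S).obj V} {w : W ⟶ F} (hL : Largest P π w)
    (hQ : Q π.hom) (R : SecRep (FibCat.fpFst v f) F.obj π.hom) {b₁ b₂ : B ⟶ V}
    (h₁ : R₀ ((yon S).map b₁)) (h₂ : R₀ ((yon S).map b₂)) {y' : FibCat.overCat B ⥤ᵇ 𝒴}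
    (α₁ : y' ≅ BasedFunctor.comp (AlgSt.overMap b₁) v) (α₂ : y' ≅ BasedFunctor.comp (AlgSt.overMap b₂) v)
    (z : (FibCat.fp y' f).obj) (h : InW w.hom (R.sec (bcObj α₁ z))) : InW w.hom (R.sec (bcObj α₂ z)) := by
  have sq₁ := isPullback_pb π ((ofScheme S).map b₁)
  have sq₂ := isPullback_pb π ((ofScheme S).map b₂)
  have sqW₁ := isPullback_pb w (pbFst π ((ofScheme S).map b₁))
  have sqW₂ := isPullback_pb w (pbFst π ((ofScheme S).map b₂))
  have hL₁ := hBC _ _ _ _ π ((ofScheme S).map b₁) _ _ sq₁ hQ h₁ _ w hL _ _ _ sqW₁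
  have hL₂ := hBC _ _ _ _ π ((ofScheme S).map b₂) _ _ sq₂ hQ h₂ _ w hL _ _ _ sqW₂
  obtain ⟨R₁, hR₁⟩ := SecRep.nonempty_bc α₁ R sq₁
  obtain ⟨R₂, hR₂⟩ := SecRep.nonempty_bc α₂ R sq₂
  let i : pb π ((ofScheme S).map b₁) ⟶ pb π ((ofScheme S).map b₂) := ObjectProperty.homMk (SecRep.trHom R₁ R₂)
  have hi : i ≫ pbSnd π ((ofScheme S).map b₂) = pbSnd π ((ofScheme S).map b₁) := by
    apply ObjectProperty.hom_ext
    exact SecRep.trHom_proj R₁ R₂
  have hi' : IsIso i.hom := inferInstanceAs (IsIso (SecRep.trIso R₁ R₂).hom)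
  obtain ⟨k, hk⟩ := hL₂.2.2 _ (pbSnd w (pbFst π ((ofScheme S).map b₁)) ≫ i) (by
      exact (MorphismProperty.cancel_right_of_respectsIso (AlgSp.RepWith @IsOpenImmersion) _ i.hom).2 hL₁.1) (by
      rw [Category.assoc, hi]
      exact hL₁.2.1)
  obtain ⟨s', hs'⟩ := h
  obtain ⟨t, ht₁, ht₂⟩ := K740.RepBC.exists_sec sqW₁ s' (R₁.sec z) (hs'.trans (hR₁ z).symm)
  refine ⟨(pbFst w (pbFst π ((ofScheme S).map b₂))).hom.hom.app _ (k.hom.hom.app _ t), ?_⟩
  have e1 : (pbSnd w (pbFst π ((ofScheme S).map b₂))).hom.hom.app _ (k.hom.hom.app _ t) = R₂.sec z := by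
    have h3 := congrArg (fun m => m.hom.hom.app _ t) hk
    refine h3.trans ?_
    change (SecRep.trHom R₁ R₂).hom.app _ ((pbSnd w (pbFst π ((ofScheme S).map b₁))).hom.hom.app _ t) = _
    rw [ht₂]
    exact SecRep.tr_sec R₁ R₂ z
  have e2 := congrArg (fun m => m.hom.app _ (k.hom.hom.app _ t)) sqW₂.w
  refine e2.trans ?_
  change (pbFst π ((ofScheme S).map b₂)).hom.hom.app _ ((pbSnd w (pbFst π ((ofScheme S).map b₂))).hom.hom.app _
    (k.hom.hom.app _ t)) = _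
  rw [e1]
  exact hR₂ z

end K738.LOpen
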