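import Groth.Agent.AlgSt.K738.SecRepBC
import Groth.Agent.AlgSt.K738.RepDiag
import Groth.Agent.AlgSt.K743.BC

/-!
# Sections of a representing sheaf as functors; the diagonal tested on the representing space
-/

set_option autoImplicit false
set_option backward.isDefEq.respectTransparency false
set_option backward.isDefEq.respectTransparency.types false

universe w₁ v₁ w' v' w v u

open CategoryTheory CategoryTheory.Limits AlgebraicGeometry Opposite AlgSp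

namespace K738

section IsoOfStr

variable {C : Type u} [Category.{v} C] {𝒲 : BasedCategory.{v', w'} C}

theorem hom_eq_str {U : C} (Φ : 𝒲 ⥤ᵇ FibCat.overCat U) (w : 𝒲.obj) :
    (Φ.obj w).hom = eqToHom (Φ.w_obj w) ≫ str Φ w := by
  unfold str
  rw [eqToHom_trans_assoc]
  exact (Category.id_comp _).symm

theorem left_eq {U : C} (Φ Ψ : 𝒲 ⥤ᵇ FibCat.overCat U) (w : 𝒲.obj) :
    (Φ.obj w).left = (Ψ.obj w).left :=
  (Φ.w_obj w).trans (Ψ.w_obj w).symm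

def strIso {U : C} {Φ Ψ : 𝒲 ⥤ᵇ FibCat.overCat U} (h : ∀ w, str Φ w = str Ψ w) (w : 𝒲.obj) :
    Φ.obj w ≅ Ψ.obj w :=
  Over.isoMk (eqToIso (left_eq Φ Ψ w)) (by
    change eqToHom (left_eq Φ Ψ w) ≫ (Ψ.obj w).hom = (Φ.obj w).hom
    refine (congrArg (eqToHom (left_eq Φ Ψ w) ≫ ·) (hom_eq_str Ψ w)).trans ?_
    refine Eq.trans ?_ (hom_eq_str Φ w).symm
    change eqToHom (left_eq Φ Ψ w) ≫ eqToHom (Ψ.w_obj w) ≫ str Ψ w = _
    rw [← h]
    exact eqToHom_trans_assoc _ _ _)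

theorem strIso_left {U : C} {Φ Ψ : 𝒲 ⥤ᵇ FibCat.overCat U} (h : ∀ w, str Φ w = str Ψ w) (w : 𝒲.obj) :
    (strIso h w).hom.left = eqToHom (left_eq Φ Ψ w) := rfl

/-- Two functors to `C/U` with the same structure morphisms are isomorphic. -/
def isoOfStr {U : C} {Φ Ψ : 𝒲 ⥤ᵇ FibCat.overCat U} (h : ∀ w, str Φ w = str Ψ w) : Φ ≅ Ψ :=
  BasedNatIso.mkNatIso
    (NatIso.ofComponents (fun w => strIso h w)
      (fun {w w'} m => by
        apply Over.OverMorphism.ext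
        have h1 : (Φ.map m).left = eqToHom (Φ.w_obj w) ≫ 𝒲.p.map m ≫ eqToHom (Φ.w_obj w').symm :=
          IsHomLift.fac' (FibCat.overCat U).p (𝒲.p.map m) (Φ.map m)
        have h2 : (Ψ.map m).left = eqToHom (Ψ.w_obj w) ≫ 𝒲.p.map m ≫ eqToHom (Ψ.w_obj w').symm :=
          IsHomLift.fac' (FibCat.overCat U).p (𝒲.p.map m) (Ψ.map m)
        change (Φ.map m).left ≫ eqToHom (left_eq Φ Ψ w') = eqToHom (left_eq Φ Ψ w) ≫ (Ψ.map m).left
        refine (congrArg (· ≫ eqToHom (left_eq Φ Ψ w')) h1).trans ?_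
        refine Eq.trans ?_ (congrArg (eqToHom (left_eq Φ Ψ w) ≫ ·) h2).symm
        change (eqToHom _ ≫ 𝒲.p.map m ≫ eqToHom _) ≫ eqToHom _ =
          eqToHom _ ≫ eqToHom _ ≫ 𝒲.p.map m ≫ eqToHom _
        simp only [Category.assoc, eqToHom_trans, eqToHom_trans_assoc]))
    (fun w => by
      refine IsHomLift.of_fac (FibCat.overCat U).p (𝟙 (𝒲.p.obj w)) _ (Φ.w_obj w) (Ψ.w_obj w) ?_
      change 𝟙 _ = eqToHom (Φ.w_obj w).symm ≫ eqToHom (left_eq Φ Ψ w) ≫ eqToHom (Ψ.w_obj w)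
      simp only [eqToHom_trans, eqToHom_refl])

end IsoOfStr

variable {S : Scheme.{u}}

namespace SecRep

variable {𝒵 : BasedCategory.{v, w} (Over S)} {U : Over S} {q : 𝒵 ⥤ᵇ FibCat.overCat U}
    {F : Sp S} {π : F ⟶ (yon S).obj U}

/-- A quasi-inverse of `toOfSp`, with its sections. -/
theorem exists_inv (R : SecRep q F π) : ∃ e : AlgSt.ofSp F ⥤ᵇ 𝒵, FibCat.IsEquivOver e ∧
    ∀ (T : Over S) (s : F.obj.obj (op T)),
      R.sec (e.obj (⟨T, s⟩ : Stk.EltObj F.obj)) =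
        F.obj.map (eqToHom (e.w_obj (⟨T, s⟩ : Stk.EltObj F.obj))).op s := by
  obtain ⟨e, ⟨α⟩, ⟨β⟩⟩ := R.isEquivOver_toOfSp
  refine ⟨e, ⟨R.toOfSp, ⟨β⟩, ⟨α⟩⟩, fun T s => ?_⟩
  have hzT : 𝒵.p.obj (e.obj (⟨T, s⟩ : (AlgSt.ofSp F).obj)) = T :=
    e.w_obj (⟨T, s⟩ : (AlgSt.ofSp F).obj)
  obtain ⟨m, h2⟩ : ∃ m : (⟨𝒵.p.obj (e.obj (⟨T, s⟩ : (AlgSt.ofSp F).obj)),
      R.sec (e.obj (⟨T, s⟩ : (AlgSt.ofSp F).obj))⟩ : Stk.EltObj F.obj) ⟶ (⟨T, s⟩ : Stk.EltObj F.obj),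
      m.hom = eqToHom hzT := by
    exact ⟨(Equiv.isoApp β (⟨T, s⟩ : (AlgSt.ofSp F).obj)).hom,
      Equiv.map_eq_eqToHom (p := (AlgSt.ofSp F).p) _
        (Equiv.isoApp_isHomLift β (⟨T, s⟩ : (AlgSt.ofSp F).obj)) hzT⟩
  have h3 : F.obj.map m.hom.op s = R.sec (e.obj (⟨T, s⟩ : (AlgSt.ofSp F).obj)) := m.map_sec
  rw [← h3, h2]
  rfl

/-- A section of the representing sheaf over `T` is a functor `(Sch/T) ⟶ 𝒵`. -/
theorem exists_functor (R : SecRep q F π) {T : Over S} (s : F.obj.obj (op T)) :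
    ∃ E : FibCat.overCat T ⥤ᵇ 𝒵, ∀ a : (FibCat.overCat T).obj,
      R.sec (E.obj a) = F.obj.map (eqToHom (E.w_obj a) ≫ a.hom).op s := by
  obtain ⟨e, _, he⟩ := R.exists_inv
  let E₀ : FibCat.overCat T ⥤ᵇ AlgSt.ofSp F :=
    { toFunctor :=
        { obj := fun a => ⟨a.left, F.obj.map a.hom.op s⟩
          map := fun {a b} m => ⟨m.left, by
            have : a.hom = m.left ≫ b.hom := (Over.w m).symm
            rw [this, op_comp, Functor.map_comp_apply]⟩ }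
      w := rfl }
  refine ⟨BasedFunctor.comp E₀ e, fun a => ?_⟩
  refine (he a.left (F.obj.map a.hom.op s)).trans ?_
  exact (Functor.map_comp_apply F.obj a.hom.op _ s).symm

theorem str_functor (R : SecRep q F π) {T : Over S} (s : F.obj.obj (op T))
    (E : FibCat.overCat T ⥤ᵇ 𝒵) (hE : ∀ a : (FibCat.overCat T).obj,
      R.sec (E.obj a) = F.obj.map (eqToHom (E.w_obj a) ≫ a.hom).op s) (t : T ⟶ U)
    (ht : π.hom.app (op T) s = ⟨t⟩) (a : (FibCat.overCat T).obj) :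
    str (BasedFunctor.comp E q) a = str (AlgSt.overMap t) a := by
  have h1 := R.proj (E.obj a)
  rw [hE] at h1
  have h2 := NatTrans.naturality_apply π.hom (eqToHom (E.w_obj a) ≫ a.hom).op s
  have h3 := h2.symm.trans h1
  rw [ht] at h3
  have h4 : (eqToHom (E.w_obj a) ≫ a.hom) ≫ t = str q (E.obj a) := congrArg ULift.down h3
  rw [str_comp_functor, ← h4, Category.assoc, eqToHom_trans_assoc]
  simp [str]
  rfl

end SecRep

end K738
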