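import Groth.Agent.AlgSt.K739.Diag
import Groth.Agent.AlgSt.K735.Prod
import Groth.Agent.AlgSt.K737.LocLift
import Groth.Agent.AlgSt.K738.SecRep3
import Groth.Agent.AlgSt.K738.SecRepBC

/-!
# Isom presheaves against an atlas

For `z₁ z₂ : overCat T ⥤ᵇ 𝒳`, `v : overCat V ⥤ᵇ 𝒳`, `b : T ⟶ V` and `z₂ ≅ overMap b ⋙ v`, the presheaf
`Isom(z₁, z₂)` is the equalizer of `F ⟶ h_T ⟶ h_V` and `F ⟶ h_V`, where `F` represents `T ×_{z₁,𝒳,v} V`.
-/

set_option autoImplicit false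
set_option backward.isDefEq.respectTransparency false
set_option backward.isDefEq.respectTransparency.types false

universe w₁ v₁ w' v' w v u

open CategoryTheory CategoryTheory.Limits AlgebraicGeometry Opposite AlgSp

namespace K738

namespace SecRep

variable {S : Scheme.{u}} {𝒵 : BasedCategory.{v, w} (Over S)} {U : Over S} {q : 𝒵 ⥤ᵇ FibCat.overCat U}
    {F : Sp S} {π : F ⟶ (yon S).obj U}

/-- Any functor from a represented category to a slice gives a map of sheaves. -/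
theorem exists_desc (R : SecRep q F π) {V : Over S} (Φ : 𝒵 ⥤ᵇ FibCat.overCat V) :
    ∃ ρ : F ⟶ (yon S).obj V, ∀ z, ρ.hom.app _ (R.sec z) = ⟨str Φ z⟩ := by
  obtain ⟨e, he, h⟩ := R.exists_inv
  refine ⟨AlgSt.spMapOfOver (BasedFunctor.comp e Φ), fun z => ?_⟩
  let a : (AlgSt.ofSp F).obj := ⟨𝒵.p.obj z, R.sec z⟩
  have h0 : 𝒵.p.obj (e.obj a) = 𝒵.p.obj z := e.w_obj a
  obtain ⟨m, hm⟩ := R.full (z := e.obj a) (z' := z) (eqToHom h0) (h _ _).symm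
  have h1 := str_comp Φ m
  have h2 := str_comp_functor e Φ a
  rw [hm] at h1
  refine (AlgSt.spMapOfOver_app (BasedFunctor.comp e Φ) _ _).trans ?_
  apply ULift.ext
  change str (BasedFunctor.comp e Φ) a = str Φ z
  refine h2.trans ?_
  refine (congrArg (eqToHom (e.w_obj a).symm ≫ ·) h1.symm).trans ?_
  change eqToHom _ ≫ eqToHom _ ≫ str Φ z = str Φ z
  rw [eqToHom_trans_assoc, eqToHom_refl, Category.id_comp]

end SecRep

namespace Lft

open K739.Isom K739.Diag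

variable {S : Scheme.{u}} {𝒳 : BasedCategory.{u, w} (Over S)} (h𝒳 : FibCat.IsFibGrpd 𝒳.p)
  (h𝒮 : FibCat.IsFibGrpd (FibCat.selfOver (Over S)).p)
  {T V : Over S} {z₁ z₂ : FibCat.overCat T ⥤ᵇ 𝒳} {v : FibCat.overCat V ⥤ᵇ 𝒳} {b : T ⟶ V}
  (α : z₂ ≅ BasedFunctor.comp (AlgSt.overMap b) v)
  (φ : BasedFunctor.comp z₁ (FibCat.toSelf 𝒳) ≅ BasedFunctor.comp z₂ (FibCat.toSelf 𝒳))
  {F : Sp S} {π : F ⟶ (yon S).obj T} (R : SecRep (FibCat.fpFst z₁ v) F π)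

variable {φ} in
/-- The object of `T ×_𝒳 V` given by a section of `Isom(z₁, z₂)`. -/
noncomputable def objOf {W : Over S} (s : Sec (FibCat.toSelf 𝒳) z₁ z₂ φ W) : (FibCat.fp z₁ v).obj :=
  fpObj (f := z₁) (g := v) (Over.mk s.u) (Over.mk (s.u ≫ b)) (s.iso h𝒳 ≪≫ Equiv.isoApp α (Over.mk s.u)) (by
    have h1 : 𝒳.p.IsHomLift (𝟙 W) s.ψ := s.lift
    have h2 : 𝒳.p.IsHomLift (𝟙 W) (Equiv.isoApp α (Over.mk s.u)).hom := Equiv.isoApp_isHomLift α (Over.mk s.u)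
    change 𝒳.p.IsHomLift (𝟙 W) (s.ψ ≫ (Equiv.isoApp α (Over.mk s.u)).hom)
    infer_instance)

variable {φ} in
theorem exists_hom_objOf {W W' : Over S} {t : W' ⟶ W} {s : Sec (FibCat.toSelf 𝒳) z₁ z₂ φ W}
    {s' : Sec (FibCat.toSelf 𝒳) z₁ z₂ φ W'} (h : IsRes t s s') :
    ∃ m : objOf h𝒳 α s' ⟶ objOf h𝒳 α s, (FibCat.fp z₁ v).p.map m = t := by
  obtain ⟨h1, h2⟩ := h
  let c : (Over.mk s'.u : Over T) ⟶ Over.mk s.u := Over.homMk t h1
  let d : (Over.mk (s'.u ≫ b) : Over V) ⟶ Over.mk (s.u ≫ b) := Over.homMk t (by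
    change t ≫ s.u ≫ b = s'.u ≫ b
    rw [← h1, Category.assoc])
  refine ⟨fpHom (f := z₁) (g := v) c d ?_, rfl⟩
  change z₁.map c ≫ s.ψ ≫ (Equiv.isoApp α (Over.mk s.u)).hom =
    (s'.ψ ≫ (Equiv.isoApp α (Over.mk s'.u)).hom) ≫ v.map d
  have h3 : z₁.map c ≫ s.ψ = s'.ψ ≫ z₂.map c := h2
  have h4 : z₂.map c ≫ (Equiv.isoApp α (Over.mk s.u)).hom =
    (Equiv.isoApp α (Over.mk s'.u)).hom ≫ v.map d := Equiv.isoApp_naturality α c
  rw [← Category.assoc, h3, Category.assoc, h4, Category.assoc]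

/-- The map `Isom(z₁, z₂) ⟶ F`. -/
noncomputable def toF : psh (FibCat.toSelf 𝒳) z₁ z₂ φ h𝒳 h𝒮 ⟶ F.obj where
  app W := ↾fun s => R.sec (objOf h𝒳 α s)
  naturality W W' t := by
    ext s
    obtain ⟨m, hm⟩ := exists_hom_objOf h𝒳 α ((K739.Isom.map_eq_iff h𝒳 h𝒮 t.unop s _).1 rfl)
    have h1 := R.map m
    rw [hm] at h1
    exact h1.symm

theorem toF_app {W : Over S} (s : Sec (FibCat.toSelf 𝒳) z₁ z₂ φ W) :
    (toF h𝒳 h𝒮 α φ R).app (op W) s = R.sec (objOf h𝒳 α s) := rfl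

theorem toF_proj {W : Over S} (s : Sec (FibCat.toSelf 𝒳) z₁ z₂ φ W) :
    π.hom.app (op W) ((toF h𝒳 h𝒮 α φ R).app (op W) s) = ⟨s.u⟩ := by
  refine (R.proj (objOf h𝒳 α s)).trans ?_
  exact congrArg ULift.up (Category.id_comp s.u)

theorem toF_desc {ρ : F ⟶ (yon S).obj V} (hρ : ∀ z, ρ.hom.app _ (R.sec z) = ⟨str (FibCat.fpSnd z₁ v) z⟩)
    {W : Over S} (s : Sec (FibCat.toSelf 𝒳) z₁ z₂ φ W) :
    ρ.hom.app (op W) ((toF h𝒳 h𝒮 α φ R).app (op W) s) = ⟨s.u ≫ b⟩ := by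
  refine (hρ (objOf h𝒳 α s)).trans ?_
  exact congrArg ULift.up (Category.id_comp (s.u ≫ b))

theorem toF_inj {W : Over S} (s s' : Sec (FibCat.toSelf 𝒳) z₁ z₂ φ W) (hu : s.u = s'.u)
    (h : R.sec (objOf h𝒳 α s) = R.sec (objOf h𝒳 α s')) : s = s' := by
  obtain ⟨u, ψ, hl, hc⟩ := s
  obtain ⟨u', ψ', hl', hc'⟩ := s'
  obtain rfl : u = u' := hu
  refine sec_ext ?_
  obtain ⟨m, hm⟩ := R.full (z := objOf h𝒳 α (⟨u, ψ, hl, hc⟩ : Sec (FibCat.toSelf 𝒳) z₁ z₂ φ W))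
    (z' := objOf h𝒳 α (⟨u, ψ', hl', hc'⟩ : Sec (FibCat.toSelf 𝒳) z₁ z₂ φ W)) (𝟙 W) (by
      rw [← h]
      exact ConcreteCategory.congr_hom (F.obj.map_id (op W)) _)
  have hm1 : m.hom.fst.left = 𝟙 W := hm
  have hm2 : m.hom.fst = 𝟙 (Over.mk u) := Over.OverMorphism.ext hm1
  have hp := (K735.Fp.vert_fp_iff_snd m).1 (K735.Fib.vert_of_map_eq (by rfl) (by rw [hm]; rfl))
  have hm3 : m.hom.snd = 𝟙 (Over.mk (u ≫ b)) := by
    apply Over.OverMorphism.ext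
    exact hp.map_eq
  have h1 := fp_hom_w m
  rw [hm2, hm3] at h1
  have h2 : z₁.map (𝟙 (Over.mk u)) ≫ ψ' ≫ (Equiv.isoApp α (Over.mk u)).hom =
    (ψ ≫ (Equiv.isoApp α (Over.mk u)).hom) ≫ v.map (𝟙 (Over.mk (u ≫ b))) := h1
  have e1 : z₁.map (𝟙 (Over.mk u)) = 𝟙 (z₁.obj (Over.mk u)) := z₁.toFunctor.map_id _
  have e2 : v.map (𝟙 (Over.mk (u ≫ b))) = 𝟙 (v.obj (Over.mk (u ≫ b))) := v.toFunctor.map_id _
  rw [e1, e2] at h2
  have h3 : ψ' ≫ (Equiv.isoApp α (Over.mk u)).hom = ψ ≫ (Equiv.isoApp α (Over.mk u)).hom :=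
    (Category.id_comp _).symm.trans (h2.trans (Category.comp_id _))
  exact ((cancel_mono _).1 h3).symm

theorem toF_surj {ρ : F ⟶ (yon S).obj V} (hρ : ∀ z, ρ.hom.app _ (R.sec z) = ⟨str (FibCat.fpSnd z₁ v) z⟩)
    {W : Over S} (x : F.obj.obj (op W)) (u : W ⟶ T) (h1 : π.hom.app (op W) x = ⟨u⟩)
    (h2 : ρ.hom.app (op W) x = ⟨u ≫ b⟩) :
    ∃ s : Sec (FibCat.toSelf 𝒳) z₁ z₂ φ W, s.u = u ∧ R.sec (objOf h𝒳 α s) = x := by
  obtain ⟨z, hz, hx⟩ := R.surj x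
  subst hz
  have hx' : R.sec z = x := by simpa using hx
  subst hx'
  obtain ⟨⟨a, c, e⟩, he⟩ := z
  have h3 := (R.proj (⟨⟨a, c, e⟩, he⟩ : (FibCat.fp z₁ v).obj)).symm.trans h1
  have h4 := (hρ (⟨⟨a, c, e⟩, he⟩ : (FibCat.fp z₁ v).obj)).symm.trans h2
  have h5 : str (FibCat.fpFst z₁ v) (⟨⟨a, c, e⟩, he⟩ : (FibCat.fp z₁ v).obj) = u := congrArg ULift.down h3
  have h6 : str (FibCat.fpSnd z₁ v) (⟨⟨a, c, e⟩, he⟩ : (FibCat.fp z₁ v).obj) = u ≫ b := congrArg ULift.down h4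
  have h7 : a.hom = u := (Category.id_comp _).symm.trans h5
  subst h7
  have he' : K735.Fib.Vert 𝒳.p e.hom := K735.Fib.vert_of_isHomLift he
  have hcl : c.left = a.left := K735.Fp.fp_snd_eq (⟨⟨a, c, e⟩, he⟩ : (FibCat.fp z₁ v).obj)
  let κ : c ≅ (Over.mk (a.hom ≫ b) : Over V) := Over.isoMk (eqToIso hcl) (by
    have h8 : eqToHom hcl.symm ≫ c.hom = a.hom ≫ b := h6
    change eqToHom hcl ≫ a.hom ≫ b = c.hom
    rw [← h8, eqToHom_trans_assoc, eqToHom_refl, Category.id_comp])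
  have hκ : K735.Fib.Vert (FibCat.overCat V).p κ.hom := K735.Fib.vert_of_map_eq hcl rfl
  have hvκ : K735.Fib.Vert 𝒳.p (v.map κ.hom) := K735.Fib.Vert.map v hκ
  have hα : K735.Fib.Vert 𝒳.p (Equiv.isoApp α a).inv :=
    K735.Fib.Vert.iso_inv (φ := Equiv.isoApp α a) (K735.Fib.vert_of_isHomLift (Equiv.isoApp_isHomLift α a))
  let ψ : z₁.obj a ⟶ z₂.obj a := e.hom ≫ v.map κ.hom ≫ (Equiv.isoApp α a).inv
  have hψ : K735.Fib.Vert 𝒳.p ψ := K735.Fib.Vert.comp he' (K735.Fib.Vert.comp hvκ hα)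
  let s : Sec (FibCat.toSelf 𝒳) z₁ z₂ φ a.left :=
    { u := a.hom
      ψ := ψ
      lift := hψ.isHomLift (z₁.w_obj a)
      comp := (K735.Fib.Vert.map (FibCat.toSelf 𝒳) hψ).map_eq.trans
        (K735.Fib.vert_app φ.hom a).map_eq.symm }
  refine ⟨s, rfl, ?_⟩
  let m : objOf h𝒳 α s ⟶ (⟨⟨a, c, e⟩, he⟩ : (FibCat.fp z₁ v).obj) :=
    fpHom (f := z₁) (g := v) (𝟙 a) κ.inv (by
      change z₁.map (𝟙 a) ≫ e.hom = (ψ ≫ (Equiv.isoApp α a).hom) ≫ v.map κ.inv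
      have e1 : z₁.map (𝟙 a) = 𝟙 (z₁.obj a) := z₁.toFunctor.map_id _
      have e2 : v.map κ.hom ≫ v.map κ.inv = 𝟙 _ := (v.toFunctor.mapIso κ).hom_inv_id
      have e3 : (ψ ≫ (Equiv.isoApp α a).hom) = e.hom ≫ v.map κ.hom := by
        change (e.hom ≫ v.map κ.hom ≫ (Equiv.isoApp α a).inv) ≫ (Equiv.isoApp α a).hom = _
        rw [Category.assoc, Category.assoc, Iso.inv_hom_id, Category.comp_id]
      rw [e1, e3, Category.assoc, e2, Category.id_comp, Category.comp_id])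
  have h9 := R.map m
  have h10 : (FibCat.fp z₁ v).p.map m = 𝟙 a.left := rfl
  rw [h10] at h9
  refine h9.symm.trans ?_
  exact ConcreteCategory.congr_hom (F.obj.map_id (op a.left)) _

/-- The morphism to the final object. -/
abbrev toFinal (T : Over S) : T ⟶ Over.mk (𝟙 S) := Over.homMk T.hom (Category.comp_id _)

/-- The product over `S`. -/
noncomputable abbrev prodObj (T V : Over S) : Over S := pullback (toFinal T) (toFinal V)

theorem sqProd (T V : Over S) : IsPullback ((yon S).map (pullback.fst (toFinal T) (toFinal V)))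
    ((yon S).map (pullback.snd (toFinal T) (toFinal V))) ((yon S).map (toFinal T)) ((yon S).map (toFinal V)) :=
  (IsPullback.of_hasPullback (toFinal T) (toFinal V)).map (yon S)

theorem comm (π : F ⟶ (yon S).obj T) (ρ : F ⟶ (yon S).obj V) :
    π ≫ (yon S).map (toFinal T) = ρ ≫ (yon S).map (toFinal V) := by
  apply ObjectProperty.hom_ext
  ext W x
  apply ULift.ext
  exact Over.mkIdTerminal.hom_ext _ _

/-- The map to the product of two representable sheaves. -/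
noncomputable def pr (π : F ⟶ (yon S).obj T) (ρ : F ⟶ (yon S).obj V) : F ⟶ (yon S).obj (prodObj T V) :=
  (sqProd T V).lift π ρ (comm π ρ)

theorem pr_fst (π : F ⟶ (yon S).obj T) (ρ : F ⟶ (yon S).obj V) :
    pr π ρ ≫ (yon S).map (pullback.fst (toFinal T) (toFinal V)) = π := (sqProd T V).lift_fst _ _ _

theorem pr_snd (π : F ⟶ (yon S).obj T) (ρ : F ⟶ (yon S).obj V) :
    pr π ρ ≫ (yon S).map (pullback.snd (toFinal T) (toFinal V)) = ρ := (sqProd T V).lift_snd _ _ _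

/-- The graph. -/
noncomputable def gr (b : T ⟶ V) : T ⟶ prodObj T V :=
  pullback.lift (𝟙 T) b (Over.mkIdTerminal.hom_ext _ _)

theorem gr_fst (b : T ⟶ V) : gr b ≫ pullback.fst (toFinal T) (toFinal V) = 𝟙 T := pullback.lift_fst _ _ _

theorem gr_snd (b : T ⟶ V) : gr b ≫ pullback.snd (toFinal T) (toFinal V) = b := pullback.lift_snd _ _ _

theorem app_pr_fst (π : F ⟶ (yon S).obj T) (ρ : F ⟶ (yon S).obj V) {W : Over S} (x : F.obj.obj (op W)) :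
    ((pr π ρ).hom.app (op W) x).down ≫ pullback.fst (toFinal T) (toFinal V) = (π.hom.app (op W) x).down :=
  congrArg (fun (m : F ⟶ (yon S).obj T) => (m.hom.app (op W) x).down) (pr_fst π ρ)

theorem app_pr_snd (π : F ⟶ (yon S).obj T) (ρ : F ⟶ (yon S).obj V) {W : Over S} (x : F.obj.obj (op W)) :
    ((pr π ρ).hom.app (op W) x).down ≫ pullback.snd (toFinal T) (toFinal V) = (ρ.hom.app (op W) x).down :=
  congrArg (fun (m : F ⟶ (yon S).obj V) => (m.hom.app (op W) x).down) (pr_snd π ρ)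

theorem isPullback_toF {ρ : F ⟶ (yon S).obj V} (hρ : ∀ z, ρ.hom.app _ (R.sec z) = ⟨str (FibCat.fpSnd z₁ v) z⟩) :
    IsPullback (toF h𝒳 h𝒮 α φ R) (toBase (FibCat.toSelf 𝒳) z₁ z₂ φ h𝒳 h𝒮) (pr π ρ).hom
      ((pyon S).map (gr b)) := by
  apply isPullback_psh
  · intro W s
    have h1 := app_pr_fst π ρ ((toF h𝒳 h𝒮 α φ R).app (op W) s)
    have h2 := app_pr_snd π ρ ((toF h𝒳 h𝒮 α φ R).app (op W) s)
    rw [toF_proj] at h1
    rw [toF_desc h𝒳 h𝒮 α φ R hρ] at h2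
    apply ULift.ext
    apply pullback.hom_ext
    · refine h1.trans ?_
      change s.u = (s.u ≫ gr b) ≫ _
      rw [Category.assoc, gr_fst, Category.comp_id]
    · refine h2.trans ?_
      change s.u ≫ b = (s.u ≫ gr b) ≫ _
      rw [Category.assoc, gr_snd]
  · intro W s s' h1 h2
    exact toF_inj h𝒳 α φ R s s' (congrArg ULift.down h2) h1
  · intro W x y h
    have h1 := app_pr_fst π ρ x
    have h2 := app_pr_snd π ρ x
    have h3 : ((pr π ρ).hom.app (op W) x).down = y.down ≫ gr b := congrArg ULift.down h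
    rw [h3, Category.assoc, gr_fst, Category.comp_id] at h1
    rw [h3, Category.assoc, gr_snd] at h2
    obtain ⟨s, hs1, hs2⟩ := toF_surj h𝒳 α φ R hρ x y.down (ULift.ext _ _ h1.symm) (ULift.ext _ _ h2.symm)
    exact ⟨s, hs2, ULift.ext _ _ hs1⟩

end Lft

end K738
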