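import Groth.Agent.AlgSt.K738.Largest
import Groth.Agent.AlgSt.K735.Fp
import Groth.Agent.AlgSt.K739.Psh
import Groth.Agent.AlgSt.K738.RespIso
import Groth.Agent.AlgSt.K738.LftCore

/-!
# Descent of the largest open subspace to the stack
-/

set_option autoImplicit false
set_option backward.isDefEq.respectTransparency false
set_option backward.isDefEq.respectTransparency.types false

universe w₁ v₁ w' v' w v u

open CategoryTheory CategoryTheory.Limits AlgebraicGeometry Opposite AlgSp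

namespace K738.LOpen

open K738.InOpen K735.Fib K735.Fp

variable {S : Scheme.{u}}

theorem surjective_left_of {A B C D : Over S} (i : A ⟶ B) [IsIso i] (g : B ⟶ C) (j : C ⟶ D) [IsIso j]
    (hg : Surjective g.left) : Surjective (i ≫ g ≫ j).left := by
  rw [Over.comp_left, Over.comp_left]
  have : IsIso i.left := inferInstanceAs (IsIso ((Over.forget S).map i))
  have : IsIso j.left := inferInstanceAs (IsIso ((Over.forget S).map j))
  infer_instance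

/-- A `SecRep` with another functor to a slice. -/
def reproj {𝒵 : BasedCategory.{v, w} (Over S)} {U V : Over S} {q : 𝒵 ⥤ᵇ FibCat.overCat U}
    {F : Sp S} {π : F ⟶ (yon S).obj U} (R : SecRep q F π) {Φ : 𝒵 ⥤ᵇ FibCat.overCat V} {ρ : F ⟶ (yon S).obj V}
    (hρ : ∀ z, ρ.hom.app _ (R.sec z) = ⟨str Φ z⟩) : SecRep Φ F ρ where
  sec := R.sec
  map := R.map
  full := R.full
  faithful := R.faithful
  surj := R.surj
  proj := hρ

variable {𝒳 : BasedCategory.{v, w} (Over S)} {𝒴 : BasedCategory.{v', w'} (Over S)}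

/-- The second projection of `V ×_𝒴 V` has the properties of the first. -/
theorem prop_snd {P : MorphismProperty (Sp S)} [P.RespectsIso] {V : Over S} {v : FibCat.overCat V ⥤ᵇ 𝒴}
    (hv : AlgSt.RepByAlgSpWith P v) {E : Sp S} {π ρ : E ⟶ (yon S).obj V} (R : SecRep (FibCat.fpFst v v) E π)
    (hρ : ∀ z, ρ.hom.app _ (R.sec z) = ⟨str (FibCat.fpSnd v v) z⟩) : P ρ := by
  obtain ⟨e', he', h1⟩ := (reproj R hρ).exists_equiv
  obtain ⟨E₁, e₁, he₁, hE₁⟩ := hv V v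
  obtain ⟨R₁⟩ := SecRep.nonempty_of_equiv (FibCat.fpFst v v) e₁ he₁
  obtain ⟨R₂⟩ := SecRep.nonempty_of_equiv (FibCat.fpFst v v) (BasedFunctor.comp e' (fpSwap v v))
    (Equiv.isEquivOver_comp he' (isEquivOver_fpSwap v v))
  have h2 := (SecRep.prop_iff R₁ R₂ P).1 hE₁
  rw [← h1]
  exact h2

theorem claimA {P Q R₀ : MorphismProperty (Sp S)} (hBC : BC P Q R₀)
    (hsm : ∀ (X Y : Space S) (g : X ⟶ Y), LocP @Smooth g.hom → R₀ g.hom)
    (h𝒳 : FibCat.IsFibGrpd 𝒳.p) (h𝒴 : FibCat.IsFibGrpd 𝒴.p) {f : 𝒳 ⥤ᵇ 𝒴} {V : Over S}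
    {v : FibCat.overCat V ⥤ᵇ 𝒴} (hv : AlgSt.RepByAlgSpWith (LocP @Smooth) v)
    {F W : Space S} {π : F ⟶ (ofScheme S).obj V} {w : W ⟶ F} (hL : Largest P π w)
    (hQ : Q π.hom) (R : SecRep (FibCat.fpFst v f) F.obj π.hom) (z₁ z₂ : (FibCat.fp v f).obj)
    (ε : z₁.obj.snd ≅ z₂.obj.snd) (hε : Vert 𝒳.p ε.hom) (h : InW w.hom (R.sec z₂)) : InW w.hom (R.sec z₁) := by
  have hεi : Vert 𝒳.p ε.inv := Vert.iso_inv hε
  let δ : v.obj z₂.obj.fst ≅ v.obj z₁.obj.fst := z₂.obj.iso ≪≫ f.toFunctor.mapIso ε.symm ≪≫ z₁.obj.iso.symm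
  have hδ : Vert 𝒴.p δ.hom :=
    Vert.comp (fp_vert z₂) (Vert.comp (Vert.map f hεi) (Vert.iso_inv (fp_vert z₁)))
  let ζ : (FibCat.fp v v).obj := mkFp v v z₂.obj.fst z₁.obj.fst δ hδ
  obtain ⟨E, e, he, hE⟩ := hv V v
  obtain ⟨RE⟩ := SecRep.nonempty_of_equiv (FibCat.fpFst v v) e he
  obtain ⟨ρ, hρ⟩ := RE.exists_desc (FibCat.fpSnd v v)
  have hρsm : LocP @Smooth ρ := prop_snd hv RE hρ
  obtain ⟨B, p, hp, hps⟩ := E.property.atlas
  obtain ⟨Γ, hΓ⟩ := RE.exists_functor (K740.RepBC.ye p)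
  obtain ⟨b₁, hb₁⟩ := (yon S).map_surjective (p ≫ AlgSt.spMapOfOver (BasedFunctor.comp e (FibCat.fpFst v v)))
  obtain ⟨b₂, hb₂⟩ := (yon S).map_surjective (p ≫ ρ)
  have ht₁ : (AlgSt.spMapOfOver (BasedFunctor.comp e (FibCat.fpFst v v))).hom.app (op B) (K740.RepBC.ye p) =
      ⟨b₁⟩ := by
    rw [← K740.RepBC.ye_comp, ← hb₁]
    exact (J S).uliftYonedaEquiv_uliftYoneda_map _
  have ht₂ : ρ.hom.app (op B) (K740.RepBC.ye p) = ⟨b₂⟩ := by
    rw [← K740.RepBC.ye_comp, ← hb₂]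
    exact (J S).uliftYonedaEquiv_uliftYoneda_map _
  let β₁ : BasedFunctor.comp Γ (FibCat.fpFst v v) ≅ AlgSt.overMap b₁ :=
    isoOfStr (RE.str_functor (K740.RepBC.ye p) Γ hΓ b₁ ht₁)
  let β₂ : BasedFunctor.comp Γ (FibCat.fpSnd v v) ≅ AlgSt.overMap b₂ :=
    isoOfStr ((reproj RE hρ).str_functor (K740.RepBC.ye p) Γ hΓ b₂ ht₂)
  let α₁ : BasedFunctor.comp (BasedFunctor.comp Γ (FibCat.fpFst v v)) v ≅ BasedFunctor.comp (AlgSt.overMap b₁) v :=
    K739.Psh.wr β₁ v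
  let α₂ : BasedFunctor.comp (BasedFunctor.comp Γ (FibCat.fpFst v v)) v ≅ BasedFunctor.comp (AlgSt.overMap b₂) v :=
    (K739.Psh.wl Γ (FibCat.fpIso v v) : BasedFunctor.comp Γ (BasedFunctor.comp (FibCat.fpFst v v) v) ≅
      BasedFunctor.comp Γ (BasedFunctor.comp (FibCat.fpSnd v v) v)) ≪≫ K739.Psh.wr β₂ v
  -- the cover `T'` of `T`
  obtain ⟨T', κ, g, sqT, hg⟩ := K597.exists_sq2 hps (K740.RepBC.ye.symm (RE.sec ζ))
  have hκ : E.obj.obj.map κ.op (K740.RepBC.ye p) = E.obj.obj.map g.op (RE.sec ζ) := by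
    have h1 := congrArg K740.RepBC.ye sqT.w
    have h2 := yonEquiv_symm_comp_map κ (K740.RepBC.ye p)
    have h3 := yonEquiv_symm_comp_map g (RE.sec ζ)
    have h4 : K740.RepBC.ye.symm (K740.RepBC.ye p) = p := Equiv.symm_apply_apply _ _
    rw [← h4] at h1
    have h5 := (congrArg K740.RepBC.ye h2).symm.trans (h1.trans (congrArg K740.RepBC.ye h3))
    rw [Equiv.apply_symm_apply, Equiv.apply_symm_apply] at h5
    exact h5
  obtain ⟨m, hm⟩ := RE.full (z := Γ.obj (Over.mk κ)) (z' := ζ) (eqToHom (Γ.w_obj (Over.mk κ)) ≫ g) (by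
    rw [hΓ (Over.mk κ), op_comp, op_comp, Functor.map_comp_apply, Functor.map_comp_apply]
    exact congrArg _ hκ.symm)
  obtain ⟨x', n, hn⟩ := K737.Core.exists_lift h𝒳 (x := z₂.obj.snd) (fp_snd_eq z₂) ((FibCat.fp v v).p.map m)
  have hn' : 𝒴.p.IsHomLift ((FibCat.fp v v).p.map m) (f.map n) := BasedFunctor.preserves_isHomLift f _ _
  have hm1 : 𝒴.p.IsHomLift ((FibCat.fp v v).p.map m) (v.map m.hom.fst) := by
    have : (FibCat.overCat V).p.IsHomLift ((FibCat.overCat V).p.map m.hom.fst) m.hom.fst := IsHomLift.map _ _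
    exact BasedFunctor.preserves_isHomLift v ((FibCat.overCat V).p.map m.hom.fst) m.hom.fst
  have hm2 : 𝒴.p.IsHomLift (𝟙 ((FibCat.fp v v).p.obj ζ)) z₂.obj.iso.hom := z₂.property
  have hm3 : 𝒴.p.IsHomLift (𝟙 _ ≫ (FibCat.fp v v).p.map m) (v.map m.hom.fst ≫ z₂.obj.iso.hom) := by
    rw [Category.id_comp, ← Category.comp_id ((FibCat.fp v v).p.map m)]
    exact IsHomLift.comp 𝒴.p _ _ _ _
  obtain ⟨χ, hχ, hχ'⟩ := K737.Core.exists_fac h𝒴 ((FibCat.fp v v).p.map m) (f.map n) (𝟙 _)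
    (v.map m.hom.fst ≫ z₂.obj.iso.hom)
  have hχv : Vert 𝒴.p χ := vert_of_isHomLift hχ
  have hχi : IsIso χ := hχv.isIso h𝒴
  let y' := BasedFunctor.comp (BasedFunctor.comp Γ (FibCat.fpFst v v)) v
  let z : (FibCat.fp y' f).obj := fpObj (f := y') (g := f) (Over.mk κ) x' (@asIso _ _ _ _ χ hχi)
    (hχv.isHomLift (y'.w_obj (Over.mk κ)))
  let μ₁ : bcObj α₁ z ⟶ z₂ := fpHom (f := v) (g := f) ((Equiv.isoApp β₁ (Over.mk κ)).inv ≫ m.hom.fst) n (by
    change v.map ((Equiv.isoApp β₁ (Over.mk κ)).inv ≫ m.hom.fst) ≫ z₂.obj.iso.hom =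
      (v.map (Equiv.isoApp β₁ (Over.mk κ)).inv ≫ χ) ≫ f.map n
    rw [Category.assoc, hχ', ← Category.assoc]
    congr 1
    exact v.toFunctor.map_comp _ _)
  let μ₂ : bcObj α₂ z ⟶ z₁ := fpHom (f := v) (g := f) ((Equiv.isoApp β₂ (Over.mk κ)).inv ≫ m.hom.snd) (n ≫ ε.inv) (by
    change v.map ((Equiv.isoApp β₂ (Over.mk κ)).inv ≫ m.hom.snd) ≫ z₁.obj.iso.hom =
      ((v.map (Equiv.isoApp β₂ (Over.mk κ)).inv ≫ (Γ.obj (Over.mk κ)).obj.iso.inv) ≫ χ) ≫ f.map (n ≫ ε.inv)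
    have e1 : v.map m.hom.fst ≫ z₂.obj.iso.hom ≫ f.map ε.inv ≫ z₁.obj.iso.inv =
      (Γ.obj (Over.mk κ)).obj.iso.hom ≫ v.map m.hom.snd := fp_hom_w m
    have e2 : v.map m.hom.snd = (Γ.obj (Over.mk κ)).obj.iso.inv ≫
        v.map m.hom.fst ≫ z₂.obj.iso.hom ≫ f.map ε.inv ≫ z₁.obj.iso.inv := by
      rw [e1, Iso.inv_hom_id_assoc]
    have e3 : v.map ((Equiv.isoApp β₂ (Over.mk κ)).inv ≫ m.hom.snd) =
      v.map (Equiv.isoApp β₂ (Over.mk κ)).inv ≫ v.map m.hom.snd := v.toFunctor.map_comp _ _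
    have e4 : f.map (n ≫ ε.inv) = f.map n ≫ f.map ε.inv := f.toFunctor.map_comp _ _
    rw [e3, e4, e2]
    simp only [Category.assoc, Iso.inv_hom_id, Category.comp_id]
    rw [← Category.assoc χ, hχ']
    simp only [Category.assoc])
  have h1 : InW w.hom (R.sec (bcObj α₁ z)) := by
    rw [← R.map μ₁]
    exact h.map _
  have h2 := claimB hBC hL hQ R (hsm ((ofScheme S).obj B) ((ofScheme S).obj V) ((ofScheme S).map b₁) (by
      change LocP @Smooth ((yon S).map b₁)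
      rw [hb₁]
      exact K597.locP_precomp hp hE)) (hsm ((ofScheme S).obj B) ((ofScheme S).obj V) ((ofScheme S).map b₂) (by
      change LocP @Smooth ((yon S).map b₂)
      rw [hb₂]
      exact K597.locP_precomp hp hρsm)) α₁ α₂ z h1
  rw [← R.map μ₂] at h2
  refine h2.of_surjective hL.1 _ ?_
  have e5 : (FibCat.overCat V).p.map m.hom.snd = eqToHom (fp_snd_eq (Γ.obj (Over.mk κ))) ≫
      (FibCat.fp v v).p.map m ≫ eqToHom (fp_snd_eq ζ).symm := fp_map_snd m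
  have e6 : (FibCat.fp v f).p.map μ₂ = ((Equiv.isoApp β₂ (Over.mk κ)).inv.left ≫
      eqToHom (fp_snd_eq (Γ.obj (Over.mk κ))) ≫ eqToHom (Γ.w_obj (Over.mk κ))) ≫ g ≫ eqToHom (fp_snd_eq ζ).symm := by
    rw [hm] at e5
    change (Equiv.isoApp β₂ (Over.mk κ)).inv.left ≫ (FibCat.overCat V).p.map m.hom.snd = _
    rw [e5]
    simp only [Category.assoc]
  rw [e6]
  have e7 : IsIso (Equiv.isoApp β₂ (Over.mk κ)).inv.left :=
    inferInstanceAs (IsIso ((Over.forget V).map (Equiv.isoApp β₂ (Over.mk κ)).inv))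
  exact surjective_left_of _ g _ hg

end K738.LOpen
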