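import Groth.Agent.AlgSt.K738.Largest2
import Groth.Agent.AlgSt.K737.LocLift
import Groth.Agent.AlgSt.K737.OpenSt
import Groth.Agent.AlgSt.K735.Top

/-!
# The largest open substack: the predicate and its open locus
-/

set_option autoImplicit false
set_option backward.isDefEq.respectTransparency false
set_option backward.isDefEq.respectTransparency.types false

universe w₁ v₁ w' v' w v u

open CategoryTheory CategoryTheory.Limits AlgebraicGeometry Opposite AlgSp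

namespace K738.LOpen

open K738.InOpen K735.Fib K735.Fp

variable {S : Scheme.{u}}

variable {𝒳 : BasedCategory.{v, w} (Over S)} {𝒴 : BasedCategory.{v', w'} (Over S)}

/-- Data of the theorem: a smooth surjective chart of the target and the largest open over it. -/
structure Dat (f : 𝒳 ⥤ᵇ 𝒴) {V : Over S} (v : FibCat.overCat V ⥤ᵇ 𝒴) (F W : Space S) (π : F ⟶ (ofScheme S).obj V)
    (w : W ⟶ F) where
  /-- the elementwise representation -/
  R : SecRep (FibCat.fpFst v f) F.obj π.hom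
  open_ : AlgSp.RepWith @IsOpenImmersion w.hom
  claimA : ∀ (z₁ z₂ : (FibCat.fp v f).obj) (ε : z₁.obj.snd ≅ z₂.obj.snd), Vert 𝒳.p ε.hom →
    InW w.hom (R.sec z₂) → InW w.hom (R.sec z₁)
  hX : FibCat.IsFibGrpd 𝒳.p
  hY : FibCat.IsFibGrpd 𝒴.p
  hv : AlgSt.RepByAlgSpWith (LocP @Smooth) v
  hv' : AlgSt.RepByAlgSpWith AlgSp.IsSurjectiveMor v

namespace Dat

variable {f : 𝒳 ⥤ᵇ 𝒴} {V : Over S} {v : FibCat.overCat V ⥤ᵇ 𝒴} {F W : Space S} {π : F ⟶ (ofScheme S).obj V}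
    {w : W ⟶ F} (D : Dat f v F W π w)

/-- The predicate cutting out the largest open substack. -/
def Q₀ (x : 𝒳.obj) : Prop := ∀ (z : (FibCat.fp v f).obj) (_ : z.obj.snd ⟶ x), InW w.hom (D.R.sec z)

theorem Q₀.of_hom {D : Dat f v F W π w} {x y : 𝒳.obj} (φ : y ⟶ x) (h : D.Q₀ x) : D.Q₀ y :=
  fun z m => h z (m ≫ φ)

include D in
theorem isFibGrpd_fp' : FibCat.IsFibGrpd (FibCat.fp v f).p :=
  isFibGrpd_fp (isFibGrpd_overCat V) D.hX D.hY v f

theorem inW_of_hom {z z' : (FibCat.fp v f).obj} (φ : z' ⟶ z) (h : InW w.hom (D.R.sec z)) :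
    InW w.hom (D.R.sec z') := by
  rw [← D.R.map φ]
  exact h.map _

include D in
/-- Lift of a morphism of the base, with its second component. -/
theorem exists_lift {z : (FibCat.fp v f).obj} {T : Over S} (g : T ⟶ (FibCat.fp v f).p.obj z) :
    ∃ (z' : (FibCat.fp v f).obj) (φ : z' ⟶ z), (FibCat.fp v f).p.IsHomLift g φ ∧ 𝒳.p.IsHomLift g φ.hom.snd := by
  obtain ⟨z', φ, hφ⟩ := D.isFibGrpd_fp'.exists_lift g
  exact ⟨z', φ, hφ, BasedFunctor.preserves_isHomLift (FibCat.fpSnd v f) g φ⟩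

theorem snd_isHomLift {z : (FibCat.fp v f).obj} {x : 𝒳.obj} (m : z.obj.snd ⟶ x) :
    𝒳.p.IsHomLift (eqToHom (fp_snd_eq z).symm ≫ 𝒳.p.map m) m := by
  refine IsHomLift.of_fac' _ _ _ (fp_snd_eq z) rfl ?_
  simp

theorem claimA' (z₁ z₂ : (FibCat.fp v f).obj) (ε : z₁.obj.snd ⟶ z₂.obj.snd) (h : InW w.hom (D.R.sec z₂)) :
    InW w.hom (D.R.sec z₁) := by
  let g : (FibCat.fp v f).p.obj z₁ ⟶ (FibCat.fp v f).p.obj z₂ :=
    eqToHom (fp_snd_eq z₁).symm ≫ 𝒳.p.map ε ≫ eqToHom (fp_snd_eq z₂)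
  have hε : 𝒳.p.IsHomLift g ε := by
    refine IsHomLift.of_fac' _ _ _ (fp_snd_eq z₁) (fp_snd_eq z₂) ?_
    simp [g]
  obtain ⟨z', φ, hφ, hφ'⟩ := D.exists_lift g
  obtain ⟨e, he, -⟩ := K737.Core.exists_iso_of_lifts D.hX g ε φ.hom.snd
  exact D.claimA z₁ z' e (vert_of_isHomLift he) (D.inW_of_hom φ h)

theorem q₀_snd_iff (z : (FibCat.fp v f).obj) : D.Q₀ z.obj.snd ↔ InW w.hom (D.R.sec z) :=
  ⟨fun h => h z (𝟙 _), fun h z' m => D.claimA' z' z m h⟩

include D in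
theorem exists_chart (x : 𝒳.obj) : ∃ (z : (FibCat.fp v f).obj) (a : (FibCat.fp v f).p.obj z ⟶ 𝒳.p.obj x)
    (η : z.obj.snd ⟶ x), Smooth a.left ∧ Surjective a.left ∧ 𝒳.p.IsHomLift a η := by
  obtain ⟨y, e, he⟩ := K737.Core.exists_yo D.hX x rfl
  obtain ⟨A, a, b, ha, ha', ε, hε⟩ := K737.LocLift.exists_lift (BasedFunctor.comp y f) v D.hv D.hv'
  refine ⟨mkFp v f (Over.mk b) (y.obj (Over.mk a)) ε.symm (Vert.iso_inv hε), a,
    K737.Core.toBase y (Over.mk a) ≫ e.hom, ha, ha', ?_⟩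
  have h1 : 𝒳.p.IsHomLift a (K737.Core.toBase y (Over.mk a)) := K737.Core.toBase_isHomLift y (Over.mk a)
  have h2 : 𝒳.p.IsHomLift (a ≫ 𝟙 (𝒳.p.obj x)) (K737.Core.toBase y (Over.mk a) ≫ e.hom) :=
    IsHomLift.comp 𝒳.p a (𝟙 _) _ e.hom
  rw [Category.comp_id] at h2
  exact h2

theorem range_left_of_isHomLift {C : Type w₁} [Category.{v₁} C] {p : C ⥤ Over S} {R : Over S} {a b : C}
    (g : R ⟶ p.obj b) (φ : a ⟶ b) (h : p.IsHomLift g φ) : Set.range (p.map φ).left = Set.range g.left := by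
  have h1 := IsHomLift.fac' p g φ
  obtain rfl := IsHomLift.domain_eq p g φ
  rw [h1]
  simp

theorem hasOpenLocus : K899.OpenCrit.HasOpenLocus D.Q₀ := by
  intro x
  obtain ⟨z, a, η, ha, ha', hη⟩ := D.exists_chart x
  obtain ⟨O, hO⟩ := exists_open D.open_ (D.R.sec z)
  refine ⟨⟨a.left '' O, K735.Top.isOpenMap_of_smooth a.left ha _ O.2⟩, fun y φ => ?_⟩
  constructor
  · rintro h _ ⟨t, rfl⟩
    let g : 𝒳.p.obj y ⟶ 𝒳.p.obj x := 𝒳.p.map φ
    have sq := (IsPullback.of_hasPullback g a).map (Over.forget S)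
    have hs : Surjective (pullback.fst g a).left := MorphismProperty.of_isPullback sq.flip ha'
    obtain ⟨t', rfl⟩ := hs.surj t
    obtain ⟨z', ψ, hψ, hψ'⟩ := D.exists_lift (z := z) (pullback.snd g a)
    have h1 : 𝒳.p.IsHomLift (pullback.fst g a ≫ g) (ψ.hom.snd ≫ η) := by
      rw [pullback.condition]
      exact IsHomLift.comp 𝒳.p _ _ _ _
    obtain ⟨m, hm, -⟩ := K737.Core.exists_fac D.hX g φ (pullback.fst g a) (ψ.hom.snd ≫ η)
    have h2 := h z' m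
    rw [← D.R.map ψ] at h2
    have h3 := (hO _).1 h2
    rw [range_left_of_isHomLift _ ψ hψ] at h3
    refine ⟨(pullback.snd g a).left t', h3 ⟨t', rfl⟩, ?_⟩
    have h4 := congrArg (fun k => k.left t') (pullback.condition (f := g) (g := a))
    exact h4.symm
  · intro h ξ m
    let b : (FibCat.fp v f).p.obj ξ ⟶ 𝒳.p.obj x := (eqToHom (fp_snd_eq ξ).symm ≫ 𝒳.p.map m) ≫ 𝒳.p.map φ
    have hm := snd_isHomLift m
    have hb : 𝒳.p.IsHomLift b (m ≫ φ) := IsHomLift.comp 𝒳.p _ _ _ _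
    let j := K737.Open.opensι ((FibCat.fp v f).p.obj z) O
    let c := j ≫ a
    have sq := (IsPullback.of_hasPullback b c).map (Over.forget S)
    have hs : Surjective (pullback.fst b c).left := by
      refine ⟨fun t => ?_⟩
      have h5 : b.left t ∈ a.left '' (O : Set _) := h ⟨_, rfl⟩
      obtain ⟨o, ho, ho'⟩ := h5
      obtain ⟨t', ht', -⟩ := Scheme.exists_preimage_of_isPullback sq t (⟨o, ho⟩ : O.toScheme) ho'.symm
      exact ⟨t', ht'⟩
    obtain ⟨ξ', ψ, hψ, hψ'⟩ := D.exists_lift (z := ξ) (pullback.fst b c)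
    obtain ⟨ζ', θ, hθ, hθ'⟩ := D.exists_lift (z := z) (pullback.snd b c ≫ j)
    have h1 : 𝒳.p.IsHomLift (pullback.fst b c ≫ b) (ψ.hom.snd ≫ m ≫ φ) := IsHomLift.comp 𝒳.p _ _ _ _
    have h2 : 𝒳.p.IsHomLift (pullback.fst b c ≫ b) (θ.hom.snd ≫ η) := by
      rw [pullback.condition, ← Category.assoc]
      exact IsHomLift.comp 𝒳.p _ _ _ _
    obtain ⟨e, he, -⟩ := K737.Core.exists_iso_of_lifts D.hX (pullback.fst b c ≫ b) (ψ.hom.snd ≫ m ≫ φ) (θ.hom.snd ≫ η)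
    have h3 : InW w.hom (D.R.sec ζ') := by
      rw [← D.R.map θ, hO, range_left_of_isHomLift _ θ hθ]
      rintro _ ⟨t, rfl⟩
      exact ((pullback.snd b c).left t).2
    have h4 := D.claimA ξ' ζ' e (vert_of_isHomLift he) h3
    rw [← D.R.map ψ] at h4
    refine h4.of_surjective D.open_ _ ?_
    refine ⟨Set.range_eq_univ.1 ?_⟩
    rw [range_left_of_isHomLift _ ψ hψ]
    exact Set.range_eq_univ.2 hs.surj

end Dat

end K738.LOpen
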