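import Groth.Agent.AlgSt.K738.Largest3
import Groth.Agent.AlgSp.K596.Mono
import Groth.Agent.AlgSp.K620.Dec

/-!
# The largest open substack: representation of the restriction
-/

set_option autoImplicit false
set_option backward.isDefEq.respectTransparency false
set_option backward.isDefEq.respectTransparency.types false

universe w₁ v₁ w' v' w v u

open CategoryTheory CategoryTheory.Limits AlgebraicGeometry Opposite AlgSp

namespace K738.LOpen

open K738.InOpen K735.Fib K735.Fp

variable {S : Scheme.{u}}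

variable {𝒳 : BasedCategory.{v, w} (Over S)} {𝒴 : BasedCategory.{v', w'} (Over S)} {f : 𝒳 ⥤ᵇ 𝒴} {V : Over S}
  {v : FibCat.overCat V ⥤ᵇ 𝒴} {Q : 𝒳.obj → Prop}

/-- An object of the fibre product over the restriction gives one over `f`. -/
def sharp (z : (FibCat.fp v (BasedFunctor.comp (AlgSt.subIncl 𝒳 Q) f)).obj) : (FibCat.fp v f).obj :=
  ⟨⟨z.obj.fst, z.obj.snd.obj, z.obj.iso⟩, z.property⟩

/-- On morphisms. -/
def sharpHom {z z' : (FibCat.fp v (BasedFunctor.comp (AlgSt.subIncl 𝒳 Q) f)).obj} (m : z ⟶ z') :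
    sharp z ⟶ sharp z' :=
  homFp (F := v) (G := f) (x := sharp z) (y := sharp z') m.hom.fst m.hom.snd.hom m.hom.w

/-- The converse. -/
def flat (z : (FibCat.fp v f).obj) (h : Q z.obj.snd) :
    (FibCat.fp v (BasedFunctor.comp (AlgSt.subIncl 𝒳 Q) f)).obj :=
  ⟨⟨z.obj.fst, ⟨z.obj.snd, h⟩, z.obj.iso⟩, z.property⟩

theorem sharp_flat (z : (FibCat.fp v f).obj) (h : Q z.obj.snd) : sharp (flat z h) = z := rfl

/-- On morphisms. -/
def flatHom {z z' : (FibCat.fp v (BasedFunctor.comp (AlgSt.subIncl 𝒳 Q) f)).obj} (m : sharp z ⟶ sharp z') : z ⟶ z' :=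
  homFp (F := v) (G := BasedFunctor.comp (AlgSt.subIncl 𝒳 Q) f) (x := z) (y := z') m.hom.fst ⟨m.hom.snd⟩ m.hom.w

/-- The restriction of an elementwise representation to an open. -/
theorem nonempty_secRep_restr {F W : Sp S} {π : F ⟶ (yon S).obj V} {w : W ⟶ F} (hw : Mono w)
    (R : SecRep (FibCat.fpFst v f) F π) (h : ∀ z : (FibCat.fp v f).obj, Q z.obj.snd ↔ InW w (R.sec z)) :
    Nonempty (SecRep (FibCat.fpFst v (BasedFunctor.comp (AlgSt.subIncl 𝒳 Q) f)) W (w ≫ π)) := by
  have hinj : ∀ {T : Over S} {s s' : W.obj.obj (op T)}, w.hom.app _ s = w.hom.app _ s' → s = s' :=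
    fun {T s s'} h => K620.Dec.injective_app_of_mono w hw T h
  have hz : ∀ z : (FibCat.fp v (BasedFunctor.comp (AlgSt.subIncl 𝒳 Q) f)).obj, InW w (R.sec (sharp z)) := fun z =>
    (h (sharp z)).1 z.obj.snd.property
  choose sec hsec using hz
  refine ⟨{
    sec := sec
    map := fun {z z'} m => ?_
    full := fun {z z'} g hg => ?_
    faithful := fun {z z'} m m' hm => ?_
    surj := fun {T} s => ?_
    proj := fun z => ?_ }⟩
  · apply hinj
    have h1 := NatTrans.naturality_apply w.hom ((FibCat.fp v f).p.map (sharpHom m)).op (sec z')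
    refine h1.trans ?_
    have h2 : F.obj.map ((FibCat.fp v f).p.map (sharpHom m)).op (w.hom.app _ (sec z')) =
      F.obj.map ((FibCat.fp v f).p.map (sharpHom m)).op (R.sec (sharp z')) := congrArg _ (hsec z')
    exact h2.trans ((R.map (sharpHom m)).trans (hsec z).symm)
  · obtain ⟨m, hm⟩ := R.full (z := sharp z) (z' := sharp z') g (by
      have h1 := NatTrans.naturality_apply w.hom g.op (sec z')
      have h2 : F.obj.map g.op (w.hom.app _ (sec z')) = F.obj.map g.op (R.sec (sharp z')) := congrArg _ (hsec z')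
      exact h2.symm.trans (h1.symm.trans ((congrArg (fun t => w.hom.app _ t) hg).trans (hsec z))))
    exact ⟨flatHom m, hm⟩
  · have h1 := R.faithful (sharpHom m) (sharpHom m') hm
    apply ObjectProperty.hom_ext
    apply CategoricalPullback.hom_ext
    · exact congrArg (fun t => t.hom.fst) h1
    · apply ObjectProperty.hom_ext
      exact congrArg (fun t => t.hom.snd) h1
  · obtain ⟨z, hT, hs⟩ := R.surj (w.hom.app _ s)
    subst hT
    have e : F.obj.map (eqToHom (rfl : (FibCat.fp v f).p.obj z = (FibCat.fp v f).p.obj z)).op (R.sec z) =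
      R.sec z := by simp
    rw [e] at hs
    have hq : Q z.obj.snd := (h z).2 ⟨s, hs.symm⟩
    refine ⟨flat z hq, rfl, ?_⟩
    have e' : W.obj.map (eqToHom (rfl : (FibCat.fp v f).p.obj z = (FibCat.fp v f).p.obj z)).op (sec (flat z hq)) =
      sec (flat z hq) := by simp
    refine e'.trans (hinj ?_)
    exact (hsec (flat z hq)).trans hs
  · change π.hom.app _ (w.hom.app _ (sec z)) = _
    rw [hsec z]
    exact R.proj (sharp z)

end K738.LOpen
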