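import Groth.Agent.AlgSt.K738.Largest4
import Groth.Agent.AlgSt.K738.LftDiag
import Groth.Agent.AlgSt.K734.RepSp2

/-!
# A property of a representable 1-morphism may be checked over a smooth surjective chart
-/

set_option autoImplicit false
set_option backward.isDefEq.respectTransparency false
set_option backward.isDefEq.respectTransparency.types false

universe w₁ v₁ w' v' w v u

open CategoryTheory CategoryTheory.Limits AlgebraicGeometry Opposite AlgSp

namespace K738.LOpen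

open K738.InOpen K735.Fib K735.Fp

variable {S : Scheme.{u}} {𝒵 : BasedCategory.{v₁, w₁} (Over S)} {𝒴 : BasedCategory.{v', w'} (Over S)}

theorem repByAlgSpWith_of_chart {P : MorphismProperty (Sp S)} (hPb : K734.Rep.StableBC P)
    (hP : IsLocalOnBase IsFppfCover P) (hY : FibCat.IsFibGrpd 𝒴.p) {g : 𝒵 ⥤ᵇ 𝒴} (hg : AlgSt.RepByAlgSp1 g)
    {V : Over S} (v : FibCat.overCat V ⥤ᵇ 𝒴) (hv : AlgSt.RepByAlgSpWith (LocP @Smooth) v)
    (hv' : AlgSt.RepByAlgSpWith AlgSp.IsSurjectiveMor v) {F : Sp S} (hF : IsAlgSpace F)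
    {π : F ⟶ (yon S).obj V} (R : SecRep (FibCat.fpFst v g) F π) (hπ : P π) : AlgSt.RepByAlgSpWith P g := by
  intro U y
  obtain ⟨F₁, e₁, he₁⟩ := hg U y
  refine ⟨F₁, e₁, he₁, ?_⟩
  obtain ⟨R₁⟩ := SecRep.nonempty_of_equiv (FibCat.fpFst y g) e₁ he₁
  set π₁ := AlgSt.spMapOfOver (BasedFunctor.comp e₁ (FibCat.fpFst y g)) with hπ₁
  obtain ⟨B, a, b, ha, ha', ε, hε⟩ := K737.LocLift.exists_lift y v hv hv'
  obtain ⟨α⟩ := Lft.exists_iso_of_vert hY y v a b ε hε
  have sq₁ := IsPullback.of_hasPullback π₁ ((yon S).map a)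
  have sq₂ := IsPullback.of_hasPullback π ((yon S).map b)
  obtain ⟨R₁', -⟩ := SecRep.nonempty_bc (Iso.refl (BasedFunctor.comp (AlgSt.overMap a) y)) R₁ sq₁
  obtain ⟨R₂', -⟩ := SecRep.nonempty_bc α R sq₂
  have hU := AlgSp.IsAlgSpace.yon_obj U
  have hB := AlgSp.IsAlgSpace.yon_obj B
  have hV := AlgSp.IsAlgSpace.yon_obj V
  have hF1 : IsAlgSpace (pullback π₁ ((yon S).map a)) := K613.Chart.isAlgSpace_pullback F₁.property hB hU _ _
  have hF2 : IsAlgSpace (pullback π ((yon S).map b)) := K613.Chart.isAlgSpace_pullback hF hB hV _ _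
  have h2 : P (pullback.snd π ((yon S).map b)) := hPb hF hV hF2 hB _ _ _ _ sq₂ hπ
  have hri := hPb.respectsIso
  have h3 := (SecRep.prop_iff R₁' R₂' (K734.Rep.algP P)).2 ⟨hF2, hB, h2⟩
  exact (hP (fun _ : PUnit.{u + 1} => (yon S).obj B) (fun _ => (yon S).map a) hU (fun _ => hB)
    (K734.Rep.isFppfCover_family (fun _ => B) (fun _ => a)
      (fun _ => ⟨inferInstanceAs (Flat a.left), inferInstanceAs (LocallyOfFinitePresentation a.left)⟩)
      (fun v => ⟨PUnit.unit, ha'.surj v⟩)) π₁ F₁.property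
    (fun _ => pullback π₁ ((yon S).map a)) (fun _ => pullback.snd π₁ ((yon S).map a))
    (fun _ => pullback.fst π₁ ((yon S).map a)) (fun _ => hF1) (fun _ => sq₁)).2 (fun _ => h3.2.2)

end K738.LOpen
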