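import Groth.Agent.AlgSt.K738.Largest5

/-!
# The open subspace of an open substack, and maximality
-/

set_option autoImplicit false
set_option backward.isDefEq.respectTransparency false
set_option backward.isDefEq.respectTransparency.types false

universe w₁ v₁ w' v' w v u

open CategoryTheory CategoryTheory.Limits AlgebraicGeometry Opposite AlgSp

namespace K738

variable {S : Scheme.{u}}

/-- A compatible family of sections indexed by the objects of a represented category is a map of sheaves. -/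
theorem SecRep.exists_descTo {𝒵 : BasedCategory.{v, w} (Over S)} {U : Over S} {q : 𝒵 ⥤ᵇ FibCat.overCat U}
    {F : Sp S} {π : F ⟶ (yon S).obj U} (R : SecRep q F π) {F' : Sp S}
    (σ : ∀ z : 𝒵.obj, F'.obj.obj (op (𝒵.p.obj z)))
    (hσ : ∀ {z z' : 𝒵.obj} (m : z ⟶ z'), F'.obj.map (𝒵.p.map m).op (σ z') = σ z) :
    ∃ k : F ⟶ F', ∀ z, k.hom.app _ (R.sec z) = σ z := by
  have hz : ∀ {T : Over S} (s : F.obj.obj (op T)), ∃ s' : F'.obj.obj (op T),
      ∀ (z : 𝒵.obj) (g : T ⟶ 𝒵.p.obj z), F.obj.map g.op (R.sec z) = s → s' = F'.obj.map g.op (σ z) := by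
    intro T s
    obtain ⟨z₀, hT, hs⟩ := R.surj s
    subst hT
    have e : F.obj.map (eqToHom (rfl : 𝒵.p.obj z₀ = 𝒵.p.obj z₀)).op (R.sec z₀) = R.sec z₀ := by simp
    rw [e] at hs
    subst hs
    refine ⟨σ z₀, fun z g hg => ?_⟩
    obtain ⟨m, rfl⟩ := R.full g hg
    exact (hσ m).symm
  choose k hk using @hz
  have hk' : ∀ {T T' : Over S} (g : T' ⟶ T) (s : F.obj.obj (op T)),
      k (F.obj.map g.op s) = F'.obj.map g.op (k s) := by
    intro T T' g s
    obtain ⟨z₀, hT, hs⟩ := R.surj s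
    subst hT
    have e : F.obj.map (eqToHom (rfl : 𝒵.p.obj z₀ = 𝒵.p.obj z₀)).op (R.sec z₀) = R.sec z₀ := by simp
    rw [e] at hs
    have h1 := hk (F.obj.map g.op s) z₀ g (by rw [hs])
    have h2 := hk s z₀ (𝟙 _) (by rw [op_id, CategoryTheory.Functor.map_id]; exact hs)
    rw [h1, h2, op_id, CategoryTheory.Functor.map_id]
    rfl
  refine ⟨ObjectProperty.homMk
    { app := fun T => ↾fun s => k (T := T.unop) s
      naturality := fun T T' g => by
        ext s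
        exact hk' g.unop s }, fun z => ?_⟩
  have h2 := hk (R.sec z) z (𝟙 _) (by rw [op_id, CategoryTheory.Functor.map_id]; rfl)
  rw [op_id, CategoryTheory.Functor.map_id] at h2
  exact h2

end K738

namespace K738.LOpen

open K738.InOpen K735.Fib K735.Fp

variable {S : Scheme.{u}}

/-- A monomorphism whose image is an open condition is an open immersion. -/
theorem repWith_of_open {F W : Sp S} {w : W ⟶ F}
    (hw : ∀ {T : Over S} {s s' : W.obj.obj (op T)}, w.hom.app _ s = w.hom.app _ s' → s = s')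
    (h : ∀ {T : Over S} (s : F.obj.obj (op T)), ∃ O : T.left.Opens, ∀ ⦃T' : Over S⦄ (g : T' ⟶ T),
      InW w (F.obj.map g.op s) ↔ Set.range g.left ⊆ (O : Set T.left)) : RepWith @IsOpenImmersion w := by
  apply K594.Elem.repWith_of_exists
  intro U y
  obtain ⟨O, hO⟩ := h y
  have hi : IsOpenImmersion (K737.Open.opensι U O).left := inferInstanceAs (IsOpenImmersion O.ι)
  obtain ⟨ξ, hξ⟩ := (hO (K737.Open.opensι U O)).2 (by
    rintro _ ⟨t, rfl⟩
    exact t.2)
  refine ⟨_, K737.Open.opensι U O, ξ, ⟨hξ, fun {T} a b hab _ => ?_, fun {T} t x hx => ?_⟩, hi⟩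
  · apply Over.OverMorphism.ext
    rw [← cancel_mono (K737.Open.opensι U O).left, ← Over.comp_left, hab, Over.comp_left]
  · obtain ⟨k, hk⟩ := (K737.Open.exists_fac_opensι_iff O (Over.mk t)).2 ((hO t).1 ⟨x, hx⟩)
    refine ⟨k, hk, hw ?_⟩
    have h1 := NatTrans.naturality_apply w.hom k.op ξ
    refine h1.trans ((congrArg _ hξ).trans (Eq.trans ?_ hx.symm))
    rw [← Functor.map_comp_apply, ← op_comp]
    exact congrArg (fun r => F.obj.map r.op y) hk

variable {𝒳 : BasedCategory.{v, w} (Over S)} {𝒴 : BasedCategory.{v', w'} (Over S)} {f : 𝒳 ⥤ᵇ 𝒴} {V : Over S}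
  {v : FibCat.overCat V ⥤ᵇ 𝒴} {Q : 𝒳.obj → Prop}

theorem exists_sub (hQ : ∀ ⦃x z : 𝒳.obj⦄, (z ⟶ x) → Q x → Q z) {F W₁ : Sp S} {π : F ⟶ (yon S).obj V}
    {π₁ : W₁ ⟶ (yon S).obj V} (R : SecRep (FibCat.fpFst v f) F π)
    (R₁ : SecRep (FibCat.fpFst v (BasedFunctor.comp (AlgSt.subIncl 𝒳 Q) f)) W₁ π₁) :
    ∃ w₁ : W₁ ⟶ F, w₁ ≫ π = π₁ ∧
      (∀ {T : Over S} {s s' : W₁.obj.obj (op T)}, w₁.hom.app _ s = w₁.hom.app _ s' → s = s') ∧
      ∀ z : (FibCat.fp v f).obj, InW w₁ (R.sec z) ↔ Q z.obj.snd := by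
  obtain ⟨w₁, hw₁⟩ := R₁.exists_descTo (F' := F) (fun z => R.sec (sharp z)) (fun {z z'} m => R.map (sharpHom m))
  have e₁ : ∀ z : (FibCat.fp v (BasedFunctor.comp (AlgSt.subIncl 𝒳 Q) f)).obj, W₁.obj.map
      (eqToHom (rfl : (FibCat.fp v (BasedFunctor.comp (AlgSt.subIncl 𝒳 Q) f)).p.obj z =
        (FibCat.fp v (BasedFunctor.comp (AlgSt.subIncl 𝒳 Q) f)).p.obj z)).op (R₁.sec z) = R₁.sec z := by
    intro z
    simp
  refine ⟨w₁, ?_, ?_, fun z => ⟨?_, fun h => ?_⟩⟩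
  · apply K594.Elem.hom_ext
    intro T s
    obtain ⟨z, hT, hs⟩ := R₁.surj s
    subst hT
    rw [e₁] at hs
    subst hs
    change π.hom.app _ (w₁.hom.app _ (R₁.sec z)) = _
    rw [hw₁ z]
    exact (R.proj (sharp z)).trans (R₁.proj z).symm
  · intro T s s' h
    obtain ⟨z, hT, hs⟩ := R₁.surj s
    subst hT
    rw [e₁] at hs
    subst hs
    obtain ⟨z', hT', hs'⟩ := R₁.surj s'
    subst hs'
    have h1 := NatTrans.naturality_apply w₁.hom (eqToHom hT').op (R₁.sec z')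
    have h2 := (hw₁ z).symm.trans (h.trans (h1.trans (congrArg _ (hw₁ z'))))
    obtain ⟨m, hm⟩ := R.full (z := sharp z) (z' := sharp z') (eqToHom hT') h2.symm
    have h3 := R₁.map (flatHom m)
    have h4 : (FibCat.fp v (BasedFunctor.comp (AlgSt.subIncl 𝒳 Q) f)).p.map (flatHom m) = eqToHom hT' := hm
    rw [h4] at h3
    exact h3.symm
  · rintro ⟨s, hs⟩
    obtain ⟨z₁, hT, hs₁⟩ := R₁.surj s
    subst hs₁
    have h1 := NatTrans.naturality_apply w₁.hom (eqToHom hT).op (R₁.sec z₁)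
    have h2 := hs.symm.trans (h1.trans (congrArg _ (hw₁ z₁)))
    obtain ⟨m, -⟩ := R.full (z := z) (z' := sharp z₁) (eqToHom hT) h2.symm
    exact hQ m.hom.snd z₁.obj.snd.property
  · exact ⟨R₁.sec (flat z h), hw₁ (flat z h)⟩

theorem range_conj_iff {A B C D : Over S} (e : A = B) (g : B ⟶ C) (e' : C = D) (O : D.left.Opens) :
    Set.range (eqToHom e ≫ g ≫ eqToHom e').left ⊆ (O : Set D.left) ↔
      Set.range g.left ⊆ (((eqToHom e').left ⁻¹ᵁ O : C.left.Opens) : Set C.left) := by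
  subst e e'
  simp

/-- The locus in the representing sheaf of an open condition. -/
theorem repWith_of_hasOpenLocus (h𝒵 : FibCat.IsFibGrpd (FibCat.fp v f).p) (hQ : K899.OpenCrit.HasOpenLocus Q)
    {F W₁ : Sp S} {π : F ⟶ (yon S).obj V} (R : SecRep (FibCat.fpFst v f) F π) {w₁ : W₁ ⟶ F}
    (hw : ∀ {T : Over S} {s s' : W₁.obj.obj (op T)}, w₁.hom.app _ s = w₁.hom.app _ s' → s = s')
    (h : ∀ z : (FibCat.fp v f).obj, InW w₁ (R.sec z) ↔ Q z.obj.snd) : RepWith @IsOpenImmersion w₁ := by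
  refine repWith_of_open hw (fun {T} s => ?_)
  obtain ⟨z, hT, hs⟩ := R.surj s
  subst hT
  have e : F.obj.map (eqToHom (rfl : (FibCat.fp v f).p.obj z = (FibCat.fp v f).p.obj z)).op (R.sec z) =
      R.sec z := by simp
  rw [e] at hs
  subst hs
  obtain ⟨O, hO⟩ := hQ z.obj.snd
  refine ⟨(eqToHom (fp_snd_eq z).symm).left ⁻¹ᵁ O, fun T' g => ?_⟩
  obtain ⟨z', φ, hφ⟩ := h𝒵.exists_lift g
  obtain rfl := IsHomLift.domain_eq (FibCat.fp v f).p g φ
  have h1 : g = (FibCat.fp v f).p.map φ := by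
    have := IsHomLift.fac (FibCat.fp v f).p g φ
    simpa using this
  subst h1
  rw [R.map φ, h z', hO _ φ.hom.snd, fp_map_snd φ]
  exact range_conj_iff (fp_snd_eq z') ((FibCat.fp v f).p.map φ) (fp_snd_eq z).symm O

end K738.LOpen
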