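import Groth.Agent.AlgSt.K738.Largest6
import Groth.Agent.AlgSt.K734.FpAlg
import Groth.Agent.AlgSt.K743.FpChart

/-!
# Base change of the largest open substack
-/

set_option autoImplicit false
set_option backward.isDefEq.respectTransparency false
set_option backward.isDefEq.respectTransparency.types false

universe w₂ v₂ w₁ v₁ w' v' w v u

open CategoryTheory CategoryTheory.Limits AlgebraicGeometry Opposite AlgSp

namespace K738

variable {S : Scheme.{u}}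

/-- Precomposition of an elementwise representation with an equivalence. -/
theorem SecRep.exists_precomp {𝒵 : BasedCategory.{v, w} (Over S)} {𝒵' : BasedCategory.{v', w'} (Over S)}
    {U : Over S} {q : 𝒵 ⥤ᵇ FibCat.overCat U} {F : Sp S} {π : F ⟶ (yon S).obj U} (R : SecRep q F π)
    (E : 𝒵' ⥤ᵇ 𝒵) (hE : FibCat.IsEquivOver E) :
    ∃ R' : SecRep (BasedFunctor.comp E q) F π,
      ∀ z, R'.sec z = F.obj.map (eqToHom (E.w_obj z).symm).op (R.sec (E.obj z)) := by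
  have hfull := Equiv.full_of hE
  have hfaith := Equiv.faithful_of hE
  refine ⟨{
    sec := fun z => F.obj.map (eqToHom (E.w_obj z).symm).op (R.sec (E.obj z))
    map := fun {z z'} m => ?_
    full := fun {z z'} g hg => ?_
    faithful := fun {z z'} m m' h => ?_
    surj := fun {T} s => ?_
    proj := fun z => ?_ }, fun z => rfl⟩
  · have h1 := R.map (E.map m)
    have h2 := K735.Fib.map_map E m
    rw [← h1, h2, ← Functor.map_comp_apply, ← Functor.map_comp_apply, ← op_comp, ← op_comp]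
    simp
  · obtain ⟨n, hn⟩ := R.full (z := E.obj z) (z' := E.obj z') (eqToHom (E.w_obj z) ≫ g ≫ eqToHom (E.w_obj z').symm) (by
      rw [op_comp, op_comp, Functor.map_comp_apply, Functor.map_comp_apply, hg, ← Functor.map_comp_apply,
        ← op_comp, eqToHom_trans]
      simp)
    obtain ⟨m, rfl⟩ := E.toFunctor.map_surjective n
    refine ⟨m, ?_⟩
    have h2 := K735.Fib.map_map E m
    exact eqToHom_conj_inj (E.w_obj z) (E.w_obj z').symm (h2.symm.trans hn)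
  · apply E.toFunctor.map_injective
    apply R.faithful
    change 𝒵.p.map (E.map m) = 𝒵.p.map (E.map m')
    rw [K735.Fib.map_map, K735.Fib.map_map, h]
  · obtain ⟨z₀, hT, hs⟩ := R.surj s
    obtain ⟨z', e, he⟩ := Equiv.surj_of hE z₀
    have h1 := R.map e.hom
    have h0 : 𝒵.p.obj (E.obj z') = 𝒵.p.obj z₀ := IsHomLift.domain_eq 𝒵.p (𝟙 _) e.hom
    have h2 : 𝒵.p.map e.hom = eqToHom h0 := Equiv.map_eq_eqToHom _ he h0
    refine ⟨z', hT.trans (h0.symm.trans (E.w_obj z')), ?_⟩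
    rw [← h1, h2, ← hs, ← Functor.map_comp_apply, ← Functor.map_comp_apply, ← op_comp, ← op_comp, eqToHom_trans,
      eqToHom_trans]
  · have h1 := NatTrans.naturality_apply π.hom (eqToHom (E.w_obj z).symm).op (R.sec (E.obj z))
    refine h1.trans ?_
    rw [R.proj (E.obj z), str_comp_functor]
    rfl

namespace LOpen

open K738.InOpen K735.Fib K735.Fp

/-- The hypotheses of the rows on largest open substacks. -/
structure Setup (P Q R : MorphismProperty (Sp S)) : Prop where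
  hPb : K734.Rep.StableBC P
  hQb : K734.Rep.StableBC Q
  hP : IsLocalOnBase IsFppfCover P
  hsm : ∀ (X Y : Space S) (g : X ⟶ Y), LocP @Smooth g.hom → R g.hom
  ex : ∀ (X Y : Space S) (f : X ⟶ Y), Q f.hom → ∃ (W : Space S) (w : W ⟶ X), Largest P f w
  bc : BC P Q R

section Dat

variable {𝒳 : BasedCategory.{v, w} (Over S)} {𝒴 : BasedCategory.{v', w'} (Over S)}

theorem Setup.exists_dat {P Q R : MorphismProperty (Sp S)} (H : Setup P Q R) (h𝒳 : FibCat.IsFibGrpd 𝒳.p)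
    (h𝒴 : FibCat.IsFibGrpd 𝒴.p) {f : 𝒳 ⥤ᵇ 𝒴} (hf : AlgSt.RepByAlgSpWith Q f) {V : Over S}
    {v : FibCat.overCat V ⥤ᵇ 𝒴} (hv : AlgSt.RepByAlgSpWith (LocP @Smooth) v)
    (hv' : AlgSt.RepByAlgSpWith AlgSp.IsSurjectiveMor v) :
    ∃ (F W : Space S) (π : F ⟶ (ofScheme S).obj V) (w : W ⟶ F) (_ : Dat f v F W π w), Largest P π w ∧ Q π.hom := by
  obtain ⟨F, e, he, hQF⟩ := hf V v
  obtain ⟨R₀⟩ := SecRep.nonempty_of_equiv (FibCat.fpFst v f) e he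
  let π : F ⟶ (AlgSp.ofScheme S).obj V :=
    ObjectProperty.homMk (AlgSt.spMapOfOver (BasedFunctor.comp e (FibCat.fpFst v f)))
  obtain ⟨W, w, hW⟩ := H.ex F _ π hQF
  exact ⟨F, W, π, w, ⟨R₀, hW.1, fun z₁ z₂ ε hε => claimA H.bc H.hsm h𝒳 h𝒴 hv hW hQF R₀ z₁ z₂ ε hε, h𝒳, h𝒴,
    hv, hv'⟩, hW, hQF⟩

variable {f : 𝒳 ⥤ᵇ 𝒴} {V : Over S} {v : FibCat.overCat V ⥤ᵇ 𝒴} {F W : Space S} {π : F ⟶ (ofScheme S).obj V}
    {w : W ⟶ F} (D : Dat f v F W π w)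

theorem Dat.repByAlgSpWith {P Q R : MorphismProperty (Sp S)} (H : Setup P Q R) (hL : Largest P π w)
    (hg : AlgSt.RepByAlgSp1 (BasedFunctor.comp (AlgSt.subIncl 𝒳 D.Q₀) f)) :
    AlgSt.RepByAlgSpWith P (BasedFunctor.comp (AlgSt.subIncl 𝒳 D.Q₀) f) := by
  have hmono : Mono w.hom := K596.Mono.mono_of_repWith (fun _ _ f (_ : IsOpenImmersion f) => inferInstance) hL.1
  obtain ⟨RW⟩ := nonempty_secRep_restr hmono D.R D.q₀_snd_iff
  exact repByAlgSpWith_of_chart H.hPb H.hP D.hY hg v D.hv D.hv' W.property RW hL.2.1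

theorem Dat.max {P : MorphismProperty (Sp S)} (hL : Largest P π w) {Q₁ : 𝒳.obj → Prop}
    (hop₁ : K899.OpenCrit.HasOpenLocus Q₁)
    (hP₁ : AlgSt.RepByAlgSpWith P (BasedFunctor.comp (AlgSt.subIncl 𝒳 Q₁) f)) : ∀ x, Q₁ x → D.Q₀ x := by
  intro x hx z m
  obtain ⟨W₁, e₁, he₁, hPW₁⟩ := hP₁ V v
  obtain ⟨R₁⟩ := SecRep.nonempty_of_equiv _ e₁ he₁
  obtain ⟨w₁, hw₁, hinj, hin⟩ := exists_sub (fun _ _ φ h => hop₁.of_hom φ h) D.R R₁
  have hopen := repWith_of_hasOpenLocus D.isFibGrpd_fp' hop₁ D.R hinj hin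
  obtain ⟨k, hk⟩ := hL.2.2 W₁ (ObjectProperty.homMk w₁) hopen ((congrArg (fun r => P r) hw₁).mpr hPW₁)
  obtain ⟨s, hs⟩ := (hin z).2 (hop₁.of_hom m hx)
  exact ⟨k.hom.hom.app _ s, (congrArg (fun r => r.hom.hom.app _ s) hk).trans hs⟩

/-- Descent of the predicate along a surjective morphism of the base. -/
theorem Dat.q₀_of_surjective {x y : 𝒳.obj} (φ : y ⟶ x) (hφ : Surjective (𝒳.p.map φ).left) (h : D.Q₀ y) :
    D.Q₀ x := by
  obtain ⟨O, hO⟩ := D.hasOpenLocus x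
  have h1 := (hO y φ).1 h
  refine (hO x (𝟙 x)).2 ?_
  rintro t -
  obtain ⟨t', rfl⟩ := hφ.surj t
  exact h1 ⟨t', rfl⟩

end Dat

section Compare

variable {P Q R₀ : MorphismProperty (Sp S)}

/-- Two representations of the same category have the same largest open subspace. -/
theorem inW_compare {𝒵 : BasedCategory.{v₁, w₁} (Over S)} {B : Over S} {q : 𝒵 ⥤ᵇ FibCat.overCat B}
    {G₁ G₂ W₁ W₂ : Space S} {ρ₁ : G₁ ⟶ (ofScheme S).obj B} {ρ₂ : G₂ ⟶ (ofScheme S).obj B}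
    (R₁ : SecRep q G₁.obj ρ₁.hom) (R₂ : SecRep q G₂.obj ρ₂.hom) {ω₁ : W₁ ⟶ G₁} {ω₂ : W₂ ⟶ G₂}
    (h₁ : Largest P ρ₁ ω₁) (h₂ : Largest P ρ₂ ω₂) (z : 𝒵.obj) (h : InW ω₁.hom (R₁.sec z)) :
    InW ω₂.hom (R₂.sec z) := by
  let i : G₁ ⟶ G₂ := ObjectProperty.homMk (SecRep.trHom R₁ R₂)
  have hi : i ≫ ρ₂ = ρ₁ := by
    apply ObjectProperty.hom_ext
    exact SecRep.trHom_proj R₁ R₂
  have hi' : IsIso i.hom := inferInstanceAs (IsIso (SecRep.trIso R₁ R₂).hom)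
  obtain ⟨k, hk⟩ := h₂.2.2 _ (ω₁ ≫ i) (by
      exact (MorphismProperty.cancel_right_of_respectsIso (AlgSp.RepWith @IsOpenImmersion) _ i.hom).2 h₁.1) (by
      rw [Category.assoc, hi]
      exact h₁.2.1)
  obtain ⟨t, ht⟩ := h
  refine ⟨k.hom.hom.app _ t, ?_⟩
  have h3 := congrArg (fun m => m.hom.hom.app _ t) hk
  refine h3.trans ?_
  change (SecRep.trHom R₁ R₂).hom.app _ (ω₁.hom.hom.app _ t) = _
  rw [ht]
  exact SecRep.tr_sec R₁ R₂ z

theorem inW_pull_iff {F G W W' : Sp S} {w : W ⟶ F} {k : G ⟶ F} {w' : W' ⟶ G} {k' : W' ⟶ W}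
    (sq : IsPullback k' w' w k) {T : Over S} (s : G.obj.obj (op T)) : InW w' s ↔ InW w (k.hom.app _ s) := by
  constructor
  · rintro ⟨t, rfl⟩
    refine ⟨k'.hom.app _ t, ?_⟩
    exact congrArg (fun m => m.hom.app _ t) sq.w
  · rintro ⟨t, ht⟩
    obtain ⟨t', -, h2⟩ := K740.RepBC.exists_sec sq t s ht
    exact ⟨t', h2⟩

/-- The largest open subspace after two base changes. -/
theorem Setup.largest_two (H : Setup P Q R₀) {F X₀ W T B F' W' : Space S} {π : F ⟶ X₀} {w : W ⟶ F}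
    (hL : Largest P π w) (hQ : Q π.hom) {τ : T ⟶ X₀} {b : B ⟶ T} (hτ : R₀ τ.hom) (hb : R₀ b.hom) {k : F' ⟶ F}
    {π' : F' ⟶ B} (sq : IsPullback k.hom π'.hom π.hom (b ≫ τ).hom) {k' : W' ⟶ W} {w' : W' ⟶ F'}
    (sq' : IsPullback k'.hom w'.hom w.hom k.hom) : Largest P π' w' := by
  have sq₁ := isPullback_pb π τ
  have sqW₁ := isPullback_pb w (pbFst π τ)
  have hL₁ := H.bc _ _ _ _ π τ _ _ sq₁ hQ hτ W w hL _ _ _ sqW₁
  have hQ₁ : Q (pbSnd π τ).hom := H.hQb F.property X₀.property (pb π τ).property T.property _ _ _ _ sq₁ hQ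
  let l : F' ⟶ pb π τ := ObjectProperty.homMk (sq₁.lift k.hom (π'.hom ≫ b.hom) (by
    rw [Category.assoc]
    exact sq.w))
  have hl1 : l.hom ≫ (pbFst π τ).hom = k.hom := sq₁.lift_fst _ _ _
  have hl2 : l.hom ≫ (pbSnd π τ).hom = π'.hom ≫ b.hom := sq₁.lift_snd _ _ _
  have sq₂ : IsPullback l.hom π'.hom (pbSnd π τ).hom b.hom := by
    refine IsPullback.of_right (h₁₂ := (pbFst π τ).hom) (h₂₂ := τ.hom) ?_ hl2 sq₁
    rw [hl1]
    exact sq
  let l' : W' ⟶ pb w (pbFst π τ) := ObjectProperty.homMk (sqW₁.lift k'.hom (w'.hom ≫ l.hom) (by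
    rw [Category.assoc, hl1]
    exact sq'.w))
  have hl'1 : l'.hom ≫ (pbFst w (pbFst π τ)).hom = k'.hom := sqW₁.lift_fst _ _ _
  have hl'2 : l'.hom ≫ (pbSnd w (pbFst π τ)).hom = w'.hom ≫ l.hom := sqW₁.lift_snd _ _ _
  have sq₃ : IsPullback l'.hom w'.hom (pbSnd w (pbFst π τ)).hom l.hom := by
    refine IsPullback.of_right (h₁₂ := (pbFst w (pbFst π τ)).hom) (h₂₂ := (pbFst π τ).hom) ?_ hl'2 sqW₁
    rw [hl'1, hl1]
    exact sq'
  exact H.bc _ _ _ _ (pbSnd π τ) b π' l sq₂ hQ₁ hb _ _ hL₁ _ _ l' sq₃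

end Compare

section Common

variable {𝒴 : BasedCategory.{v', w'} (Over S)} {𝒵 : BasedCategory.{v₁, w₁} (Over S)}

/-- A common chart of `V` and of a chart of `𝒵` over `𝒵 ⟶ 𝒴`, smooth over the fibre product. -/
theorem exists_common {R₀ : MorphismProperty (Sp S)} (h𝒵 : FibCat.IsFibGrpd 𝒵.p) (h𝒴 : FibCat.IsFibGrpd 𝒴.p)
    {z : 𝒵 ⥤ᵇ 𝒴} (hz : AlgSt.RepByAlgSpWith R₀ z) {V V' : Over S} {v : FibCat.overCat V ⥤ᵇ 𝒴}
    {v' : FibCat.overCat V' ⥤ᵇ 𝒵} (hv : AlgSt.RepByAlgSpWith (LocP @Smooth) v)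
    (hvs : AlgSt.RepByAlgSpWith AlgSp.IsSurjectiveMor v) (hv' : AlgSt.RepByAlgSpWith (LocP @Smooth) v') :
    ∃ (T : Space S) (τ : T ⟶ (ofScheme S).obj V) (B : Over S) (b : (ofScheme S).obj B ⟶ T) (β : B ⟶ V)
      (b₂ : B ⟶ V'), R₀ τ.hom ∧ LocP @Smooth b.hom ∧ LocP @Smooth ((yon S).map b₂) ∧ Surjective b₂.left ∧
      (yon S).map β = b.hom ≫ τ.hom ∧
      Nonempty (BasedFunctor.comp (BasedFunctor.comp (AlgSt.overMap b₂) v') z ≅
        BasedFunctor.comp (AlgSt.overMap β) v) := by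
  obtain ⟨T, e₁, he₁, hτ⟩ := hz V v
  let τ : T ⟶ (ofScheme S).obj V :=
    ObjectProperty.homMk (AlgSt.spMapOfOver (BasedFunctor.comp e₁ (FibCat.fpFst v z)))
  obtain ⟨B₁, p₁, hp₁, hp₁s⟩ := T.property.atlas
  obtain ⟨β₁, hβ₁, ⟨i₁⟩⟩ := K743.Chart.exists_overMap_of_sp p₁ (BasedFunctor.comp e₁ (FibCat.fpFst v z))
  let y₁ : AlgSt.ofSp T.obj ⥤ᵇ 𝒵 := BasedFunctor.comp e₁ (FibCat.fpSnd v z)
  have hy₁ : AlgSt.RepByAlgSpWith (LocP @Smooth) y₁ :=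
    (K734.Rep.repByAlgSpWith_precomp_iff he₁ _).2 (K734.Rep.repByAlgSpWith_fpSnd _ v z hv)
  have hy₁s : AlgSt.RepByAlgSpWith AlgSp.IsSurjectiveMor y₁ :=
    (K734.Rep.repByAlgSpWith_precomp_iff he₁ _).2 (K734.Rep.repByAlgSpWith_fpSnd _ v z hvs)
  let c₁ : FibCat.overCat B₁ ⥤ᵇ 𝒵 :=
    BasedFunctor.comp (AlgSt.ofOverCat B₁) (BasedFunctor.comp (AlgSt.ofSpMap p₁) y₁)
  have hc₁ : AlgSt.RepByAlgSpWith (LocP @Smooth) c₁ :=
    K743.FpChart.locP_chart_comp K597.etLoc_smooth (fun _ _ f (_ : Etale f) => inferInstance) T.property p₁ hp₁ y₁ hy₁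
  have hc₁s : AlgSt.RepByAlgSpWith AlgSp.IsSurjectiveMor c₁ := by
    refine (K734.Rep.repByAlgSpWith_precomp_iff (K735.Rep.isEquivOver_ofOverCat B₁) _).2 ?_
    refine K734.Rep.nice_surj.repByAlgSpWith_comp (K735.Rep.isFibGrpd_ofSp _) (K735.Rep.isFibGrpd_ofSp _) ?_ hy₁s
    exact K734.Rep.nice_surj.repByAlgSpWith_ofSpMap (AlgSp.IsAlgSpace.yon_obj B₁) T.property
      (K609.Points.surjective_map_of_repWith_surjective hp₁s)
  obtain ⟨F₂, e₂, he₂, hF₂⟩ := hv' B₁ c₁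
  obtain ⟨B, p, hp, hps⟩ := F₂.property.atlas
  obtain ⟨b₁, hb₁, ⟨j₁⟩⟩ := K743.Chart.exists_overMap_of_sp p (BasedFunctor.comp e₂ (FibCat.fpFst c₁ v'))
  obtain ⟨b₂, hb₂, ⟨j₂⟩⟩ := K743.Chart.exists_overMap_of_sp p (BasedFunctor.comp e₂ (FibCat.fpSnd c₁ v'))
  have hsnd : ∀ {P : MorphismProperty (Sp S)} [P.RespectsIso], AlgSt.RepByAlgSpWith P c₁ →
      P (AlgSt.spMapOfOver (BasedFunctor.comp e₂ (FibCat.fpSnd c₁ v'))) := by
    intro P _ hc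
    have h1 : K735.Rep.RepOver P (FibCat.fpFst v' c₁) := hc V' v'
    have h2 : K735.Rep.RepOver P (FibCat.fpSnd c₁ v') :=
      h1.of_equiv (fpSwap v' c₁) (isEquivOver_fpSwap _ _) (Iso.refl _)
    exact (h2.of_rep e₂ he₂).2
  have hρs := hsnd hc₁
  have hρj : AlgSp.IsSurjectiveMor _ := hsnd hc₁s
  let b : (ofScheme S).obj B ⟶ T := ObjectProperty.homMk ((yon S).map b₁ ≫ p₁)
  refine ⟨T, τ, B, b, b₁ ≫ β₁, b₂, hτ, ?_, ?_, ?_, ?_, ?_⟩
  · change LocP @Smooth ((yon S).map b₁ ≫ p₁)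
    rw [hb₁, Category.assoc]
    refine K597.locP_precomp hp ?_
    exact K597.locP_comp K597.etLoc_smooth F₂.property.hasAtlas (AlgSp.IsAlgSpace.yon_obj B₁).hasAtlas
      T.property.hasAtlas hF₂
      (K597.locP_mono (P := @Etale) (Q := @Smooth) (fun _ _ f hf => by
        have : Etale f := hf
        exact (inferInstance : Smooth f)) (K597.locP_of_repWith K597.etLoc_etale.precomp hp₁))
  · rw [hb₂]
    exact K597.locP_precomp hp hρs
  · exact K737.LocLift.surjective_left hρj hps hb₂.symm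
  · change _ = ((yon S).map b₁ ≫ p₁) ≫ AlgSt.spMapOfOver (BasedFunctor.comp e₁ (FibCat.fpFst v z))
    rw [Category.assoc, ← hβ₁, Functor.map_comp]
  · let E₂ : FibCat.overCat B ⥤ᵇ FibCat.fp c₁ v' :=
      BasedFunctor.comp (AlgSt.ofOverCat B) (BasedFunctor.comp (AlgSt.ofSpMap p) e₂)
    let E₁ : FibCat.overCat B₁ ⥤ᵇ FibCat.fp v z :=
      BasedFunctor.comp (AlgSt.ofOverCat B₁) (BasedFunctor.comp (AlgSt.ofSpMap p₁) e₁)
    have k₂ : BasedFunctor.comp (AlgSt.overMap b₁) c₁ ≅ BasedFunctor.comp (AlgSt.overMap b₂) v' :=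
      K739.Psh.wr j₁.symm c₁ ≪≫ (K739.Psh.wl E₂ (FibCat.fpIso c₁ v') :
        BasedFunctor.comp E₂ (BasedFunctor.comp (FibCat.fpFst c₁ v') c₁) ≅
          BasedFunctor.comp E₂ (BasedFunctor.comp (FibCat.fpSnd c₁ v') v')) ≪≫ K739.Psh.wr j₂ v'
    have k₁ : BasedFunctor.comp (AlgSt.overMap β₁) v ≅ BasedFunctor.comp c₁ z :=
      K739.Psh.wr i₁.symm v ≪≫ (K739.Psh.wl E₁ (FibCat.fpIso v z) :
        BasedFunctor.comp E₁ (BasedFunctor.comp (FibCat.fpFst v z) v) ≅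
          BasedFunctor.comp E₁ (BasedFunctor.comp (FibCat.fpSnd v z) z))
    have k₀ : BasedFunctor.comp (AlgSt.overMap b₁) (AlgSt.overMap β₁) ≅ AlgSt.overMap (b₁ ≫ β₁) :=
      isoOfStr (fun a => by
        simp [str]
        rfl)
    have k₃ : BasedFunctor.comp (AlgSt.overMap b₁) (BasedFunctor.comp (AlgSt.overMap β₁) v) ≅
        BasedFunctor.comp (AlgSt.overMap b₁) (BasedFunctor.comp c₁ z) := K739.Psh.wl _ k₁
    exact ⟨K739.Psh.wr k₂.symm z ≪≫ k₃.symm ≪≫ K739.Psh.wr k₀ v⟩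

end Common

end LOpen

end K738
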