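import Groth.Agent.AlgSt.K738.Largest7

/-!
# Base change of the largest open substack: the comparison
-/

set_option autoImplicit false
set_option backward.isDefEq.respectTransparency false
set_option backward.isDefEq.respectTransparency.types false

universe w₂ v₂ w₁ v₁ w' v' w v u

open CategoryTheory CategoryTheory.Limits AlgebraicGeometry Opposite AlgSp

namespace K738.LOpen

open K738.InOpen K735.Fib K735.Fp

variable {S : Scheme.{u}}

variable {𝒳 : BasedCategory.{v, w} (Over S)} {𝒴 : BasedCategory.{v', w'} (Over S)}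
  {𝒵 : BasedCategory.{v₁, w₁} (Over S)} {z : 𝒵 ⥤ᵇ 𝒴} {f : 𝒳 ⥤ᵇ 𝒴}

/-- Lift of an object of `V' ×_𝒵 (𝒵 ×_𝒴 𝒳)` to an object of `B ×_𝒴 𝒳`. -/
theorem exists_paste {V' B : Over S} {v' : FibCat.overCat V' ⥤ᵇ 𝒵} (h : FibCat.IsFibGrpd (FibCat.fp v' (FibCat.fpFst z f)).p)
    (b₂ : B ⟶ V') (ζ : (FibCat.fp v' (FibCat.fpFst z f)).obj) {T : Over S}
    (g : T ⟶ (FibCat.fp v' (FibCat.fpFst z f)).p.obj ζ) (t : T ⟶ B) (hgt : g ≫ ζ.obj.fst.hom = t ≫ b₂) :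
    ∃ (ξ : (FibCat.fp (BasedFunctor.comp (BasedFunctor.comp (AlgSt.overMap b₂) v') z) f).obj)
      (μ : bcObj (Iso.refl (BasedFunctor.comp (AlgSt.overMap b₂) v'))
        ((K734.Fib.fpPaste (BasedFunctor.comp (AlgSt.overMap b₂) v') z f).obj ξ) ⟶ ζ),
      (FibCat.fp v' (FibCat.fpFst z f)).p.IsHomLift g μ := by
  obtain ⟨ζ₃, φ, hφ⟩ := h.exists_lift g
  obtain rfl := IsHomLift.domain_eq (FibCat.fp v' (FibCat.fpFst z f)).p g φ
  have h1 : g = (FibCat.fp v' (FibCat.fpFst z f)).p.map φ := by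
    have := IsHomLift.fac (FibCat.fp v' (FibCat.fpFst z f)).p g φ
    simpa using this
  have h2 : φ.hom.fst.left ≫ ζ.obj.fst.hom = ζ₃.obj.fst.hom := Over.w φ.hom.fst
  have h3 : ζ₃.obj.fst.hom = t ≫ b₂ := by
    rw [← hgt, h1]
    exact h2.symm
  let j : (AlgSt.overMap b₂).obj (Over.mk t : Over B) ≅ ζ₃.obj.fst := Over.isoMk (Iso.refl _) (by
    change 𝟙 _ ≫ ζ₃.obj.fst.hom = t ≫ b₂
    rw [Category.id_comp, h3])
  have hj : Vert (FibCat.overCat V').p j.hom := vert_of_map_eq rfl rfl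
  let y' := BasedFunctor.comp (AlgSt.overMap b₂) v'
  let i₁ : y'.obj (Over.mk t) ≅ ζ₃.obj.snd.obj.fst := v'.toFunctor.mapIso j ≪≫ ζ₃.obj.iso
  have hi₁ : Vert 𝒵.p i₁.hom := Vert.comp (Vert.map v' hj) (fp_vert ζ₃)
  let i₂ : (BasedFunctor.comp y' z).obj (Over.mk t) ≅ f.obj ζ₃.obj.snd.obj.snd :=
    z.toFunctor.mapIso i₁ ≪≫ ζ₃.obj.snd.obj.iso
  have hi₂ : Vert 𝒴.p i₂.hom := Vert.comp (Vert.map z hi₁) (fp_vert ζ₃.obj.snd)
  let ξ : (FibCat.fp (BasedFunctor.comp y' z) f).obj := mkFp (BasedFunctor.comp y' z) f (Over.mk t) ζ₃.obj.snd.obj.snd i₂ hi₂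
  let μ₂ : ((K734.Fib.fpPaste y' z f).obj ξ).obj.snd ⟶ ζ₃.obj.snd := homFp (F := z) (G := f) i₁.hom (𝟙 _) (by
    change z.map i₁.hom ≫ ζ₃.obj.snd.obj.iso.hom = (z.map i₁.hom ≫ ζ₃.obj.snd.obj.iso.hom) ≫ f.map (𝟙 _)
    have e1 : f.map (𝟙 ζ₃.obj.snd.obj.snd) = 𝟙 _ := f.toFunctor.map_id _
    rw [e1, Category.comp_id])
  let μ₁ : bcObj (Iso.refl y') ((K734.Fib.fpPaste y' z f).obj ξ) ⟶ ζ₃ :=
    homFp (F := v') (G := FibCat.fpFst z f) j.hom μ₂ (by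
      change v'.map j.hom ≫ ζ₃.obj.iso.hom = (𝟙 _ ≫ 𝟙 _) ≫ v'.map j.hom ≫ ζ₃.obj.iso.hom
      rw [Category.id_comp, Category.id_comp])
  refine ⟨ξ, μ₁ ≫ φ, ?_⟩
  have h4 : (FibCat.fp v' (FibCat.fpFst z f)).p.map (μ₁ ≫ φ) = g := by
    rw [Functor.map_comp, ← h1]
    exact Category.id_comp _
  exact IsHomLift.of_fac' _ _ _ rfl rfl (by rw [h4]; simp)

theorem map_eqToHom_self (F : Sp S) {T : Over S} (h : T = T) (s : F.obj.obj (op T)) :
    F.obj.map (eqToHom h).op s = s := by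
  simp

theorem surjective_left_of_isHomLift {C : Type w₂} [Category.{v₂} C] {p : C ⥤ Over S} {R T : Over S} {a b : C}
    (g : R ⟶ T) (φ : a ⟶ b) (h : p.IsHomLift g φ) (hg : Surjective g.left) : Surjective (p.map φ).left := by
  obtain rfl := IsHomLift.domain_eq p g φ
  obtain rfl := IsHomLift.codomain_eq p g φ
  have h1 : g = p.map φ := by
    have := IsHomLift.fac p g φ
    simpa using this
  rw [← h1]
  exact hg

theorem core {P Q R₀ : MorphismProperty (Sp S)} (H : Setup P Q R₀) (hz : AlgSt.RepByAlgSpWith R₀ z) {V V' : Over S}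
    {v : FibCat.overCat V ⥤ᵇ 𝒴} {v' : FibCat.overCat V' ⥤ᵇ 𝒵} {F W F' W' : Space S}
    {π : F ⟶ (ofScheme S).obj V} {w : W ⟶ F} (D : Dat f v F W π w) (hL : Largest P π w) (hQ : Q π.hom)
    {π' : F' ⟶ (ofScheme S).obj V'} {w' : W' ⟶ F'} (D' : Dat (FibCat.fpFst z f) v' F' W' π' w')
    (hL' : Largest P π' w') (hQ' : Q π'.hom) (b : (FibCat.fp z f).obj) (hb : D'.Q₀ b) : D.Q₀ b.obj.snd := by
  obtain ⟨T, τ, B, c, β, b₂, hτ, hc, hb₂, hb₂s, hβ, ⟨α⟩⟩ := exists_common D'.hY D.hY hz D.hv D.hv' D'.hv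
  let y' := BasedFunctor.comp (AlgSt.overMap b₂) v'
  -- the base change of `F'` along `b₂`
  have sq₁ := isPullback_pb π' ((ofScheme S).map b₂)
  have sqW₁ := isPullback_pb w' (pbFst π' ((ofScheme S).map b₂))
  have hL₁ := H.bc _ _ _ _ π' ((ofScheme S).map b₂) _ _ sq₁ hQ' (H.hsm _ _ ((ofScheme S).map b₂) hb₂) _ w' hL' _ _ _ sqW₁
  obtain ⟨R₁, hR₁⟩ := SecRep.nonempty_bc (Iso.refl y') D'.R sq₁
  obtain ⟨R₁', hR₁'⟩ := R₁.exists_precomp (K734.Fib.fpPaste y' z f) (K734.Fib.isEquivOver_fpPaste y' z f)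
  -- the base change of `F` along `β`
  have hβ' : ((ofScheme S).map β) = c ≫ τ := by
    apply ObjectProperty.hom_ext
    exact hβ
  have sq₂ := isPullback_pb π ((ofScheme S).map β)
  have sqW₂ := isPullback_pb w (pbFst π ((ofScheme S).map β))
  have hL₂ : Largest P (pbSnd π ((ofScheme S).map β)) (pbSnd w (pbFst π ((ofScheme S).map β))) :=
    H.largest_two hL hQ hτ (H.hsm _ _ c hc) (by rw [← hβ']; exact sq₂) sqW₂
  obtain ⟨R₂, hR₂⟩ := SecRep.nonempty_bc α D.R sq₂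
  -- a chart of `b`
  obtain ⟨ζ, a, η, ha, has, hη⟩ := D'.exists_chart b
  have hζ : InW w'.hom (D'.R.sec ζ) := hb ζ η
  have sqt := IsPullback.of_hasPullback ζ.obj.fst.hom b₂
  have hts : Surjective (pullback.fst ζ.obj.fst.hom b₂).left :=
    MorphismProperty.of_isPullback (sqt.map (Over.forget S)).flip hb₂s
  obtain ⟨ξ, μ, hμ⟩ := exists_paste D'.isFibGrpd_fp' b₂ ζ (pullback.fst ζ.obj.fst.hom b₂)
    (pullback.snd ζ.obj.fst.hom b₂) sqt.w
  have h1 : InW w'.hom (D'.R.sec (bcObj (Iso.refl y') ((K734.Fib.fpPaste y' z f).obj ξ))) := D'.inW_of_hom μ hζ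
  have h2 : InW (pbSnd w' (pbFst π' ((ofScheme S).map b₂))).hom (R₁'.sec ξ) := by
    have e : R₁'.sec ξ = R₁.sec ((K734.Fib.fpPaste y' z f).obj ξ) :=
      (hR₁' ξ).trans (map_eqToHom_self (pb π' ((ofScheme S).map b₂)).obj _ _)
    have e2 := (congrArg _ e).trans (hR₁ ((K734.Fib.fpPaste y' z f).obj ξ))
    exact (inW_pull_iff sqW₁ _).2 ((congrArg (InW w'.hom) e2).mpr h1)
  have h3 := inW_compare R₁' R₂ hL₁ hL₂ ξ h2
  have h3' := (congrArg (InW w.hom) (hR₂ ξ)).mp ((inW_pull_iff sqW₂ _).1 h3)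
  have h4 : D.Q₀ ξ.obj.snd := (D.q₀_snd_iff (bcObj α ξ)).2 h3'
  refine D.q₀_of_surjective (μ.hom.snd.hom.snd ≫ η.hom.snd) ?_ h4
  have hμη : (FibCat.fp z f).p.IsHomLift (pullback.fst ζ.obj.fst.hom b₂ ≫ a) (μ.hom.snd ≫ η) := by
    have : (FibCat.fp z f).p.IsHomLift (pullback.fst ζ.obj.fst.hom b₂) μ.hom.snd :=
      BasedFunctor.preserves_isHomLift (FibCat.fpSnd v' (FibCat.fpFst z f)) _ μ
    exact IsHomLift.comp _ _ _ _ _
  have hμη' : 𝒳.p.IsHomLift (pullback.fst ζ.obj.fst.hom b₂ ≫ a) (μ.hom.snd.hom.snd ≫ η.hom.snd) :=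
    BasedFunctor.preserves_isHomLift (FibCat.fpSnd z f) _ (μ.hom.snd ≫ η)
  refine surjective_left_of_isHomLift _ _ hμη' ?_
  rw [Over.comp_left]
  infer_instance

section Open

variable {Q : 𝒳.obj → Prop}

/-- An open condition on the second component is open. -/
theorem hasOpenLocus_snd (hQ : K899.OpenCrit.HasOpenLocus Q) :
    K899.OpenCrit.HasOpenLocus (𝒳 := FibCat.fp z f) (fun b => Q b.obj.snd) := by
  intro b
  obtain ⟨O, hO⟩ := hQ b.obj.snd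
  refine ⟨(eqToHom (fp_snd_eq b).symm).left ⁻¹ᵁ O, fun b' φ => ?_⟩
  have e1 := hO _ φ.hom.snd
  rw [fp_map_snd φ] at e1
  exact e1.trans (range_conj_iff (fp_snd_eq b') ((FibCat.fp z f).p.map φ) (fp_snd_eq b).symm O)

/-- The restriction of the fibre product is the fibre product with the restriction. -/
def resFunctor : AlgSt.fullSub (FibCat.fp z f) (fun b => Q b.obj.snd) ⥤ᵇ
    FibCat.fp z (BasedFunctor.comp (AlgSt.subIncl 𝒳 Q) f) where
  toFunctor :=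
    { obj := fun x => ⟨⟨x.obj.obj.fst, ⟨x.obj.obj.snd, x.property⟩, x.obj.obj.iso⟩, x.obj.property⟩
      map := fun {x y} m => homFp (F := z) (G := BasedFunctor.comp (AlgSt.subIncl 𝒳 Q) f) m.hom.hom.fst
        ⟨m.hom.hom.snd⟩ m.hom.hom.w
      map_id := fun x => rfl
      map_comp := fun m m' => rfl }
  w := rfl

theorem isEquivOver_resFunctor : FibCat.IsEquivOver (resFunctor (Q := Q) (z := z) (f := f)) := by
  refine Equiv.isEquivOver_of _ ⟨?_⟩ ⟨?_⟩ ?_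
  · intro x y m
    exact ⟨⟨homFp (F := z) (G := f) m.hom.fst m.hom.snd.hom m.hom.w⟩, rfl⟩
  · intro x y m m' h
    apply ObjectProperty.hom_ext
    apply ObjectProperty.hom_ext
    apply CategoricalPullback.hom_ext
    · exact congrArg (fun t => t.hom.fst) h
    · exact congrArg (fun t => t.hom.snd.hom) h
  · rintro ⟨⟨c, ⟨x, hx⟩, i⟩, hi⟩
    exact ⟨⟨⟨⟨c, x, i⟩, hi⟩, hx⟩, Iso.refl _, IsHomLift.id rfl⟩

end Open

end K738.LOpen
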