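import Groth.Agent.CurvSt.K899.OpenCrit
import Groth.Agent.AlgSt.K738.Coarse1
import Groth.Agent.AlgSt.K738.Aut3
import Groth.Agent.AlgSt.K743.Chart
import Groth.Agent.AlgSt.K743.Comp

/-!
# Open substacks: diagonals and structure functors; separated Deligne-Mumford open substacks and their coarse spaces
-/

set_option autoImplicit false
set_option backward.isDefEq.respectTransparency false
set_option backward.isDefEq.respectTransparency.types false

universe v' w' v w u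

open CategoryTheory CategoryTheory.Limits AlgebraicGeometry Opposite AlgSp K734.Fib

namespace K738.OSub

open K899.OpenCrit

variable {S : Scheme.{u}}

section Sub

variable {𝒳 : BasedCategory.{v, w} (Over S)} {𝒴 : BasedCategory.{v', w'} (Over S)} {Q : 𝒳.obj → Prop}

/-- The diagonal of a full subcategory stable under pullback. -/
theorem repByAlgSpWith_diag_fullSub (P : MorphismProperty (Sp S))
    (h : AlgSt.RepByAlgSpWith P (FibCat.diag (FibCat.toSelf 𝒳)))
    (hQ : ∀ {x y : 𝒳.obj}, (y ⟶ x) → Q x → Q y) :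
    AlgSt.RepByAlgSpWith P (FibCat.diag (FibCat.toSelf (AlgSt.fullSub 𝒳 Q))) := by
  intro U y
  have hΘ := K899.FpEquiv.Θ_isEquivOver y (AlgSt.subIncl 𝒳 Q) (prodIncl Q)
    (FibCat.diag (FibCat.toSelf (AlgSt.fullSub 𝒳 Q))) (FibCat.diag (FibCat.toSelf 𝒳)) (Iso.refl _)
    (inferInstanceAs (ObjectProperty.ι Q).Full) (inferInstanceAs (ObjectProperty.ι Q).Faithful)
    prodIncl_full prodIncl_faithful (fun a x i hi => by
      refine ⟨⟨x, hQ (i.inv.hom.fst) (y.obj a).obj.fst.property⟩, Iso.refl _, ?_⟩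
      exact IsHomLift.id rfl)
  exact K899.FpEquiv.exists_rep_of_Θ y _ _ _ _ _ hΘ P (h U _)

/-- A functor locally with `P` restricts to open substacks. -/
theorem locQ_comp_subIncl {P : MorphismProperty Scheme.{u}} (hE : K597.EtLoc P)
    (hP : ∀ {X Y : Scheme.{u}} (f : X ⟶ Y) (W : X.Opens), P f → P (W.ι ≫ f)) (hQ : HasOpenLocus Q) {f : 𝒳 ⥤ᵇ 𝒴}
    (h : AlgSt.LocQ (LocP P) f) : AlgSt.LocQ (LocP P) (BasedFunctor.comp (AlgSt.subIncl 𝒳 Q) f) := by
  obtain ⟨U, V, x, y, g, α, h₁, h₂, h₃, h₄⟩ := h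
  obtain ⟨W, hW⟩ := exists_locus hQ x
  have hx' : ∀ a, Q ((BasedFunctor.comp (AlgSt.overMap (opIncl U W)) x).obj a) := fun a => by
    refine (hW _).2 ?_
    change Set.range (a.hom ≫ opIncl U W).left ⊆ W
    rintro _ ⟨z, rfl⟩
    rw [Over.comp_left, Scheme.Hom.comp_apply]
    exact (a.hom.left z).2
  let e₁ : BasedFunctor.comp (BasedFunctor.comp (AlgSt.overMap (opIncl U W)) x) f ≅
      BasedFunctor.comp (AlgSt.overMap (opIncl U W)) (BasedFunctor.comp (AlgSt.overMap g) y) :=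
    K735.Fib.whiskerLeftIso _ α
  let e₂ : BasedFunctor.comp (BasedFunctor.comp (AlgSt.overMap (opIncl U W)) (AlgSt.overMap g)) y ≅
      BasedFunctor.comp (AlgSt.overMap (opIncl U W ≫ g)) y :=
    K735.Fib.whiskerRightIso (K743.Chart.overMapComp _ _) y
  refine ⟨opOver U W, V, _, y, opIncl U W ≫ g, e₁ ≪≫ e₂, repByAlgSpWith_atlas hQ x W hW hx' _ h₁,
    repByAlgSpWith_atlas hQ x W hW hx' _ h₂, h₃, K743.Comp.locP_yon_map_of hE _ ?_⟩
  exact hP g.left W (locP_yon_map h₄)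

end Sub

/-- The standing assumptions of the criteria for open substacks. -/
structure Std (𝒳 : BasedCategory.{v, w} (Over S)) : Prop where
  alg : AlgSt.IsAlgStack Scheme.fppfPrecoverage 𝒳
  sep : AlgSt.RepByAlgSpWith IsSeparatedMor (FibCat.diag (FibCat.toSelf 𝒳))
  qc : AlgSt.RepByAlgSpWith IsQuasiCompactMor (FibCat.diag (FibCat.toSelf 𝒳))
  lft : AlgSt.LocQ (LocP @LocallyOfFiniteType) (FibCat.toSelf 𝒳)

theorem Std.sub {𝒳 : BasedCategory.{v, w} (Over S)} (h : Std 𝒳) {Q : 𝒳.obj → Prop} (hQ : HasOpenLocus Q) :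
    Std (AlgSt.fullSub 𝒳 Q) where
  alg := (isOpenSubstack h.alg hQ).2.1
  sep := repByAlgSpWith_diag_fullSub _ h.sep fun φ hx => hQ.of_hom φ hx
  qc := repByAlgSpWith_diag_fullSub _ h.qc fun φ hx => hQ.of_hom φ hx
  lft := locQ_comp_subIncl K597.etLoc_lft (fun f W hf => by
    have : LocallyOfFiniteType f := hf
    infer_instance) hQ h.lft

/-- **Separated Deligne-Mumford stacks from finite automorphism groups and uniqueness of limits, in characteristic
zero.** -/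
theorem Std.main {𝒳 : BasedCategory.{v, w} (Over S)} [IsLocallyNoetherian S] (h : Std 𝒳) (hKM : K738.Coarse.KM S)
    (hchar : ∀ (Ω : Type u) [Field Ω] [IsAlgClosed Ω] (_ : Spec (CommRingCat.of Ω) ⟶ S), CharZero Ω)
    (hfin : ∀ (Ω : Type u) [Field Ω] [IsAlgClosed Ω] (t : Spec (CommRingCat.of Ω) ⟶ S) (z : 𝒳.p.Fiber (Over.mk t)),
      Finite (Aut z)) (hu : K738.Sep.UniqLim 𝒳) :
    AlgSt.IsDM Scheme.etalePrecoverage 𝒳 ∧ AlgSt.IsSeparatedOver 𝒳 ∧
      ∃ (Mc : AlgSp.Sp S) (π : 𝒳 ⥤ᵇ AlgSt.ofSp Mc), AlgSt.IsCoarseModuli π := by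
  have h1 := K738.AutDM.unram_diag h.alg h.sep hchar hfin
  have h2 := K738.Sep.isSeparatedOver_any h.alg h.sep h.qc h.lft hu
  exact ⟨K738.AutDM.isDM_etale_of_isDMOver h.alg h1, h2, K738.Coarse.exists_coarse hKM h.alg h2 h1⟩

end K738.OSub
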