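import Groth.Agent.IsoNat.K863.SepCore
import Groth.Agent.Sga3.H826.DvrExt
import Groth.Agent.AlgSp.K649.DvrE
import Groth.Agent.CurvSt.K902.SelfChart
import Groth.Agent.AlgSt.K738.Unr4

/-!
# Separatedness from uniqueness of limits over discrete valuation rings with algebraically closed residue field
-/

set_option autoImplicit false
set_option backward.isDefEq.respectTransparency false
set_option backward.isDefEq.respectTransparency.types false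

universe v' w' v w u

open CategoryTheory CategoryTheory.Limits AlgebraicGeometry Opposite AlgSp

namespace K738.Sep

open K604.DvrClosed K863.VIsom K739.Isom K739.Diag K863.Arr

variable {S : Scheme.{u}}

/-- Uniqueness of limits over discrete valuation rings with algebraically closed residue field: an isomorphism over the
fraction field of two objects over the ring extends. -/
def UniqLim (𝒳 : BasedCategory.{v, w} (Over S)) : Prop :=
  ∀ (R : Type u) [CommRing R] [IsDomain R] [IsDiscreteValuationRing R], IsAlgClosed (IsLocalRing.ResidueField R) →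
    ∀ (L : Type u) [Field L] [Algebra R L] [IsFractionRing R L] (a : Spec (CommRingCat.of R) ⟶ S)
      (A₁ A₂ B : 𝒳.obj) (r₁ : B ⟶ A₁) (r₂ : B ⟶ A₂),
      𝒳.p.IsHomLift (jj R L a) r₁ → 𝒳.p.IsHomLift (jj R L a) r₂ →
        ∃ α : A₁ ⟶ A₂, 𝒳.p.IsHomLift (𝟙 (Over.mk a)) α ∧ r₁ ≫ α = r₂

theorem exists_maps (A K : Type u) [CommRing A] [IsDomain A] [IsDiscreteValuationRing A] [Field K] [Algebra A K]
    [IsFractionRing A K] (B L : Type u) [CommRing B] [IsDomain B] [IsDiscreteValuationRing B] [Algebra A B] [Field L] [Algebra B L] [IsFractionRing B L]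
    (hB : IsAlgClosed (IsLocalRing.ResidueField B)) (hloc : IsLocalHom (algebraMap A B)) (hflat : Module.Flat A B) : ∃ (φ : A →+* B) (ψ : K →+* L),
      IsLocalHom φ ∧ IsAlgClosed (IsLocalRing.ResidueField B) ∧ (algebraMap B L).comp φ = ψ.comp (algebraMap A K) := by
  have hinj : Function.Injective (algebraMap A B) := by
    have := Module.FaithfullyFlat.of_flat_of_isLocalHom (A := A) (B := B)
    exact FaithfulSMul.algebraMap_injective _ _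
  have hg : Function.Injective ((algebraMap B L).comp (algebraMap A B)) :=
    (IsFractionRing.injective B L).comp hinj
  refine ⟨algebraMap A B, IsFractionRing.lift hg, hloc, hB, ?_⟩
  ext x
  exact (IsFractionRing.lift_algebraMap hg x).symm

theorem exists_ext (A K : Type u) [CommRing A] [IsDomain A] [IsDiscreteValuationRing A] [Field K] [Algebra A K]
    [IsFractionRing A K] : ∃ (B K' : Type u) (_ : CommRing B) (_ : IsDomain B) (_ : IsDiscreteValuationRing B)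
      (_ : Field K') (_ : Algebra B K') (_ : IsFractionRing B K') (φ : A →+* B) (ψ : K →+* K'),
      IsLocalHom φ ∧ IsAlgClosed (IsLocalRing.ResidueField B) ∧ (algebraMap B K').comp φ = ψ.comp (algebraMap A K) := by
  obtain ⟨B, i1, i2, i3, i4, -, hB, hloc, hflat⟩ := Groth.Agent.Sga3.H826.DvrExt.exists_complete A
  exact ⟨B, FractionRing B, i1, i2, i3, _, _, inferInstance, exists_maps A K B (FractionRing B) hB hloc hflat⟩

section Cat

variable {𝒳 : AlgSt.Cat S}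

theorem secLift (h𝒳 : FibCat.IsFibGrpd 𝒳.p) (h𝒮 : FibCat.IsFibGrpd (FibCat.selfOver (Over S)).p) (hu : UniqLim 𝒳)
    {U : Over S} (x₁ x₂ : FibCat.overCat U ⥤ᵇ 𝒳)
    (φ : BasedFunctor.comp x₁ (FibCat.toSelf 𝒳) ≅ BasedFunctor.comp x₂ (FibCat.toSelf 𝒳))
    (R : Type u) [CommRing R] [IsDomain R] [IsDiscreteValuationRing R] (hR : IsAlgClosed (IsLocalRing.ResidueField R))
    (L : Type u) [Field L] [Algebra R L] [IsFractionRing R L] (a : Spec (CommRingCat.of R) ⟶ S) :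
    SecLift (toBase (FibCat.toSelf 𝒳) x₁ x₂ φ h𝒳 h𝒮) (jj R L a) := by
  rintro s ⟨v⟩ e
  obtain ⟨w, ψ, hl, hc⟩ := s
  have e1 : w = jj R L a ≫ v := congrArg ULift.down e
  subst e1
  have hr₁ : 𝒳.p.IsHomLift (jj R L a) (x₁.map (arr (jj R L a) rfl : pt (jj R L a ≫ v) ⟶ pt v)) :=
    map_lift x₁ (IsHomLift.map (FibCat.overCat U).p (arr (jj R L a) rfl : pt (jj R L a ≫ v) ⟶ pt v))
  have hr₂ : 𝒳.p.IsHomLift (jj R L a) (x₂.map (arr (jj R L a) rfl : pt (jj R L a ≫ v) ⟶ pt v)) :=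
    map_lift x₂ (IsHomLift.map (FibCat.overCat U).p (arr (jj R L a) rfl : pt (jj R L a ≫ v) ⟶ pt v))
  obtain ⟨α, hα, hα'⟩ := hu R hR L a (x₁.obj (pt v)) (x₂.obj (pt v)) (x₁.obj (pt (jj R L a ≫ v)))
    (x₁.map (arr (jj R L a) rfl : pt (jj R L a ≫ v) ⟶ pt v))
    (ψ ≫ x₂.map (arr (jj R L a) rfl : pt (jj R L a ≫ v) ⟶ pt v)) hr₁ (lift_id_comp hl hr₂)
  have hγ : (FibCat.selfOver (Over S)).p.IsHomLift (𝟙 (Over.mk a)) (φ.hom.toNatTrans.app (pt v)) := φ.hom.isHomLift' (pt v)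
  have hfα' : (FibCat.selfOver (Over S)).p.IsHomLift (𝟙 (Over.mk a)) ((FibCat.toSelf 𝒳).map α) := map_lift _ hα
  have he : (FibCat.selfOver (Over S)).p.obj ((FibCat.toSelf 𝒳).obj (x₁.obj (pt v))) =
      (FibCat.selfOver (Over S)).p.obj ((FibCat.toSelf 𝒳).obj (x₂.obj (pt v))) :=
    (x₁.w_obj (pt v)).trans (x₂.w_obj (pt v)).symm
  have hfα : (FibCat.toSelf 𝒳).map α = φ.hom.toNatTrans.app (pt v) :=
    (K738.Equiv.map_eq_eqToHom (p := (FibCat.selfOver (Over S)).p) _ hfα' he).trans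
      (K738.Equiv.map_eq_eqToHom (p := (FibCat.selfOver (Over S)).p) _ hγ he).symm
  refine ⟨(⟨v, α, hα, hfα⟩ : Sec (FibCat.toSelf 𝒳) x₁ x₂ φ _), ?_, rfl⟩
  exact (K739.Isom.map_eq_iff h𝒳 h𝒮 (jj R L a) _ _).2 ⟨rfl, hα'⟩

/-- The existence part of the valuative criterion with extensions. -/
theorem dvrExistE (h𝒳 : FibCat.IsFibGrpd 𝒳.p) (h𝒮 : FibCat.IsFibGrpd (FibCat.selfOver (Over S)).p) (hu : UniqLim 𝒳)
    {U : Over S} (x₁ x₂ : FibCat.overCat U ⥤ᵇ 𝒳)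
    (φ : BasedFunctor.comp x₁ (FibCat.toSelf 𝒳) ≅ BasedFunctor.comp x₂ (FibCat.toSelf 𝒳))
    (hsh : Presheaf.IsSheaf (AlgSp.J S) (psh (FibCat.toSelf 𝒳) x₁ x₂ φ h𝒳 h𝒮)) :
    K649.DvrE.DvrExistE (ObjectProperty.homMk (toBase (FibCat.toSelf 𝒳) x₁ x₂ φ h𝒳 h𝒮) :
      (⟨psh (FibCat.toSelf 𝒳) x₁ x₂ φ h𝒳 h𝒮, hsh⟩ : AlgSp.Sp S) ⟶ (AlgSp.yon S).obj U) := by
  intro sq hA
  obtain ⟨B, K', _, _, _, _, _, _, φ', ψ', hloc, hB, hc⟩ := exists_ext sq.A sq.K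
  let e : sq.DomExt :=
    { A' := B
      K' := K'
      φ := φ'
      ψ := ψ'
      comm := hc
      isLocalHom := hloc }
  refine ⟨e, (K614.Val.hasLift_iff e).2 ?_⟩
  have h1 := (secLift_iff (ObjectProperty.homMk (toBase (FibCat.toSelf 𝒳) x₁ x₂ φ h𝒳 h𝒮) :
      (⟨psh (FibCat.toSelf 𝒳) x₁ x₂ φ h𝒳 h𝒮, hsh⟩ : AlgSp.Sp S) ⟶ (AlgSp.yon S).obj U) (jj B K' e.ptA'.hom)).1
      (secLift h𝒳 h𝒮 hu x₁ x₂ φ B hB K' e.ptA'.hom)
  refine h1 ((yon S).map (K614.Val.pK e) ≫ sq.top) ((yon S).map (K614.Val.pA e) ≫ sq.bot) ?_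
  rw [Category.assoc, sq.comm, ← Category.assoc, ← Category.assoc, ← Functor.map_comp, ← Functor.map_comp]
  exact congrArg (fun m => (yon S).map m ≫ sq.bot) (K614.Val.pK_j e)

/-- Over a locally Noetherian chart the sheaves of isomorphisms are proper. -/
theorem repPsh_proper (h𝒳 : FibCat.IsFibGrpd 𝒳.p) (h𝒮 : FibCat.IsFibGrpd (FibCat.selfOver (Over S)).p)
    (hsep : AlgSt.RepByAlgSpWith AlgSp.IsSeparatedMor (FibCat.diag (FibCat.toSelf 𝒳)))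
    (hqc : AlgSt.RepByAlgSpWith AlgSp.IsQuasiCompactMor (FibCat.diag (FibCat.toSelf 𝒳)))
    (hlft : AlgSt.RepByAlgSpWith (AlgSp.LocP @LocallyOfFiniteType) (FibCat.diag (FibCat.toSelf 𝒳))) (hu : UniqLim 𝒳)
    {W : Over S} (hW : IsLocallyNoetherian W.left) (x₁ x₂ : FibCat.overCat W ⥤ᵇ 𝒳)
    (φ : BasedFunctor.comp x₁ (FibCat.toSelf 𝒳) ≅ BasedFunctor.comp x₂ (FibCat.toSelf 𝒳)) :
    K739.Rep.RepPsh AlgSp.IsProperMor (K739.Isom.toBase (FibCat.toSelf 𝒳) x₁ x₂ φ h𝒳 h𝒮) := by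
  obtain ⟨hsh, hA, h1⟩ := (K739.Rep.repPsh_iff (K739.Rep.isoInv_of_baseChange _ K739.Props.bc_sep) _).1
    ((K739.Diag.repByAlgSpWith_diag_iff _ (FibCat.toSelf 𝒳) h𝒳 h𝒮).1 hsep W x₁ x₂ φ)
  obtain ⟨_, _, h2⟩ := (K739.Rep.repPsh_iff (K739.Rep.isoInv_of_baseChange _ K739.Props.bc_qc) _).1
    ((K739.Diag.repByAlgSpWith_diag_iff _ (FibCat.toSelf 𝒳) h𝒳 h𝒮).1 hqc W x₁ x₂ φ)
  obtain ⟨_, _, h3⟩ := (K739.Rep.repPsh_iff (K739.Rep.isoInv_of_baseChange _ K739.Props.bc_lft) _).1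
    ((K739.Diag.repByAlgSpWith_diag_iff _ (FibCat.toSelf 𝒳) h𝒳 h𝒮).1 hlft W x₁ x₂ φ)
  have hY : AlgSp.IsLocNoethSp ((AlgSp.yon S).obj W) :=
    ⟨W, 𝟙 _, AlgSp.repWith_id _ _, AlgSp.repWith_id _ _, hW⟩
  have huc := K649.DvrE.isUnivClosedMor_of_dvrExistE (X := ⟨_, hA⟩)
    (Y := ⟨_, AlgSp.IsAlgSpace.yon_obj W⟩) (ObjectProperty.homMk
    (ObjectProperty.homMk (K739.Isom.toBase (FibCat.toSelf 𝒳) x₁ x₂ φ h𝒳 h𝒮))) ⟨h3, h2⟩ hY
    (dvrExistE h𝒳 h𝒮 hu x₁ x₂ φ hsh)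
  exact K739.Rep.repPsh_of _ hsh hA ⟨h1, ⟨h3, h2⟩, huc⟩

/-- **Separatedness from uniqueness of limits.** -/
theorem isSeparatedOver [IsLocallyNoetherian S] (h𝒳 : AlgSt.IsAlgStack Scheme.fppfPrecoverage 𝒳)
    (hsep : AlgSt.RepByAlgSpWith AlgSp.IsSeparatedMor (FibCat.diag (FibCat.toSelf 𝒳)))
    (hqc : AlgSt.RepByAlgSpWith AlgSp.IsQuasiCompactMor (FibCat.diag (FibCat.toSelf 𝒳)))
    (hft : AlgSt.LocQ (AlgSp.LocP @LocallyOfFiniteType) (FibCat.toSelf 𝒳)) (hu : UniqLim 𝒳) :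
    AlgSt.IsSeparatedOver 𝒳 := by
  have hX := h𝒳.isStack.1
  have h𝒮 : AlgSt.IsAlgStack Scheme.fppfPrecoverage (FibCat.selfOver (Over S)) :=
    K740.SpDM.isAlgStack_of_repByAlgSp (K740.DiagRep.repByAlgSp_selfOver S)
  have hS := h𝒮.isStack.1
  obtain ⟨W, ω, hW, hω, hωs⟩ := K863.NoethAtlas.exists_atlas h𝒳 h𝒮 (FibCat.toSelf 𝒳) hft (fun V y hy => by
    have := K902.SelfChart.smooth_of_repByAlgSpWith hy
    exact LocallyOfFiniteType.isLocallyNoetherian V.hom)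
  have hlft : AlgSt.RepByAlgSpWith (AlgSp.LocP @LocallyOfFiniteType) (FibCat.diag (FibCat.toSelf 𝒳)) :=
    K738.Lft.repByAlgSpWith_lft_diag_toSelf h𝒳
  have hR : K739.Rep.RepAt AlgSp.IsProperMor (FibCat.fpFst ω (FibCat.diag (FibCat.toSelf 𝒳))) := by
    rw [K739.Isom.y_eq (FibCat.toSelf 𝒳) ω,
      K739.Rep.repAt_iff_repPsh _ _ (K739.Isom.isEquivOver_toFp (FibCat.toSelf 𝒳) _ _ _ hX hS), K739.Isom.prMap_toFp]
    exact repPsh_proper hX hS hsep hqc hlft hu hW _ _ _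
  obtain ⟨F₀, e₀, he₀, hP⟩ := hR
  refine K745.Refine.repByAlgSpWith_of_atlas hω hωs (K739.Alg.repByAlgSp1_of hsep) _ ?_ ?_ F₀.property e₀ he₀ hP
  · intro F F' U U' a g p₁ p₂ hF hF' sq ha
    exact K739.Props.bc_proper hF (AlgSp.IsAlgSpace.yon_obj _) hF' (AlgSp.IsAlgSpace.yon_obj _) _ _ _ _ sq ha
  · intro F F' U U' a g p₁ p₂ hF hF' hg hgs sq ha
    refine K739.Props.fppfDesc_proper hF (AlgSp.IsAlgSpace.yon_obj _) hF' a _ _ _ ?_ sq ha
    exact (AlgSp.repWith_yon_map_iff _ _).2 ⟨⟨hgs, inferInstance⟩, inferInstance⟩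

end Cat

end K738.Sep
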