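import Groth.Agent.AlgSt.K738.Sep1

/-!
# Separatedness from uniqueness of limits, in any universes
-/

set_option autoImplicit false
set_option backward.isDefEq.respectTransparency false
set_option backward.isDefEq.respectTransparency.types false

universe v' w' v w u

open CategoryTheory CategoryTheory.Limits AlgebraicGeometry Opposite AlgSp K734.Fib

namespace K738.Sep

open K604.DvrClosed

variable {S : Scheme.{u}}

section Transfer

variable {𝒳 : BasedCategory.{v, w} (Over S)} {𝒳' : BasedCategory.{v', w'} (Over S)} {e : 𝒳' ⥤ᵇ 𝒳}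

theorem UniqLim.of_equiv (he : FibCat.IsEquivOver e) (hu : UniqLim 𝒳) : UniqLim 𝒳' := by
  have hf := full_of he
  have hf' := faithful_of he
  intro R _ _ _ hR L _ _ _ a A₁ A₂ B r₁ r₂ h1 h2
  obtain ⟨α, hα, hc⟩ := hu R hR L a (e.obj A₁) (e.obj A₂) (e.obj B) (e.map r₁) (e.map r₂)
    ((e.isHomLift_iff _ _).2 h1) ((e.isHomLift_iff _ _).2 h2)
  obtain ⟨β, rfl⟩ := e.toFunctor.map_surjective α
  refine ⟨β, (e.isHomLift_iff _ _).1 hα, e.toFunctor.map_injective ?_⟩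
  rw [e.toFunctor.map_comp]
  exact hc

theorem locQ_toSelf_of_equiv (he : FibCat.IsEquivOver e) {P : MorphismProperty (Sp S)}
    (h : AlgSt.LocQ P (FibCat.toSelf 𝒳')) : AlgSt.LocQ P (FibCat.toSelf 𝒳) := by
  obtain ⟨U, V, x, y, h, i, hx, hxs, hy, hh⟩ := h
  exact ⟨U, V, BasedFunctor.comp x e, y, h, K902.SelfChart.isoSelf _ _, (K740.SpDM.repByAlgSpWith_comp_equiv he).2 hx,
    (K740.SpDM.repByAlgSpWith_comp_equiv he).2 hxs, hy, hh⟩

theorem locQ_toSelf_iff (he : FibCat.IsEquivOver e) {P : MorphismProperty (Sp S)} :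
    AlgSt.LocQ P (FibCat.toSelf 𝒳') ↔ AlgSt.LocQ P (FibCat.toSelf 𝒳) := by
  obtain ⟨e', he', -, -⟩ := exists_inverse he
  exact ⟨locQ_toSelf_of_equiv he, locQ_toSelf_of_equiv he'⟩

end Transfer

section Any

variable {𝒳 : BasedCategory.{v, w} (Over S)}

/-- Uniqueness of limits from the form with fibre categories. -/
theorem uniqLim_of_fiber (H : ∀ (R : Type u) [CommRing R] [IsDomain R] [IsDiscreteValuationRing R],
      IsAlgClosed (IsLocalRing.ResidueField R) →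
      ∀ (L : Type u) [Field L] [Algebra R L] [IsFractionRing R L]
        (a : Spec (CommRingCat.of R) ⟶ S) (A₁ A₂ : 𝒳.p.Fiber (Over.mk a))
        (B₁ B₂ : 𝒳.p.Fiber (Over.mk (Spec.map (CommRingCat.ofHom (algebraMap R L)) ≫ a)))
        (ψ₁ : B₁.1 ⟶ A₁.1) (ψ₂ : B₂.1 ⟶ A₂.1),
        𝒳.p.IsHomLift (Over.homMk (Spec.map (CommRingCat.ofHom (algebraMap R L))) rfl :
            Over.mk (Spec.map (CommRingCat.ofHom (algebraMap R L)) ≫ a) ⟶ Over.mk a) ψ₁ →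
        𝒳.p.IsHomLift (Over.homMk (Spec.map (CommRingCat.ofHom (algebraMap R L))) rfl :
            Over.mk (Spec.map (CommRingCat.ofHom (algebraMap R L)) ≫ a) ⟶ Over.mk a) ψ₂ →
        ∀ e : B₁ ≅ B₂, ∃ E : A₁ ≅ A₂, ψ₁ ≫ E.hom.1 = e.hom.1 ≫ ψ₂) : UniqLim 𝒳 := by
  intro R _ _ _ hR L _ _ _ a A₁ A₂ B r₁ r₂ h1 h2
  have e1 : 𝒳.p.obj A₁ = Over.mk a := IsHomLift.codomain_eq 𝒳.p (jj R L a) r₁
  have e2 : 𝒳.p.obj A₂ = Over.mk a := IsHomLift.codomain_eq 𝒳.p (jj R L a) r₂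
  have e3 : 𝒳.p.obj B = Over.mk (Spec.map (CommRingCat.ofHom (algebraMap R L)) ≫ a) :=
    IsHomLift.domain_eq 𝒳.p (jj R L a) r₁
  obtain ⟨E, hE⟩ := H R hR L a ⟨A₁, e1⟩ ⟨A₂, e2⟩ ⟨B, e3⟩ ⟨B, e3⟩ r₁ r₂ h1 h2 (Iso.refl _)
  refine ⟨E.hom.1, E.hom.2, hE.trans ?_⟩
  exact Category.id_comp _

/-- **Separatedness from uniqueness of limits.** -/
theorem isSeparatedOver_any [IsLocallyNoetherian S] (h𝒳 : AlgSt.IsAlgStack Scheme.fppfPrecoverage 𝒳)
    (hsep : AlgSt.RepByAlgSpWith AlgSp.IsSeparatedMor (FibCat.diag (FibCat.toSelf 𝒳)))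
    (hqc : AlgSt.RepByAlgSpWith AlgSp.IsQuasiCompactMor (FibCat.diag (FibCat.toSelf 𝒳)))
    (hft : AlgSt.LocQ (AlgSp.LocP @LocallyOfFiniteType) (FibCat.toSelf 𝒳)) (hu : UniqLim 𝒳) :
    AlgSt.IsSeparatedOver 𝒳 := by
  obtain ⟨𝒳', e, he, h𝒳'⟩ := K738.Small.exists_model' h𝒳
  exact (K740.Inv.repByAlgSpWith_diagSelf_iff _ he).1 (isSeparatedOver h𝒳'
    ((K740.Inv.repByAlgSpWith_diagSelf_iff _ he).2 hsep) ((K740.Inv.repByAlgSpWith_diagSelf_iff _ he).2 hqc)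
    ((locQ_toSelf_iff he).2 hft) (hu.of_equiv he))

end Any

end K738.Sep
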