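import Groth.Agent.AlgSt.K747.Cover
import Groth.Agent.AlgSp.K594.Elem
import Mathlib.AlgebraicGeometry.Morphisms.FiniteType

/-!
# Small models (1): affine flat locally finitely presented schemes over a scheme form a small family
# and presheaves which are locally small are small; the sections of an algebraic space are small.

* `K738.Small.E X : Type u`, `E.obj`, `E.hom`: a small family of affine flat lfp `X`-schemes, containing all of them up to
  isomorphism (`exists_E`).
* `small_of_locSurj` : a separated presheaf which is locally a quotient of a small one is small.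
* `small_sections` : `F(T)` is `u`-small for an algebraic space `F` over `S : Scheme.{u}`.
-/

set_option autoImplicit false
set_option backward.isDefEq.respectTransparency false
set_option backward.isDefEq.respectTransparency.types false

universe w w' u

open CategoryTheory CategoryTheory.Limits AlgebraicGeometry Opposite AlgSp

namespace K738.Small

/-- flat and locally of finite presentation -/
abbrev FP : MorphismProperty Scheme.{u} := @Flat ⊓ @LocallyOfFinitePresentation

instance (X : Scheme.{u}) : EssentiallySmall.{u} (FP.{u}.CostructuredArrow ⊤ Scheme.Spec.{u} X) := by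
  refine essentiallySmall_costructuredArrow_Spec _ ?_
  rintro _ _ f ⟨_, hf⟩
  have : LocallyOfFinitePresentation f := hf
  exact (inferInstance : LocallyOfFiniteType f)

/-- a small index type of affine flat locally finitely presented schemes over `X` -/
def E (X : Scheme.{u}) : Type u := SmallModel.{u} (FP.{u}.CostructuredArrow ⊤ Scheme.Spec.{u} X)

variable {X : Scheme.{u}}

/-- the object of the costructured arrow category -/
noncomputable def E.arr (e : E X) : FP.{u}.CostructuredArrow ⊤ Scheme.Spec.{u} X :=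
  (equivSmallModel.{u} (FP.{u}.CostructuredArrow ⊤ Scheme.Spec.{u} X)).inverse.obj e

/-- the scheme of an index -/
noncomputable def E.obj (e : E X) : Scheme.{u} := Scheme.Spec.obj e.arr.left

/-- the structure morphism of an index -/
noncomputable def E.hom (e : E X) : e.obj ⟶ X := e.arr.hom

theorem E.prop (e : E X) : FP e.hom := e.arr.prop

instance (e : E X) : Flat e.hom := e.prop.1
instance (e : E X) : LocallyOfFinitePresentation e.hom := e.prop.2

/-- every affine flat lfp scheme over `X` appears up to isomorphism -/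
theorem exists_E {W : Scheme.{u}} [IsAffine W] (f : W ⟶ X) [Flat f] [LocallyOfFinitePresentation f] :
    ∃ (e : E X) (i : e.obj ≅ W), i.hom ≫ f = e.hom := by
  let g : Spec Γ(W, ⊤) ⟶ X := W.isoSpec.inv ≫ f
  have hg : FP g := ⟨inferInstance, inferInstance⟩
  let A : FP.{u}.CostructuredArrow ⊤ Scheme.Spec.{u} X :=
    MorphismProperty.CostructuredArrow.mk (A := op Γ(W, ⊤)) ⊤ g hg
  let Q := equivSmallModel.{u} (FP.{u}.CostructuredArrow ⊤ Scheme.Spec.{u} X)
  let e : E X := Q.functor.obj A
  let j : e.arr ≅ A := (Q.unitIso.app A).symm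
  let j' : Scheme.Spec.obj e.arr.left ≅ Scheme.Spec.obj (op Γ(W, ⊤)) :=
    Scheme.Spec.mapIso ((MorphismProperty.CostructuredArrow.forget FP.{u} ⊤ Scheme.Spec.{u} X ⋙
      CostructuredArrow.proj _ _).mapIso j)
  refine ⟨e, j' ≪≫ W.isoSpec.symm, ?_⟩
  have h := j.hom.w
  change (j'.hom ≫ W.isoSpec.inv) ≫ f = _
  rw [Category.assoc]
  exact h.trans (Category.comp_id _)

variable {S : Scheme.{u}} {T : Over S}

/-- the scheme of an index, over `S` -/
noncomputable abbrev E.ov (e : E T.left) : Over S := Over.mk (e.hom ≫ T.hom)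

/-- the structure morphism over `S` -/
noncomputable abbrev E.map (e : E T.left) : e.ov ⟶ T := Over.homMk e.hom rfl

/-- a covering sieve contains members of the small family through every point -/
theorem exists_E_of_mem {R : Sieve T} (hR : R ∈ J S T) (t : T.left) :
    ∃ e : E T.left, R e.map ∧ t ∈ Set.range e.hom := by
  obtain ⟨Y, g, hg, h1, h2, y, rfl⟩ := K747.Cover.mem_J_iff.1 hR t
  obtain ⟨W, hW, hy⟩ : ∃ W : Y.left.Opens, IsAffineOpen W ∧ y ∈ W := by
    obtain ⟨_, ⟨W, hW, rfl⟩, hy, -⟩ := Y.left.isBasis_affineOpens.exists_subset_of_mem_open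
      (Set.mem_univ y) isOpen_univ
    exact ⟨W, hW, hy⟩
  have : IsAffine (W : Scheme.{u}) := hW
  obtain ⟨e, i, hi⟩ := exists_E (W.ι ≫ g.left)
  refine ⟨e, ?_, ?_⟩
  · have h3 : e.map = (Over.homMk (i.hom ≫ W.ι) (by
        change (i.hom ≫ W.ι) ≫ Y.hom = e.hom ≫ T.hom
        rw [← Over.w g, ← hi]
        simp only [Category.assoc]) : e.ov ⟶ Y) ≫ g := by
      ext : 1
      change e.hom = (i.hom ≫ W.ι) ≫ g.left
      rw [Category.assoc, hi]
    rw [h3]
    exact R.downward_closed hg _
  · refine ⟨i.inv ⟨y, hy⟩, ?_⟩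
    rw [← hi]
    change (i.inv ≫ i.hom ≫ W.ι ≫ g.left) ⟨y, hy⟩ = _
    rw [Iso.inv_hom_id_assoc]
    rfl

/-- members of the small family through every point generate a covering sieve -/
theorem ofArrows_mem (e : T.left → E T.left) (he : ∀ t, t ∈ Set.range (e t).hom) :
    Sieve.ofArrows (fun t => (e t).ov) (fun t => (e t).map) ∈ J S T := by
  rw [K747.Cover.mem_J_iff]
  intro t
  exact ⟨(e t).ov, (e t).map, Sieve.ofArrows_mk _ _ t, (inferInstance : Flat (e t).hom),
    (inferInstance : LocallyOfFinitePresentation (e t).hom), he t⟩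

/-- A separated presheaf `F` on the big fppf site which is, locally, a quotient of a `u`-small one, is `u`-small. -/
theorem small_of_locSurj {F : (Over S)ᵒᵖ ⥤ Type w} (hF : Presieve.IsSeparated (J S) F)
    (H : Over S → Type w') (hH : ∀ T, Small.{u} (H T)) (p : ∀ T, H T → F.obj (op T))
    (hp : ∀ T (s : F.obj (op T)), ∃ R ∈ J S T, ∀ T' (g : T' ⟶ T), R g → ∃ a : H T', p T' a = F.map g.op s)
    (T : Over S) : Small.{u} (F.obj (op T)) := by
  have key : ∀ s : F.obj (op T), ∃ (e : T.left → E T.left) (a : ∀ t, Shrink.{u} (H (e t).ov)),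
      (∀ t, t ∈ Set.range (e t).hom) ∧ ∀ t, p _ ((equivShrink _).symm (a t)) = F.map (e t).map.op s := by
    intro s
    obtain ⟨R, hR, h⟩ := hp T s
    choose e h1 h2 using fun t => exists_E_of_mem hR t
    choose a ha using fun t => h _ _ (h1 t)
    exact ⟨e, fun t => equivShrink _ (a t), h2, fun t => by rw [Equiv.symm_apply_apply]; exact ha t⟩
  choose e a h1 h2 using key
  let c : F.obj (op T) → (T.left → Σ e : E T.left, Shrink.{u} (H e.ov)) := fun s t => ⟨e s t, a s t⟩
  refine small_of_injective (f := c) fun s s' h => ?_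
  refine (hF _ (ofArrows_mem (e s) (h1 s))).ext ?_
  rintro Y f ⟨Z, k, g, ⟨t⟩, rfl⟩
  have h3 : F.map (e s t).map.op s = F.map (e s t).map.op s' := by
    have h4 : (⟨e s t, a s t⟩ : Σ e : E T.left, Shrink.{u} (H e.ov)) = ⟨e s' t, a s' t⟩ := congrFun h t
    have h5 : ∀ (q q' : Σ e : E T.left, Shrink.{u} (H e.ov)), q = q' → p _ ((equivShrink _).symm q.2) =
        F.map q.1.map.op s → p _ ((equivShrink _).symm q'.2) = F.map q'.1.map.op s' →
          F.map q.1.map.op s = F.map q.1.map.op s' := by
      rintro q _ rfl h6 h7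
      rw [← h6, ← h7]
    exact h5 _ _ h4 (h2 s t) (h2 s' t)
  rw [op_comp, F.map_comp]
  exact congrArg (F.map k.op) h3

/-- The sections of an algebraic space over a scheme form a `u`-small set. -/
theorem small_sections (F : AlgSp.Space S) (T : Over S) : Small.{u} (F.obj.obj.obj (op T)) := by
  obtain ⟨U, p, hp1, hp2⟩ := F.property.atlas
  refine small_of_locSurj (F := F.obj.obj) ((isSheaf_iff_isSheaf_of_type _ _).1 F.obj.property).isSeparated
    (fun T => T ⟶ U) (fun T => inferInstance) (fun T t => p.hom.app (op T) ⟨t⟩) (fun T s => ?_) T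
  obtain ⟨V, v, ξ, hξ, h1⟩ := K594.Elem.RepWith.exists_isRep hp1 s
  have h2 : Surjective v.left := K594.Elem.RepWith.prop_of_isRep hp2 hξ
  have h3 : Etale v.left := h1
  refine ⟨Sieve.generate (Presieve.singleton v), ?_, ?_⟩
  · rw [K747.Cover.mem_J_iff]
    intro t
    exact ⟨V, v, ⟨V, 𝟙 V, v, Presieve.singleton_self v, Category.id_comp v⟩, inferInstance, inferInstance,
      h2.surj t⟩
  · rintro T' g ⟨Z, k, _, ⟨⟩, rfl⟩
    refine ⟨k ≫ ξ.down, ?_⟩
    have h4 : p.hom.app (op V) ξ = F.obj.obj.map v.op s := hξ.w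
    have h5 : p.hom.app (op T') (((yon S).obj U).obj.map k.op ξ) = F.obj.obj.map k.op (p.hom.app (op V) ξ) :=
      K594.Elem.app_map p k ξ
    rw [h4, ← K594.Elem.map_comp_apply] at h5
    exact h5

end K738.Small
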