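import Groth.Agent.AlgSt.K738.Small1
import Groth.Agent.AlgSt.K734.IsoPsh
import Groth.Agent.AlgSt.K747.PreOfIso
import Groth.Agent.Stk.K751.Test

/-!
# Small models (2): the morphisms of a category fibred in groupoids whose diagonal is representable by algebraic spaces
form small sets, whatever universe they live in.
-/

set_option autoImplicit false
set_option backward.isDefEq.respectTransparency false
set_option backward.isDefEq.respectTransparency.types false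

universe w v₂ u₂ u

open CategoryTheory CategoryTheory.Limits AlgebraicGeometry Opposite AlgSp K734.Fib

namespace K738.Small

variable {S : Scheme.{u}} {𝒳 : BasedCategory.{v₂, u₂} (Over S)}

theorem small_isoPsh (h𝒳 : FibCat.IsFibGrpd 𝒳.p) (hd : AlgSt.RepByAlgSp1 (FibCat.diag (FibCat.toSelf 𝒳)))
    {T : Over S} (x x' : FibCat.overCat T ⥤ᵇ 𝒳) (V : Over S) :
    Small.{u} ((K747.Sc.isoPsh.{w} h𝒳 x x').obj (op V)) := by
  let y := FibCat.fpLift x x' (eqToIso (K747.Sc.comp_toSelf_eq x x'))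
  obtain ⟨F, e, he⟩ := hd T y
  have hF := small_sections F V
  have hD := K747.Sc.toDiag_isEquivOver.{w} h𝒳 y
  have hf := full_of hD
  have key : ∀ s : (K747.Sc.isoPsh.{w} h𝒳 x x').obj (op V), ∃ t : F.obj.obj.obj (op V),
      ∃ i : e.obj ⟨V, t⟩ ≅ (K747.Sc.toDiag.{w} h𝒳 y).obj ⟨V, s⟩, IsVert _ i.hom := by
    intro s
    obtain ⟨⟨V', t⟩, i, hi⟩ := essSurjOver_of he ((K747.Sc.toDiag.{w} h𝒳 y).obj ⟨V, s⟩)
    have h1 : V' = V := (e.w_obj _).symm.trans (hi.obj_eq.trans ((K747.Sc.toDiag.{w} h𝒳 y).w_obj ⟨V, s⟩))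
    subst h1
    exact ⟨t, i, hi⟩
  choose t i hi using key
  refine small_of_injective (f := t) fun s s' h => ?_
  have h1 : ∃ m : (K747.Sc.toDiag.{w} h𝒳 y).obj ⟨V, s⟩ ⟶ (K747.Sc.toDiag.{w} h𝒳 y).obj ⟨V, s'⟩, IsVert _ m := by
    have h2 := i s'
    have h3 := hi s'
    exact ⟨(i s).inv ≫ eqToHom (by rw [h]) ≫ (i s').hom, (hi s).inv.comp ((IsVert.eqToHom (by rw [h])).comp (hi s'))⟩
  obtain ⟨m, hm⟩ := h1
  obtain ⟨n, rfl⟩ := (K747.Sc.toDiag.{w} h𝒳 y).toFunctor.map_surjective m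
  have h4 : IsVert (Stk.ofPsh (K747.Sc.isoPsh.{w} h𝒳 (K747.Sc.y1 y) (K747.Sc.y2 y))) n := hm.of_map _
  exact K734.Fib.elt_inj (K734.Fib.eq_of_vert h4)

/-- the lifts of one morphism of the base form a small set -/
theorem small_lifts (h𝒳 : FibCat.IsFibGrpd 𝒳.p) (hd : AlgSt.RepByAlgSp1 (FibCat.diag (FibCat.toSelf 𝒳)))
    {T T' : Over S} (f : T ⟶ T') (a b : 𝒳.obj) : Small.{u} {φ : a ⟶ b // 𝒳.p.IsHomLift f φ} := by
  by_cases hne : Nonempty {φ : a ⟶ b // 𝒳.p.IsHomLift f φ}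
  · obtain ⟨φ₀, hφ₀⟩ := hne
    have ha : 𝒳.p.obj a = T := IsHomLift.domain_eq 𝒳.p f φ₀
    let x := K751.Test.yo h𝒳 a ha
    let εa := K751.Test.yoε h𝒳 a ha (Over.mk (𝟙 T))
    have hεa : 𝒳.p.IsHomLift (𝟙 T) εa := K751.Test.yoε_lift h𝒳 a ha (Over.mk (𝟙 T))
    have hiso : IsIso εa := K751.FG.isIso_of_lift_id h𝒳 εa hεa
    have key : ∀ φ : {φ : a ⟶ b // 𝒳.p.IsHomLift f φ}, ∃ χ : x.obj (Over.mk (𝟙 T)) ⟶ x.obj (Over.mk (𝟙 T)),
        𝒳.p.IsHomLift (𝟙 T) χ ∧ χ ≫ εa ≫ φ₀ = εa ≫ φ.1 := by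
      intro φ
      have h1 : 𝒳.p.IsHomLift (𝟙 T ≫ f) (εa ≫ φ₀) := IsHomLift.comp 𝒳.p _ _ _ _
      have h2 := φ.2
      have h3 : 𝒳.p.IsHomLift (𝟙 T ≫ f) (εa ≫ φ.1) := IsHomLift.comp 𝒳.p _ _ _ _
      exact K751.FG.exists_factor h𝒳 (𝟙 T) (Category.id_comp _) _ _ h1 h3
    choose χ h1 h2 using key
    let g : {φ : a ⟶ b // 𝒳.p.IsHomLift f φ} → (K747.Sc.isoPsh.{v₂} h𝒳 x x).obj (op T) := fun φ =>
      ⟨⟨⟨𝟙 T, 𝟙 T, χ φ, h1 φ⟩⟩, rfl⟩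
    have := small_isoPsh.{v₂} h𝒳 hd x x T
    refine small_of_injective (f := g) fun φ φ' h => ?_
    have h3 : (⟨𝟙 T, 𝟙 T, χ φ, h1 φ⟩ : K747.Sc.Sec x x T) = ⟨𝟙 T, 𝟙 T, χ φ', h1 φ'⟩ :=
      congrArg (fun s => s.1.down) h
    have h4 : χ φ = χ φ' := by injection h3
    apply Subtype.ext
    rw [← cancel_epi εa, ← h2, ← h2, h4]
  · have : IsEmpty {φ : a ⟶ b // 𝒳.p.IsHomLift f φ} := not_nonempty_iff.1 hne
    infer_instance

/-- the morphisms of an algebraic stack form small sets -/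
theorem locallySmall (h𝒳 : FibCat.IsFibGrpd 𝒳.p) (hd : AlgSt.RepByAlgSp1 (FibCat.diag (FibCat.toSelf 𝒳))) :
    LocallySmall.{u} 𝒳.obj := by
  refine ⟨fun a b => ?_⟩
  have := fun f : 𝒳.p.obj a ⟶ 𝒳.p.obj b => small_lifts h𝒳 hd f a b
  let g : (a ⟶ b) → Σ f : 𝒳.p.obj a ⟶ 𝒳.p.obj b, {φ : a ⟶ b // 𝒳.p.IsHomLift f φ} := fun φ =>
    ⟨𝒳.p.map φ, φ, inferInstance⟩
  refine small_of_injective (f := g) fun φ φ' h => ?_
  have h2 : (g φ).2.1 = (g φ').2.1 := by rw [h]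
  exact h2

end K738.Small
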