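import Groth.Agent.AlgSt.K738.Small2
import Groth.Agent.AlgSt.K745.Refine

/-!
# Small models (3): up to vertical isomorphism, the objects of an algebraic stack over one scheme form a small set.
-/

set_option autoImplicit false
set_option backward.isDefEq.respectTransparency false
set_option backward.isDefEq.respectTransparency.types false

universe w v₂ u₂ v u

open CategoryTheory CategoryTheory.Limits Opposite K734.Fib

namespace K738.Small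

section Glue

variable {C : Type u} [Category.{v} C] {𝒳 : BasedCategory.{v₂, u₂} C}

/-- Two objects with the same descent data are vertically isomorphic. -/
theorem exists_vert_of_data {J : GrothendieckTopology C} (hp : Stk.IsPrestack J 𝒳) {T : C} {x x' : 𝒳.obj}
    (hx : 𝒳.p.obj x = T) (hx' : 𝒳.p.obj x' = T) {I : Type w} {W : I → C} (r : ∀ i, W i ⟶ T)
    (hr : Sieve.ofArrows W r ∈ J T) (w : I → 𝒳.obj) (α : ∀ i, w i ⟶ x) (α' : ∀ i, w i ⟶ x')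
    (hα : ∀ i, 𝒳.p.IsHomLift (r i) (α i)) (hα' : ∀ i, 𝒳.p.IsHomLift (r i) (α' i))
    {V : I → I → C} (p₁ : ∀ i j, V i j ⟶ W i) (p₂ : ∀ i j, V i j ⟶ W j)
    (sq : ∀ i j, IsPullback (p₁ i j) (p₂ i j) (r i) (r j)) (v : I → I → 𝒳.obj) (γ : ∀ i j, v i j ⟶ w i)
    (hγ : ∀ i j, 𝒳.p.IsHomLift (p₁ i j) (γ i j)) (δ : ∀ i j, v i j ⟶ w j) (hδ : ∀ i j, 𝒳.p.IsHomLift (p₂ i j) (δ i j))
    (h : ∀ i j, γ i j ≫ α i = δ i j ≫ α j) (h' : ∀ i j, γ i j ≫ α' i = δ i j ≫ α' j) :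
    ∃ ψ : x ≅ x', IsVert 𝒳 ψ.hom := by
  have h𝒳 : FibCat.IsFibGrpd 𝒳.p := hp.1
  subst hx
  let R : Sieve (𝒳.p.obj x) := Sieve.ofArrows W r
  have hG : K751.Test.GlueFrom 𝒳.p x R := K751.Test.glueFrom_of_isPrestackFor h𝒳 x R (hp.2 R hr)
  -- independence of the choices
  have ind : ∀ {z : 𝒳.obj} {Z : C} {i j : I} (k : Z ⟶ W i) (l : Z ⟶ W j) (χ : z ⟶ w i) (χ' : z ⟶ w j),
      𝒳.p.IsHomLift k χ → 𝒳.p.IsHomLift l χ' → χ ≫ α i = χ' ≫ α j → χ ≫ α' i = χ' ≫ α' j := by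
    intro z Z i j k l χ χ' hk hl e
    have e1 : k ≫ r i = l ≫ r j := by
      have h1 := hα i
      have h2 := hα j
      have h3 : 𝒳.p.IsHomLift (k ≫ r i) (χ ≫ α i) := IsHomLift.comp 𝒳.p _ _ _ _
      have h4 : 𝒳.p.IsHomLift (l ≫ r j) (χ' ≫ α j) := IsHomLift.comp 𝒳.p _ _ _ _
      rw [← e] at h4
      have h5 := IsHomLift.fac 𝒳.p (k ≫ r i) (χ ≫ α i)
      have h6 := IsHomLift.fac 𝒳.p (l ≫ r j) (χ ≫ α i)
      rw [h5, h6]
    let m : Z ⟶ V i j := (sq i j).lift k l e1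
    obtain ⟨κ, hκ, eκ⟩ := K751.FG.exists_factor h𝒳 m ((sq i j).lift_fst k l e1) (γ i j) χ (hγ i j) hk
    have e2 : κ ≫ δ i j = χ' := by
      have h7 := hδ i j
      have h8 : 𝒳.p.IsHomLift (m ≫ p₂ i j) (κ ≫ δ i j) := IsHomLift.comp 𝒳.p _ _ _ _
      rw [(sq i j).lift_snd] at h8
      refine K751.FG.cancel' h𝒳 l (α j) h8 hl ?_
      rw [Category.assoc, ← h, ← Category.assoc, eκ, e]
    rw [← e2, ← eκ, Category.assoc, Category.assoc, h']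
  -- the family
  have fac : ∀ ⦃z : 𝒳.obj⦄ (a : z ⟶ x), R (𝒳.p.map a) → ∃ (i : I) (k : 𝒳.p.obj z ⟶ W i) (χ : z ⟶ w i),
      𝒳.p.IsHomLift k χ ∧ χ ≫ α i = a := by
    intro z a ha
    obtain ⟨Z, k, _, ⟨i⟩, hk⟩ := ha
    obtain ⟨χ, hχ, eχ⟩ := K751.FG.exists_factor h𝒳 k hk (α i) a (hα i) inferInstance
    exact ⟨i, k, χ, hχ, eχ⟩
  choose i k χ hχ eχ using fac
  obtain ⟨ψ, ⟨hψ, eψ⟩, -⟩ := hG (y := x') (eqToHom hx'.symm) (fun z a ha => χ a ha ≫ α' (i a ha))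
    (fun z a ha => by
      have h1 := hα' (i a ha)
      have h2 := hχ a ha
      have h3 : 𝒳.p.IsHomLift (k a ha ≫ r (i a ha)) (χ a ha ≫ α' (i a ha)) := IsHomLift.comp 𝒳.p _ _ _ _
      have h4 := hα (i a ha)
      have h5 : 𝒳.p.IsHomLift (k a ha ≫ r (i a ha)) (χ a ha ≫ α (i a ha)) := IsHomLift.comp 𝒳.p _ _ _ _
      rw [eχ] at h5
      have h6 := IsHomLift.fac' 𝒳.p (k a ha ≫ r (i a ha)) (χ a ha ≫ α' (i a ha))
      have h7 := IsHomLift.fac' 𝒳.p (k a ha ≫ r (i a ha)) a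
      rw [h6, h7]
      simp)
    (fun z' z b a ha hba => by
      have h2 := hχ a ha
      have h3 : 𝒳.p.IsHomLift (𝒳.p.map b ≫ k a ha) (b ≫ χ a ha) := IsHomLift.comp 𝒳.p _ _ _ _
      rw [← Category.assoc]
      exact ind _ _ _ _ (hχ (b ≫ a) hba) h3 (by rw [eχ, Category.assoc, eχ]))
  have hv : IsVert 𝒳 ψ := isVert_iff.2 ⟨hx'.symm, hψ⟩
  have : IsIso ψ := K751.FG.isIso_of_lift_id h𝒳 ψ (hv.lift rfl)
  exact ⟨asIso ψ, hv⟩

end Glue

section Objects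

open AlgebraicGeometry AlgSp

variable {S : Scheme.{u}} {𝒳 : BasedCategory.{v₂, u₂} (Over S)} {U : Over S}

/-- the sieve of arrows to `p x` along which `x` is pulled back from the chart `X` -/
def liftSieve (X : FibCat.overCat U ⥤ᵇ 𝒳) (x : 𝒳.obj) (T : Over S) : Sieve T where
  arrows T' g := ∃ (a : T' ⟶ U) (α : X.obj (Over.mk a) ⟶ x), 𝒳.p.IsHomLift g α
  downward_closed := by
    rintro T' T'' g ⟨a, α, hα⟩ k
    refine ⟨k ≫ a, X.map (K747.Sc.om k a (k ≫ a) rfl) ≫ α, ?_⟩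
    have h1 := K747.Sc.om_lift X k a (k ≫ a) rfl
    exact IsHomLift.comp 𝒳.p _ _ _ _

theorem liftSieve_mem (h𝒳 : FibCat.IsFibGrpd 𝒳.p) {X : FibCat.overCat U ⥤ᵇ 𝒳}
    (hs : AlgSt.RepByAlgSpWith (AlgSp.LocP @Smooth) X) (hsurj : AlgSt.RepByAlgSpWith AlgSp.IsSurjectiveMor X)
    (x : 𝒳.obj) {T : Over S} (hx : 𝒳.p.obj x = T) : liftSieve X x T ∈ J S T := by
  let y := K751.Test.yo h𝒳 x hx
  obtain ⟨T', g₁, g₂, ⟨i⟩, h1, h2⟩ := K745.Refine.exists_refinement hs hsurj y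
  rw [K747.Cover.mem_J_iff]
  intro t
  refine ⟨T', g₁, ⟨g₂, ?_⟩, inferInstance, inferInstance, h2.surj t⟩
  let j : (Over.mk g₂ : Over U) ⟶ Over.mk (𝟙 T' ≫ g₂) := Over.homMk (𝟙 T') rfl
  let m : X.obj (Over.mk (𝟙 T' ≫ g₂)) ⟶ y.obj (Over.mk (𝟙 T' ≫ g₁)) := i.inv.toNatTrans.app (Over.mk (𝟙 T'))
  have hm : IsVert 𝒳 m := hom_vert i.inv _
  have h3 : 𝒳.p.IsHomLift (𝟙 T') m := hm.lift (X.w_obj _)
  have h4 : 𝒳.p.IsHomLift (𝟙 T') (X.map j) := K747.Sc.om_lift X (𝟙 T') (𝟙 T' ≫ g₂) g₂ _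
  have h5 : 𝒳.p.IsHomLift (𝟙 T' ≫ g₁) (K751.Test.yoε h𝒳 x hx (Over.mk (𝟙 T' ≫ g₁))) :=
    K751.Test.yoε_lift h𝒳 x hx (Over.mk (𝟙 T' ≫ g₁))
  have h6 : 𝒳.p.IsHomLift (𝟙 T' ≫ 𝟙 T' ≫ (𝟙 T' ≫ g₁)) (X.map j ≫ m ≫ K751.Test.yoε h𝒳 x hx (Over.mk (𝟙 T' ≫ g₁))) := by
    have h7 : 𝒳.p.IsHomLift (𝟙 T' ≫ 𝟙 T' ≫ g₁) (m ≫ K751.Test.yoε h𝒳 x hx (Over.mk (𝟙 T' ≫ g₁))) :=
      IsHomLift.comp 𝒳.p _ _ _ _
    exact IsHomLift.comp 𝒳.p _ _ _ _
  refine ⟨X.map j ≫ m ≫ K751.Test.yoε h𝒳 x hx (Over.mk (𝟙 T' ≫ g₁)), ?_⟩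
  exact K751.FG.isHomLift_congr h6 (by simp only [Category.id_comp])

/-- local data of an object over `T`: a covering by members of the small family, points of the atlas, and the descent
isomorphisms -/
structure LData (X : FibCat.overCat U ⥤ᵇ 𝒳) (T : Over S) where
  e : T.left → E T.left
  a : ∀ t, (e t).ov ⟶ U
  δ : ∀ t t', {δ : X.obj (Over.mk (pullback.fst (e t).map (e t').map ≫ a t)) ⟶ X.obj (Over.mk (a t')) //
    𝒳.p.IsHomLift (pullback.snd (e t).map (e t').map) δ}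

theorem small_lData (h𝒳 : FibCat.IsFibGrpd 𝒳.p) (hd : AlgSt.RepByAlgSp1 (FibCat.diag (FibCat.toSelf 𝒳)))
    (X : FibCat.overCat U ⥤ᵇ 𝒳) (T : Over S) : Small.{u} (LData X T) := by
  let Q := Σ (e : T.left → E T.left) (a : ∀ t, (e t).ov ⟶ U), ∀ t t',
    {δ : X.obj (Over.mk (pullback.fst (e t).map (e t').map ≫ a t)) ⟶ X.obj (Over.mk (a t')) //
    𝒳.p.IsHomLift (pullback.snd (e t).map (e t').map) δ}
  have : ∀ (e : T.left → E T.left) (a : ∀ t, (e t).ov ⟶ U) (t t' : T.left),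
      Small.{u} {δ : X.obj (Over.mk (pullback.fst (e t).map (e t').map ≫ a t)) ⟶ X.obj (Over.mk (a t')) //
    𝒳.p.IsHomLift (pullback.snd (e t).map (e t').map) δ} := fun e a t t' => small_lifts h𝒳 hd _ _ _
  have h1 : Small.{u} Q := inferInstance
  refine small_of_injective (β := Q) (f := fun d => ⟨d.e, d.a, d.δ⟩) ?_
  rintro ⟨e, a, δ⟩ ⟨e', a', δ'⟩ h
  obtain rfl : e = e' := congrArg Sigma.fst h
  have h2 := eq_of_heq (Sigma.mk.inj_iff.1 h).2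
  obtain rfl : a = a' := congrArg Sigma.fst h2
  obtain rfl : δ = δ' := eq_of_heq (Sigma.mk.inj_iff.1 h2).2
  rfl

/-- the data belong to the object `x` -/
def LData.IsData {X : FibCat.overCat U ⥤ᵇ 𝒳} {T : Over S} (d : LData X T) (x : 𝒳.obj) : Prop :=
  (∀ t, t ∈ Set.range (d.e t).hom) ∧ ∃ α : ∀ t, X.obj (Over.mk (d.a t)) ⟶ x, (∀ t, 𝒳.p.IsHomLift (d.e t).map (α t)) ∧
    ∀ t t', X.map (Over.homMk (pullback.fst (d.e t).map (d.e t').map) rfl :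
      Over.mk (pullback.fst (d.e t).map (d.e t').map ≫ d.a t) ⟶ Over.mk (d.a t)) ≫ α t = (d.δ t t').1 ≫ α t'

theorem exists_isData (h𝒳 : FibCat.IsFibGrpd 𝒳.p) {X : FibCat.overCat U ⥤ᵇ 𝒳}
    (hs : AlgSt.RepByAlgSpWith (AlgSp.LocP @Smooth) X) (hsurj : AlgSt.RepByAlgSpWith AlgSp.IsSurjectiveMor X)
    (x : 𝒳.obj) {T : Over S} (hx : 𝒳.p.obj x = T) : ∃ d : LData X T, d.IsData x := by
  have h1 := liftSieve_mem h𝒳 hs hsurj x hx
  choose e he ht using fun t => exists_E_of_mem h1 t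
  choose a α hα using he
  have key : ∀ t t', ∃ δ : X.obj (Over.mk (pullback.fst (e t).map (e t').map ≫ a t)) ⟶ X.obj (Over.mk (a t')),
      𝒳.p.IsHomLift (pullback.snd (e t).map (e t').map) δ ∧ δ ≫ α t' =
        X.map (Over.homMk (pullback.fst (e t).map (e t').map) rfl :
          Over.mk (pullback.fst (e t).map (e t').map ≫ a t) ⟶ Over.mk (a t)) ≫ α t := by
    intro t t'
    have h2 : 𝒳.p.IsHomLift (pullback.fst (e t).map (e t').map) (X.map (Over.homMk (pullback.fst (e t).map (e t').map)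
        rfl : Over.mk (pullback.fst (e t).map (e t').map ≫ a t) ⟶ Over.mk (a t))) := K747.Sc.om_lift X _ _ _ rfl
    have h3 := hα t
    have h4 : 𝒳.p.IsHomLift (pullback.fst (e t).map (e t').map ≫ (e t).map) (X.map (Over.homMk
        (pullback.fst (e t).map (e t').map) rfl : Over.mk (pullback.fst (e t).map (e t').map ≫ a t) ⟶
          Over.mk (a t)) ≫ α t) := IsHomLift.comp 𝒳.p _ _ _ _
    exact K751.FG.exists_factor h𝒳 _ pullback.condition.symm (α t') _ (hα t') h4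
  choose δ hδ eδ using key
  exact ⟨⟨e, a, fun t t' => ⟨δ t t', hδ t t'⟩⟩, ht, α, hα, fun t t' => (eδ t t').symm⟩

theorem exists_vert_of_isData (hp : Stk.IsPrestack (J S) 𝒳) {X : FibCat.overCat U ⥤ᵇ 𝒳} {T : Over S} {d : LData X T}
    {x x' : 𝒳.obj} (hx : 𝒳.p.obj x = T) (hx' : 𝒳.p.obj x' = T) (h : d.IsData x) (h' : d.IsData x') :
    ∃ ψ : x ≅ x', IsVert 𝒳 ψ.hom := by
  obtain ⟨ht, α, hα, eα⟩ := h
  obtain ⟨-, α', hα', eα'⟩ := h'
  exact exists_vert_of_data hp hx hx' (fun t => (d.e t).map) (ofArrows_mem d.e ht) (fun t => X.obj (Over.mk (d.a t)))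
    α α' hα hα' (fun t t' => pullback.fst (d.e t).map (d.e t').map) (fun t t' => pullback.snd (d.e t).map (d.e t').map)
    (fun t t' => IsPullback.of_hasPullback _ _) _ _ (fun t t' => K747.Sc.om_lift X _ _ _ rfl) (fun t t' => (d.δ t t').1)
    (fun t t' => (d.δ t t').2) eα eα'

end Objects

end K738.Small
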