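import Groth.Agent.AlgSt.K738.Small3
import Groth.Agent.AlgSt.K740.Inv

/-!
# Small models (4): every algebraic stack, in whatever universes, is equivalent over `(Sch/S)` to one in `AlgSt.Cat S`.

* `exists_model_of` : from a smooth surjective atlas, a representable diagonal, and the prestack condition.
* `exists_model` : `IsAlgStack fppf 𝒳` gives `𝒳' : AlgSt.Cat S` and an equivalence `e : 𝒳' ⥤ᵇ 𝒳` over `(Sch/S)`.
-/

set_option autoImplicit false
set_option backward.isDefEq.respectTransparency false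
set_option backward.isDefEq.respectTransparency.types false

universe w v₂ u₂ v u

open CategoryTheory CategoryTheory.Limits AlgebraicGeometry Opposite AlgSp K734.Fib

namespace K738.Small

variable {S : Scheme.{u}} {𝒳 : BasedCategory.{v₂, u₂} (Over S)}

/-- the objects of the small model attached to families `ι T : I T → 𝒳.obj` -/
def MObj {I : Over S → Type u} (_ : ∀ T, I T → 𝒳.obj) : Type (u + 1) := Σ T, I T

variable {I : Over S → Type u} (ι : ∀ T, I T → 𝒳.obj)

/-- the object of `𝒳` of an object of the model -/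
def MObj.to (a : MObj ι) : 𝒳.obj := ι a.1 a.2

noncomputable instance [LocallySmall.{u} 𝒳.obj] : Category.{u} (MObj ι) where
  Hom a b := Shrink.{u} (a.to ⟶ b.to)
  id a := equivShrink _ (𝟙 a.to)
  comp f g := equivShrink _ ((equivShrink _).symm f ≫ (equivShrink _).symm g)
  id_comp f := by
    rw [Equiv.symm_apply_apply, Category.id_comp, Equiv.apply_symm_apply]
  comp_id f := by
    rw [Equiv.symm_apply_apply, Category.comp_id, Equiv.apply_symm_apply]
  assoc f g h := by
    rw [Equiv.symm_apply_apply, Equiv.symm_apply_apply, Category.assoc]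

/-- the functor from the model -/
noncomputable def MObj.fn [LocallySmall.{u} 𝒳.obj] : MObj ι ⥤ 𝒳.obj where
  obj a := a.to
  map f := (equivShrink _).symm f
  map_id _ := Equiv.symm_apply_apply _ _
  map_comp _ _ := Equiv.symm_apply_apply _ _

/-- the small model -/
noncomputable def model [LocallySmall.{u} 𝒳.obj] : AlgSt.Cat S where
  obj := MObj ι
  p := MObj.fn ι ⋙ 𝒳.p

/-- the functor from the small model -/
noncomputable def incl [LocallySmall.{u} 𝒳.obj] : model ι ⥤ᵇ 𝒳 where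
  toFunctor := MObj.fn ι
  w := rfl

theorem isEquivOver_incl [LocallySmall.{u} 𝒳.obj] (h : ∀ x : 𝒳.obj, ∃ (T : Over S) (i : I T) (ψ : ι T i ≅ x), IsVert 𝒳 ψ.hom) :
    FibCat.IsEquivOver (incl ι) := by
  refine isEquivOver_of ⟨?_⟩ ⟨?_⟩ ?_
  · intro a b f
    exact ⟨equivShrink _ f, Equiv.symm_apply_apply _ _⟩
  · intro a b f g h
    exact (equivShrink _).symm.injective h
  · intro x
    obtain ⟨T, i, ψ, hψ⟩ := h x
    exact ⟨(⟨T, i⟩ : MObj ι), ψ, hψ⟩

theorem exists_model_of (hp : Stk.IsPrestack (J S) 𝒳) (hd : AlgSt.RepByAlgSp1 (FibCat.diag (FibCat.toSelf 𝒳)))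
    (ha : AlgSt.HasAtlas (AlgSp.LocP @Smooth) 𝒳) :
    ∃ (𝒳' : AlgSt.Cat S) (e : 𝒳' ⥤ᵇ 𝒳), FibCat.IsEquivOver e := by
  have h𝒳 : FibCat.IsFibGrpd 𝒳.p := hp.1
  obtain ⟨U, X, hs, hsurj⟩ := ha
  have h1 := locallySmall h𝒳 hd
  have h2 := fun T => small_lData h𝒳 hd X T
  let I : Over S → Type u := fun T => {d : Shrink.{u} (LData X T) //
    ∃ x, 𝒳.p.obj x = T ∧ ((equivShrink (LData X T)).symm d).IsData x}
  let ι : ∀ T, I T → 𝒳.obj := fun T d => d.2.choose
  refine ⟨model ι, incl ι, isEquivOver_incl ι fun x => ?_⟩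
  obtain ⟨d, hd⟩ := exists_isData h𝒳 hs hsurj x rfl
  have h3 : ((equivShrink (LData X (𝒳.p.obj x))).symm (equivShrink _ d)).IsData x := by
    rw [Equiv.symm_apply_apply]
    exact hd
  let i : I (𝒳.p.obj x) := ⟨equivShrink _ d, x, rfl, h3⟩
  obtain ⟨h4, h5⟩ := i.2.choose_spec
  obtain ⟨ψ, hψ⟩ := exists_vert_of_isData hp h4 rfl h5 h3
  exact ⟨_, i, ψ, hψ⟩

/-- Every algebraic stack is equivalent over `(Sch/S)` to one whose objects form a `Type (u+1)` and whose morphisms form
a `Type u`. -/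
theorem exists_model (h : AlgSt.IsAlgStack Scheme.fppfPrecoverage 𝒳) :
    ∃ (𝒳' : AlgSt.Cat S) (e : 𝒳' ⥤ᵇ 𝒳), FibCat.IsEquivOver e :=
  exists_model_of (K751.Test.isPrestack_of_isStack h.isStack) h.diag h.atlas

/-- The same, with the algebraicity of the model. -/
theorem exists_model' (h : AlgSt.IsAlgStack Scheme.fppfPrecoverage 𝒳) :
    ∃ (𝒳' : AlgSt.Cat S) (e : 𝒳' ⥤ᵇ 𝒳), FibCat.IsEquivOver e ∧ AlgSt.IsAlgStack Scheme.fppfPrecoverage 𝒳' := by
  obtain ⟨𝒳', e, he⟩ := exists_model h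
  exact ⟨𝒳', e, he, (K740.Inv.isAlgStack_iff _ he).2 h⟩

end K738.Small
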