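import Groth.Agent.AlgSt.K738.Largest8
import Groth.Agent.AlgSp.K609.GrpLocInst
import Groth.Agent.AlgSp.K629.Basic
import Groth.Agent.AlgSp.K616.NearDim
import Groth.Agent.AlgSt.K739.Props
import Groth.Agent.S10313

/-!
# Largest open subspaces for properties whose locus commutes with all base changes (unramified, locally quasi-finite)

For `P` with `K609.GrpLoc.GLoc P` (a property étale local on source and target, stable under base change, whose locus on
morphisms locally of finite type can be tested after any base change), the largest open subspace on which a morphism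
locally of finite type has `P` exists and commutes with every base change.
-/

set_option autoImplicit false
set_option backward.isDefEq.respectTransparency false
set_option backward.isDefEq.respectTransparency.types false

universe u

open CategoryTheory CategoryTheory.Limits AlgebraicGeometry Opposite AlgSp K609.GrpLoc

namespace K738.LOpen

variable {S : Scheme.{u}} {P : MorphismProperty Scheme.{u}}

theorem repWith_etale_of_open {X Y : Sp S} {j : X ⟶ Y} (hj : RepWith @IsOpenImmersion j) : RepWith @Etale j :=
  MorphismProperty.relative_monotone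
    (fun _ _ g hg => by
      have : IsOpenImmersion g.left := hg
      exact (inferInstance : Etale g.left)) _ hj

/-- `P` on an open subspace. -/
theorem locP_comp_iff (hP : GLoc P) {X Y W : Space S} (f : X ⟶ Y) (w : W ⟶ X)
    (hw : RepWith @IsOpenImmersion w.hom) : LocP P (w ≫ f).hom ↔
      Set.range (Points.map w.hom) ⊆ {x | HasAtMor (K616.Near.Near P) f.hom x} := by
  have := hP.zar
  change LocP P (w.hom ≫ f.hom) ↔ _
  rw [K616.Near.locP_iff_near hP.et W.property Y.property, Set.range_subset_iff]
  refine forall_congr' fun x => ?_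
  exact K616.NearDim.hasAtMor_precomp (K616.Near.etInvOn_near hP.et) W.property Y.property
    (repWith_etale_of_open hw) (K616.Inv.locP_top _) x

/-- The largest open subspace is the open subspace of the locus. -/
theorem largest_iff (hP : GLoc P) {X Y W : Space S} (f : X ⟶ Y) (w : W ⟶ X)
    (hw : RepWith @IsOpenImmersion w.hom) : Largest (LocP P) f w ↔
      Set.range (Points.map w.hom) = {x | HasAtMor (K616.Near.Near P) f.hom x} := by
  constructor
  · rintro ⟨-, h1, h2⟩
    refine Set.Subset.antisymm ((locP_comp_iff hP f w hw).1 h1) ?_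
    obtain ⟨W₁, w₁, hw₁, hr⟩ := K610.Sub.exists_open_subspace X _ (K616.Near.isOpen_near P f.hom)
    obtain ⟨k, hk⟩ := h2 W₁ w₁ hw₁ ((locP_comp_iff hP f w₁ hw₁).2 hr.le)
    have hk' : k.hom ≫ w.hom = w₁.hom := congrArg (fun m => m.hom) hk
    rw [← hr]
    rintro _ ⟨x, rfl⟩
    refine ⟨Points.map k.hom x, ?_⟩
    rw [← Points.map_comp, hk']
  · intro h
    refine ⟨hw, (locP_comp_iff hP f w hw).2 h.le, fun W₁ w₁ hw₁ h1 => ?_⟩
    have h2 := (locP_comp_iff hP f w₁ hw₁).1 h1
    rw [← h, ← K610.Factor.factors_open_iff hw] at h2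
    obtain ⟨g, hg⟩ := h2
    exact ⟨ObjectProperty.homMk g, ObjectProperty.hom_ext _ hg⟩

theorem exists_largest (hP : GLoc P) {X Y : Space S} (f : X ⟶ Y) :
    ∃ (W : Space S) (w : W ⟶ X), Largest (LocP P) f w := by
  obtain ⟨W, w, hw, hr⟩ := K610.Sub.exists_open_subspace X _ (K616.Near.isOpen_near P f.hom)
  exact ⟨W, w, (largest_iff hP f w hw).2 hr⟩

theorem bc_of_gLoc (hP : GLoc P) : BC (LocP P) (LocP @LocallyOfFiniteType) (⊤ : MorphismProperty (Sp S)) := by
  intro X Y X' Y' f g f' g' sq hf _ W w hw W' w' k sq'
  have hw' : RepWith @IsOpenImmersion w'.hom :=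
    MorphismProperty.of_isPullback (P := RepWith @IsOpenImmersion) sq' hw.1
  rw [largest_iff hP f' w' hw']
  rw [largest_iff hP f w hw.1] at hw
  ext x'
  rw [Set.mem_setOf_eq, ← hasAtMor_bc hP X.property Y.property Y'.property X'.property sq hf]
  have h1 : HasAtMor (K616.Near.Near P) f.hom (Points.map g'.hom x') ↔
      Points.map g'.hom x' ∈ Set.range (Points.map w.hom) := by rw [hw, Set.mem_setOf_eq]
  rw [h1]
  constructor
  · rintro ⟨x, rfl⟩
    refine ⟨Points.map k.hom x, ?_⟩
    rw [← Points.map_comp, sq'.w, Points.map_comp]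
  · rintro ⟨x, hx⟩
    obtain ⟨z, -, hz⟩ := K629.Basic.exists_point sq' x x' hx
    exact ⟨z, hz⟩

/-- The set-up for the largest open substack, for such a property. -/
theorem setup_of_gLoc (hP : GLoc P) (hloc : IsLocalOnBase IsFppfCover (LocP (S := S) P)) :
    Setup (LocP P) (LocP @LocallyOfFiniteType) (⊤ : MorphismProperty (Sp S)) where
  hPb := by
    have := hP.bc
    intro X₁ Y₁ X₂ Y₂ h₁ h₂ h₃ h₄ a b a' b' sq h
    exact K597.locP_bc hP.et sq h₁.hasAtlas h₂.hasAtlas h₄.hasAtlas h
  hQb := K734.Rep.nice_lft.bc
  hP := hloc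
  hsm := fun _ _ _ _ => trivial
  ex := fun _ _ f _ => exists_largest hP f
  bc := bc_of_gLoc hP

/-- Unramified morphisms. -/
abbrev Unr : MorphismProperty Scheme.{u} := @LocallyOfFiniteType ⊓ @FormallyUnramified

theorem nice_unr : K734.Rep.Nice (S := S) (LocP Unr) := by
  have : (Unr.{u}).IsStableUnderBaseChange := K597.stableBC_inf _ _
  have : (Unr.{u}).IsStableUnderComposition := inferInstance
  exact K734.Rep.nice_locP K597.etLoc_unram (K627.FpqcLocPInst.unram S)

theorem setup_unr (S : Scheme.{u}) : Setup (LocP Unr) (LocP @LocallyOfFiniteType) (⊤ : MorphismProperty (Sp S)) :=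
  setup_of_gLoc gLoc_unram nice_unr.loc

end K738.LOpen
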