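import Groth.Agent.AlgSt.K738.Unr1
import Groth.Agent.AlgSt.K736.InertiaSub
import Groth.Agent.AlgSt.K740.LocSelf
import Groth.Agent.CurvSt.K901.OpenSub
import Groth.Agent.S12877
import Groth.Agent.S19908
import Groth.Agent.S12765
import Groth.Agent.AlgSt.K744.AlgOver

/-!
# The largest open substack on which the diagonal has `P` (unramified, locally quasi-finite), and the automorphism spaces
-/

set_option autoImplicit false
set_option backward.isDefEq.respectTransparency false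
set_option backward.isDefEq.respectTransparency.types false

universe v₁ w₁ v' w' v w u

open CategoryTheory CategoryTheory.Limits AlgebraicGeometry Opposite AlgSp K609.GrpLoc K734.Fib

namespace K738.Unr

variable {S : Scheme.{u}}

section Generic

variable {𝒳 : BasedCategory.{v, w} (Over S)} {Q : 𝒳.obj → Prop} {R : MorphismProperty (Sp S)}

/-- The inertia of `𝒳` over a chart of a full subcategory. -/
theorem repByAlgSpWith_fpFst_inertia_iff_of_factor {U : Over S} {x : FibCat.overCat U ⥤ᵇ 𝒳} (hx : ∀ u, Q (x.obj u)) :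
    AlgSt.RepByAlgSpWith R (FibCat.fpFst (K901.SubStack.liftFun x hx)
        (FibCat.inertiaToBase (FibCat.toSelf (AlgSt.fullSub 𝒳 Q)))) ↔
      AlgSt.RepByAlgSpWith R (FibCat.fpFst x (FibCat.inertiaToBase (FibCat.toSelf 𝒳))) :=
  K740.Inertia.repByAlgSpWith_iff_of_equiv
    ((K736.InertiaSub.isCart Q).cmp_isEquivOver (K901.SubStack.liftFun x hx))
    (isEquivOver_refl _) (Iso.refl _)

theorem repByAlgSpWith_fpFst_inertia_of_factor {U : Over S} {x : FibCat.overCat U ⥤ᵇ 𝒳} (hx : ∀ u, Q (x.obj u))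
    (h : AlgSt.RepByAlgSpWith R (FibCat.diag (FibCat.toSelf (AlgSt.fullSub 𝒳 Q)))) :
    AlgSt.RepByAlgSpWith R (FibCat.fpFst x (FibCat.inertiaToBase (FibCat.toSelf 𝒳))) :=
  (repByAlgSpWith_fpFst_inertia_iff_of_factor hx).1
    (K734.Rep.repByAlgSpWith_fpFst R _ _ (K740.Inertia.repByAlgSpWith_inertiaToBase _ h))

/-- A property of a composite with a fully faithful functor. -/
theorem repByAlgSpWith_of_comp_ff {𝒴 : BasedCategory.{v', w'} (Over S)} {𝒵 : BasedCategory.{v₁, w₁} (Over S)}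
    {g : 𝒳 ⥤ᵇ 𝒴} {c : 𝒴 ⥤ᵇ 𝒵} (hc : c.toFunctor.Full) (hc' : c.toFunctor.Faithful)
    (h : AlgSt.RepByAlgSpWith R (BasedFunctor.comp g c)) : AlgSt.RepByAlgSpWith R g := by
  intro U y
  exact K735.Rep.RepOver.of_equiv' (h U (BasedFunctor.comp y c)) (fpPost y g c) (isEquivOver_fpPost y g c hc hc')
    (Iso.refl _)

theorem repByAlgSpWith_diag_fullSub
    (h : AlgSt.RepByAlgSpWith R (BasedFunctor.comp (AlgSt.subIncl 𝒳 Q) (FibCat.diag (FibCat.toSelf 𝒳)))) :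
    AlgSt.RepByAlgSpWith R (FibCat.diag (FibCat.toSelf (AlgSt.fullSub 𝒳 Q))) :=
  repByAlgSpWith_of_comp_ff (c := K901.OpenSub.inclProd 𝒳 Q) inferInstance inferInstance h

theorem full_subIncl_top : (AlgSt.subIncl 𝒳 (fun _ => True)).toFunctor.Full :=
  ⟨fun f => ⟨⟨f⟩, rfl⟩⟩

theorem isEquivOver_subIncl_top : FibCat.IsEquivOver (AlgSt.subIncl 𝒳 (fun _ => True)) := by
  refine isEquivOver_of ⟨fun f => ⟨⟨f⟩, rfl⟩⟩ ⟨fun {a b f g} h => ObjectProperty.hom_ext _ h⟩ fun x => ?_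
  exact ⟨⟨x, trivial⟩, Iso.refl _, IsVert.id x⟩

end Generic

section Main

variable {𝒳 : AlgSt.Cat S} {P : MorphismProperty Scheme.{u}}

/-- the objects over `T` with automorphism space having `P` lie in the largest open substack -/
theorem of_aut (hP : GLoc P) (hloc : IsLocalOnBase IsFppfCover (LocP (S := S) P))
    (h𝒳 : AlgSt.IsAlgStack Scheme.fppfPrecoverage 𝒳) {Q₀ : 𝒳.obj → Prop}
    (hQ₀ : AlgSt.IsOpenSubstack 𝒳 Q₀ Scheme.fppfPrecoverage)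
    (hQ₀P : AlgSt.RepByAlgSpWith (LocP P) (BasedFunctor.comp (AlgSt.subIncl 𝒳 Q₀) (FibCat.diag (FibCat.toSelf 𝒳))))
    (hQ₀max : ∀ Q₁ : 𝒳.obj → Prop, AlgSt.IsOpenSubstack 𝒳 Q₁ Scheme.fppfPrecoverage →
      AlgSt.RepByAlgSpWith (LocP P) (BasedFunctor.comp (AlgSt.subIncl 𝒳 Q₁) (FibCat.diag (FibCat.toSelf 𝒳))) →
        ∀ y, Q₁ y → Q₀ y)
    {U : Over S} {x : FibCat.overCat U ⥤ᵇ 𝒳}
    (hx : AlgSt.RepByAlgSpWith (LocP P) (FibCat.fpFst x (FibCat.inertiaToBase (FibCat.toSelf 𝒳)))) (u : (FibCat.overCat U).obj) :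
    Q₀ (x.obj u) := by
  have H := LOpen.setup_of_gLoc hP hloc
  have h𝒴 := K734.Rep.isAlgStack_prod h𝒳 h𝒳
  have hU := K744.AlgOver.isAlgStack_overCat U
  let z := BasedFunctor.comp x (FibCat.diag (FibCat.toSelf 𝒳))
  have hz : AlgSt.RepByAlgSpWith (⊤ : MorphismProperty (Sp S)) z :=
    (K735.Rep.repByAlgSp1_iff_top z).1 ((Groth.Agent.S12765.result h𝒴.isStack.1).1 h𝒴.diag U z)
  have hfp : AlgSt.IsAlgStack Scheme.fppfPrecoverage (FibCat.fp z (FibCat.diag (FibCat.toSelf 𝒳))) :=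
    K734.Rep.isAlgStack_fp (K734.Rep.isPrestack_of_isStack h𝒴.isStack) h𝒴.diag hU h𝒳 z _
  have hlft : AlgSt.RepByAlgSpWith (LocP @LocallyOfFiniteType) (FibCat.diag (FibCat.toSelf 𝒳)) :=
    Lft.repByAlgSpWith_lft_diag_toSelf h𝒳
  obtain ⟨-, -, h3⟩ := Groth.Agent.S19908.result h𝒳 h𝒴 hU (LocP P) (LocP @LocallyOfFiniteType) ⊤ H.hPb H.hQb
    (fun _ _ _ _ _ _ _ _ _ _ _ _ _ _ => trivial) H.hP K734.Rep.nice_lft.loc K734.Rep.nice_top.loc H.hsm H.ex H.bc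
    (FibCat.diag (FibCat.toSelf 𝒳)) hlft Q₀ hQ₀ hQ₀P hQ₀max z hz
  let i : BasedFunctor.comp (BasedFunctor.id (FibCat.overCat U)) z ≅
      BasedFunctor.comp x (FibCat.diag (FibCat.toSelf 𝒳)) := Iso.refl z
  let b := (FibCat.fpLift (BasedFunctor.id (FibCat.overCat U)) x i).obj u
  refine h3 (fun _ => True) ?_ ?_ b trivial
  · exact K899.OpenCrit.isOpenSubstack hfp fun x => ⟨⊤, fun y φ => ⟨fun _ => fun _ _ => trivial, fun _ => trivial⟩⟩
  · refine (K734.Rep.repByAlgSpWith_precomp_iff isEquivOver_subIncl_top _).2 ?_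
    exact (K740.Inertia.repByAlgSpWith_iff_of_equiv
      (F := FibCat.fpFst x (FibCat.inertiaToBase (FibCat.toSelf 𝒳)))
      (G := FibCat.fpFst z (FibCat.diag (FibCat.toSelf 𝒳))) (b := BasedFunctor.id (FibCat.overCat U))
      ((K740.Inertia.inertia_isCart (FibCat.toSelf 𝒳)).cmp_isEquivOver x) (isEquivOver_refl _) (Iso.refl _)).1 hx

/-- **The largest open substack with diagonal in `P`.** -/
theorem exists_largest (hP : GLoc P) (hloc : IsLocalOnBase IsFppfCover (LocP (S := S) P))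
    (h𝒳 : AlgSt.IsAlgStack Scheme.fppfPrecoverage 𝒳) :
    ∃ Q₀ : 𝒳.obj → Prop, AlgSt.IsOpenSubstack 𝒳 Q₀ Scheme.fppfPrecoverage ∧
      AlgSt.RepByAlgSpWith (LocP P) (FibCat.diag (FibCat.toSelf (AlgSt.fullSub 𝒳 Q₀))) ∧
      (∀ Q₁ : 𝒳.obj → Prop, AlgSt.IsOpenSubstack 𝒳 Q₁ Scheme.fppfPrecoverage →
        AlgSt.RepByAlgSpWith (LocP P) (FibCat.diag (FibCat.toSelf (AlgSt.fullSub 𝒳 Q₁))) → ∀ A, Q₁ A → Q₀ A) ∧
      ∀ (U : Over S) (x : FibCat.overCat U ⥤ᵇ 𝒳), (∀ u, Q₀ (x.obj u)) ↔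
        AlgSt.RepByAlgSpWith (LocP P) (FibCat.fpFst x (FibCat.inertiaToBase (FibCat.toSelf 𝒳))) := by
  have H := LOpen.setup_of_gLoc hP hloc
  have h𝒴 := K734.Rep.isAlgStack_prod h𝒳 h𝒳
  have hlft : AlgSt.RepByAlgSpWith (LocP @LocallyOfFiniteType) (FibCat.diag (FibCat.toSelf 𝒳)) :=
    Lft.repByAlgSpWith_lft_diag_toSelf h𝒳
  obtain ⟨Q₀, hO, hQP, hmax⟩ := Groth.Agent.S12877.result h𝒳 h𝒴 (LocP P) (LocP @LocallyOfFiniteType) ⊤ H.hPb H.hQb
    (fun _ _ _ _ _ _ _ _ _ _ _ _ _ _ => trivial) H.hP K734.Rep.nice_lft.loc K734.Rep.nice_top.loc H.hsm H.ex H.bc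
    (FibCat.diag (FibCat.toSelf 𝒳)) hlft
  refine ⟨Q₀, hO, repByAlgSpWith_diag_fullSub hQP, fun Q₁ hQ₁ h1 A hA => ?_, fun U x => ⟨fun h => ?_, fun h => ?_⟩⟩
  · have hX : FibCat.IsFibGrpd 𝒳.p := h𝒳.isStack.1
    obtain ⟨hiso, hl⟩ := (K737.OpenSt.isOpenSubstack_iff h𝒳 Q₁).1 hQ₁
    have hop := K737.OpenSt.hasOpenLocus_of_hasLoci hX hiso hl
    obtain ⟨x, e, he⟩ := K737.Core.exists_yo hX A rfl
    have hx : ∀ u, Q₁ (x.obj u) := fun u => hop.of_hom (K737.Core.toBase x u ≫ e.hom) hA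
    have h2 := of_aut hP hloc h𝒳 hO hQP hmax (repByAlgSpWith_fpFst_inertia_of_factor hx h1) (Over.mk (𝟙 (𝒳.p.obj A)))
    have := hO.1
    exact ObjectProperty.prop_of_iso Q₀ e h2
  · exact repByAlgSpWith_fpFst_inertia_of_factor h (repByAlgSpWith_diag_fullSub hQP)
  · exact of_aut hP hloc h𝒳 hO hQP hmax h

end Main

end K738.Unr
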