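import Groth.Agent.AlgSt.K738.Small4
import Groth.Agent.AlgSt.K738.Unr2
import Groth.Agent.AlgSt.K739.StabEt

/-!
# Transfer of open substacks along an equivalence over the base, and the largest open substack with diagonal in `P`
in any universes
-/

set_option autoImplicit false
set_option backward.isDefEq.respectTransparency false
set_option backward.isDefEq.respectTransparency.types false

universe v₁ w₁ v' w' v w u

open CategoryTheory CategoryTheory.Limits AlgebraicGeometry Opposite AlgSp K609.GrpLoc K734.Fib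

namespace K738.Unr

variable {S : Scheme.{u}}

section Transfer

variable {𝒜 : BasedCategory.{v, w} (Over S)} {ℬ : BasedCategory.{v', w'} (Over S)} (g : 𝒜 ⥤ᵇ ℬ) {Q : ℬ.obj → Prop}

/-- Open conditions pull back. -/
theorem hasOpenLocus_comap (hQ : K899.OpenCrit.HasOpenLocus Q) :
    K899.OpenCrit.HasOpenLocus (fun a => Q (g.obj a)) := by
  intro a
  obtain ⟨O, hO⟩ := hQ (g.obj a)
  refine ⟨(eqToHom (g.w_obj a).symm).left ⁻¹ᵁ O, fun b φ => ?_⟩
  change Q (g.obj b) ↔ _
  rw [hO _ (g.map φ), K735.Fib.map_map g φ]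
  exact LOpen.range_conj_iff _ _ _ _

/-- The restriction of a functor to full subcategories. -/
def resFun (Q : ℬ.obj → Prop) : AlgSt.fullSub 𝒜 (fun a => Q (g.obj a)) ⥤ᵇ AlgSt.fullSub ℬ Q :=
  K901.SubStack.liftFun (BasedFunctor.comp (AlgSt.subIncl 𝒜 (fun a => Q (g.obj a))) g) (fun a => a.property)

theorem isEquivOver_resFun (hg : FibCat.IsEquivOver g) (hQ : ObjectProperty.IsClosedUnderIsomorphisms Q) :
    FibCat.IsEquivOver (resFun g Q) := by
  have h1 := full_of hg
  have h2 := faithful_of hg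
  refine isEquivOver_of ⟨?_⟩ ⟨?_⟩ ?_
  · intro a b f
    obtain ⟨φ, hφ⟩ := g.toFunctor.map_surjective f.hom
    exact ⟨⟨φ⟩, ObjectProperty.hom_ext _ hφ⟩
  · intro a b f f' h
    apply ObjectProperty.hom_ext
    exact g.toFunctor.map_injective (congrArg (fun t => t.hom) h)
  · intro y
    obtain ⟨x, i, hi⟩ := essSurjOver_of hg y.obj
    have hx : Q (g.obj x) := ObjectProperty.prop_of_iso Q i.symm y.property
    exact ⟨⟨x, hx⟩, ObjectProperty.isoMk _ i, IsVert.of_map (AlgSt.subIncl ℬ Q) hi⟩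

/-- The inertia over a chart is invariant under an equivalence over the base. -/
theorem repByAlgSpWith_fpFst_inertia_iff (hg : FibCat.IsEquivOver g) {R : MorphismProperty (Sp S)} {U : Over S}
    (x : FibCat.overCat U ⥤ᵇ 𝒜) : AlgSt.RepByAlgSpWith R (FibCat.fpFst x (FibCat.inertiaToBase (FibCat.toSelf 𝒜))) ↔
      AlgSt.RepByAlgSpWith R (FibCat.fpFst (BasedFunctor.comp x g) (FibCat.inertiaToBase (FibCat.toSelf ℬ))) := by
  have h1 := full_of hg
  have h2 := faithful_of hg
  have hc := K739.StabEt.isCart_inertia g h2 (fun a α hα => by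
    refine ⟨g.toFunctor.preimageIso α, ?_, g.toFunctor.map_preimage α.hom⟩
    rw [← K735.Fib.vert_map_iff g]
    change K735.Fib.Vert ℬ.p (g.toFunctor.map (g.toFunctor.preimage α.hom))
    rw [g.toFunctor.map_preimage]
    exact hα)
  exact K740.Inertia.repByAlgSpWith_iff_of_equiv
    (F := FibCat.fpFst x (FibCat.inertiaToBase (FibCat.toSelf 𝒜)))
    (G := FibCat.fpFst (BasedFunctor.comp x g) (FibCat.inertiaToBase (FibCat.toSelf ℬ)))
    (b := BasedFunctor.id (FibCat.overCat U)) (hc.cmp_isEquivOver x) (isEquivOver_refl _) (Iso.refl _)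

end Transfer

section Any

variable {𝒳 : BasedCategory.{v, w} (Over S)}

/-- an open substack has an open locus, in any universes -/
theorem hasOpenLocus_of (h𝒳 : AlgSt.IsAlgStack Scheme.fppfPrecoverage 𝒳) {Q : 𝒳.obj → Prop}
    (hQ : AlgSt.IsOpenSubstack 𝒳 Q Scheme.fppfPrecoverage) : K899.OpenCrit.HasOpenLocus Q := by
  obtain ⟨hiso, hl⟩ := (K737.OpenSt.isOpenSubstack_iff h𝒳 Q).1 hQ
  exact K737.OpenSt.hasOpenLocus_of_hasLoci h𝒳.isStack.1 hiso hl

end Any

end K738.Unr
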